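import Cfsg.Agent.Lib.Classical.TensorOrth.Gen
import Cfsg.Agent.Lib.Classical.TensorOrthNotMax
import Cfsg.Agent.Lib.Classical.OrthStab
import Cfsg.Agent.Lib.Classical.OrthForms

set_option autoImplicit false
set_option linter.unusedSectionVars false

/-!
The stabiliser in `Ω` of a tensor product of two orthogonal spaces of different dimensions is maximal, in odd
characteristic.
-/

namespace CfsgLib.Classical.TensorOrth

open Matrix CfsgLib.Classical.TensorMax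
open scoped MatrixGroups Kronecker

variable {F : Type*} [Field F] {ι α β : Type} [Fintype ι] [DecidableEq ι] [Fintype α] [DecidableEq α] [Fintype β]
  [DecidableEq β]

/-- The coordinates of a tensor decomposition. -/
def coords (e : ι ≃ α × β) (P : GL ι F) : (α × β → F) →ₗ[F] (ι → F) :=
  (Matrix.mulVecLin (P : Matrix ι ι F)).comp (LinearMap.funLeft F F e)

theorem coords_apply (e : ι ≃ α × β) (P : GL ι F) (z : α × β → F) :
    coords e P z = (P : Matrix ι ι F) *ᵥ (z ∘ e) := rfl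

/-- The isomorphism of a tensor decomposition. -/
noncomputable def toGL (e : ι ≃ α × β) (P : GL ι F) : GL (α × β) F ≃* GL ι F :=
  (Cfsg.Geo.glReindex (F := F) e.symm).trans (MulAut.conj P)

theorem exists_form {γ : Type} [Fintype γ] [DecidableEq γ] (h2 : (2 : F) ≠ 0) {J : Matrix γ γ F} (hJ : Jᵀ = J)
    (hd : J.det ≠ 0) : ∃ Q₁ : QuadraticForm F (γ → F), Gram Q₁ J ∧ ∀ x, 2 * Q₁ x = x ⬝ᵥ J *ᵥ x := by
  have hsymm : ∀ x y : γ → F, y ⬝ᵥ J *ᵥ x = x ⬝ᵥ J *ᵥ y := fun x y => by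
    rw [Matrix.dotProduct_mulVec, ← Matrix.mulVec_transpose, hJ, dotProduct_comm]
  obtain ⟨Q₁, hQ⟩ : ∃ Q₁ : QuadraticForm F (γ → F), ∀ x, Q₁ x = (2 : F)⁻¹ * (x ⬝ᵥ J *ᵥ x) :=
    ⟨LinearMap.BilinMap.toQuadraticMap ((2 : F)⁻¹ • Matrix.toLinearMap₂' F J), fun x => by
      rw [LinearMap.BilinMap.toQuadraticMap_apply, LinearMap.smul_apply, LinearMap.smul_apply, smul_eq_mul,
        Matrix.toLinearMap₂'_apply']⟩
  have hpol : ∀ x y, QuadraticMap.polar ⇑Q₁ x y = x ⬝ᵥ J *ᵥ y := fun x y => by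
    simp only [QuadraticMap.polar, hQ, Matrix.mulVec_add, dotProduct_add, add_dotProduct, hsymm x y]
    field_simp
    ring
  refine ⟨Q₁, ⟨h2, hpol, fun x hx => ?_⟩, fun x => by rw [hQ, ← mul_assoc, mul_inv_cancel₀ h2, one_mul]⟩
  by_contra hx0
  refine hd (Matrix.exists_mulVec_eq_zero_iff.1 ⟨x, hx0, funext fun i => ?_⟩)
  have := hx (Pi.single i 1)
  rw [CfsgLib.Orth.b_comm, hpol, single_dotProduct, one_mul] at this
  exact this

theorem gram_symm {κ : Type} [Fintype κ] [DecidableEq κ] {f : (κ → F) → (κ → F) → F}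
    (hf : Cfsg.Geo.IsSymmetricForm f) : (Cfsg.Geo.gramMatrix f)ᵀ = Cfsg.Geo.gramMatrix f := by
  ext i j
  exact hf.symm _ _

theorem gram_det [Fintype F] {k : ℕ} {f : (Fin k → F) → (Fin k → F) → F}
    (hf : Cfsg.Geo.IsSymmetricForm f) : (Cfsg.Geo.gramMatrix f).det ≠ 0 := by
  intro h0
  obtain ⟨v, hv, hv'⟩ := Matrix.exists_mulVec_eq_zero_iff.2 h0
  obtain ⟨⟨x, hx⟩, -⟩ := hf.nondegenerate v hv
  exact hx (by rw [TensorOrthNotMax.apply_eq_gram hf.bilinear, hv', dotProduct_zero])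

theorem smul_symm {γ : Type} (c : F) {J : Matrix γ γ F} (hJ : Jᵀ = J) : (c • J)ᵀ = c • J := by
  rw [Matrix.transpose_smul, hJ]

theorem smul_det {γ : Type} [Fintype γ] [DecidableEq γ] {c : F} (hc : c ≠ 0) {J : Matrix γ γ F} (hJ : J.det ≠ 0) :
    (c • J).det ≠ 0 := by
  rw [Matrix.det_smul]
  exact mul_ne_zero (pow_ne_zero _ hc) hJ

theorem excl_three [Fintype F] {k : ℕ} (hk : 3 ≤ k) (hex : ¬ (Fintype.card F = 3 ∧ k = 3))
    (h2 : (2 : F) ≠ 0) : 4 ≤ k ∨ ∃ t : F, t ≠ 0 ∧ t * t ≠ 1 := by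
  classical
  by_cases h : 4 ≤ k
  · exact Or.inl h
  refine Or.inr (by_contra fun hne => hex ⟨?_, by omega⟩)
  push Not at hne
  refine le_antisymm ?_ ?_
  · calc Fintype.card F = (Finset.univ : Finset F).card := Finset.card_univ.symm
      _ ≤ ({0, 1, -1} : Finset F).card := Finset.card_le_card fun t _ => by
          by_cases ht : t = 0
          · simp [ht]
          · rcases mul_self_eq_one_iff.1 (hne t ht) with h1 | h1 <;> simp [h1]
      _ ≤ 3 := Finset.card_le_three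
  · calc 3 = ({0, 1, -1} : Finset F).card := by
          rw [Finset.card_insert_of_notMem (by simp [eq_comm (a := (0 : F))]), Finset.card_insert_of_notMem (by
            rw [Finset.mem_singleton]
            intro h1
            exact h2 (by linear_combination h1)), Finset.card_singleton]
      _ ≤ Fintype.card F := Finset.card_le_univ _

/-- No singular planes in the four-dimensional space of minus type. -/
theorem excl_four [Fintype F] {k : ℕ} {f : (Fin k → F) → (Fin k → F) → F} (hf : Cfsg.Geo.IsSymmetricForm f)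
    (hm : ¬ Cfsg.Geo.IsPlusTypeOn (fun v : Fin k → F => f v v) ⊤) {c : F} (hc : c ≠ 0) (hk : k = 4)
    {Q₁ : QuadraticForm F (Fin k → F)}
    (hQ₁ : ∀ x, 2 * Q₁ x = x ⬝ᵥ (c • Cfsg.Geo.gramMatrix f) *ᵥ x) {u v : Fin k → F} (hu : Q₁ u = 0) (hv : Q₁ v = 0)
    (huv : QuadraticMap.polar ⇑Q₁ u v = 0) (hu0 : u ≠ 0) : ∃ d : F, v = d • u := by
  by_contra hne
  push Not at hne
  refine hm ⟨Submodule.span F {u, v}, le_top, fun w hw => ?_, ?_⟩
  · obtain ⟨a, b, rfl⟩ := Submodule.mem_span_pair.1 hw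
    have h0 : Q₁ (a • u + b • v) = 0 := by
      rw [CfsgLib.Orth.q_add, CfsgLib.Orth.q_smul, CfsgLib.Orth.q_smul, hu, hv, CfsgLib.Orth.b_smul_left,
        CfsgLib.Orth.b_smul_right, huv]
      ring
    have e := hQ₁ (a • u + b • v)
    rw [h0, mul_zero, Matrix.smul_mulVec, dotProduct_smul, smul_eq_mul, eq_comm, mul_eq_zero,
      or_iff_right hc] at e
    show f (a • u + b • v) (a • u + b • v) = 0
    rw [TensorOrthNotMax.apply_eq_gram hf.bilinear, e]
  · have hli : LinearIndependent F ![u, v] := (LinearIndependent.pair_iff' hu0).2 fun a e => hne a e.symm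
    have := finrank_span_eq_card hli
    rw [Matrix.range_cons_cons_empty, Fintype.card_fin] at this
    rw [this, finrank_top, Module.finrank_pi, Fintype.card_fin, hk]

theorem isMaximalIn [Fintype F] {Q : QuadraticForm F (ι → F)} (e : ι ≃ α × β) (P : GL ι F)
    {JA : Matrix α α F} {JB : Matrix β β F} {QA : QuadraticForm F (α → F)} {QB : QuadraticForm F (β → F)}
    (gA : Gram QA JA) (gB : Gram QB JB)
    (hpol : ∀ x y, QuadraticMap.polar ⇑Q (coords e P x) (coords e P y) = x ⬝ᵥ (JA ⊗ₖ JB) *ᵥ y)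
    (h3 : 3 ≤ Fintype.card α) (h5 : 5 ≤ Fintype.card β) (hlt : Fintype.card α < Fintype.card β)
    (hex3 : 4 ≤ Fintype.card α ∨ ∃ t : F, t ≠ 0 ∧ t * t ≠ 1)
    (hex4 : Fintype.card α = 4 → ∀ u v : α → F, QA u = 0 → QA v = 0 → QuadraticMap.polar ⇑QA u v = 0 → u ≠ 0 →
      ∃ c : F, v = c • u)
    {X : Subgroup (GL ι F)} (hkr : ∀ g : GL (α × β) F, toGL e P g ∈ X ↔ Tens g.1) :
    Cfsg.Geo.IsMaximalIn (Cfsg.Geo.omegaGL ⇑Q) (X ⊓ Cfsg.Geo.omegaGL ⇑Q) := by
  classical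
  obtain ⟨φ, hφ⟩ : ∃ φ, φ = toGL e P := ⟨_, rfl⟩
  rw [← hφ] at hkr
  set Q₀ : QuadraticForm F (α × β → F) := Q.comp (coords e P) with hQ₀
  have hap : ∀ (g : GL (α × β) F) z, (φ g).1 *ᵥ coords e P z = coords e P (g.1 *ᵥ z) := by
    intro g z
    rw [hφ]
    show ((P : Matrix ι ι F) * Matrix.submatrix g.1 e e * (P⁻¹ : GL ι F).1) *ᵥ _ = _
    rw [coords_apply, coords_apply, Matrix.mulVec_mulVec, Matrix.mul_assoc, Units.inv_mul, Matrix.mul_one,
      ← Matrix.mulVec_mulVec, Matrix.submatrix_mulVec_equiv]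
    congr 2
    rw [Function.comp_assoc, Equiv.self_comp_symm, Function.comp_id]
  have hsurj : ∀ v, ∃ z, coords e P z = v := fun v => ⟨((P⁻¹ : GL ι F).1 *ᵥ v) ∘ e.symm, by
    rw [coords_apply, Function.comp_assoc, Equiv.symm_comp_self, Function.comp_id, Matrix.mulVec_mulVec,
      Units.mul_inv, Matrix.one_mulVec]⟩
  have hiso : (Cfsg.isometryGroup F ⇑Q₀).map φ.toMonoidHom = Cfsg.isometryGroup F ⇑Q := by
    ext x
    constructor
    · rintro ⟨g, hg, rfl⟩ u w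
      obtain ⟨z, rfl⟩ := hsurj u
      show Q ((φ g).1 *ᵥ coords e P z) = Q (coords e P z)
      rw [hap]
      exact hg z z
    · intro hx
      obtain ⟨g, rfl⟩ := φ.surjective x
      refine ⟨g, fun z w => ?_, rfl⟩
      have h0 : Q ((φ g).1 *ᵥ coords e P z) = Q (coords e P z) := hx _ (coords e P w)
      rw [hap] at h0
      exact h0
  have hom : (Cfsg.Geo.omegaGL ⇑Q₀).map φ.toMonoidHom = Cfsg.Geo.omegaGL ⇑Q := by
    simp only [Cfsg.Geo.omegaGL, Cfsg.Omega, Subgroup.map_subtype_commutator, Subgroup.map_commutator, hiso]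
  have homg : ∀ g, φ g ∈ Cfsg.Geo.omegaGL ⇑Q ↔ g ∈ Cfsg.Geo.omegaGL ⇑Q₀ := fun g => by
    rw [← hom]
    exact Subgroup.mem_map_iff_mem (f := φ.toMonoidHom) φ.injective
  have hpol0 : ∀ x y, QuadraticMap.polar ⇑Q₀ x y = x ⬝ᵥ (JA ⊗ₖ JB) *ᵥ y := by
    intro x y
    have h0 : QuadraticMap.polar ⇑Q₀ x y = QuadraticMap.polar ⇑Q (coords e P x) (coords e P y) := by
      simp only [QuadraticMap.polar, hQ₀, QuadraticMap.comp_apply, map_add]
    rw [h0, hpol]
  have mk : ∀ M : Subgroup (GL (α × β) F), M ≤ Cfsg.Geo.omegaGL ⇑Q₀ →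
      (∀ g, g ∈ Cfsg.Geo.omegaGL ⇑Q₀ → Tens g.1 → g ∈ M) → Hyp QA QB JA JB Q₀ M := fun M hle ht =>
    { gA := gA
      gB := gB
      polar := hpol0
      three := h3
      five := h5
      lt := hlt
      excl3 := hex3
      excl4 := hex4
      le := hle
      tens := ht }
  refine ⟨lt_of_le_of_ne inf_le_right fun hh => ?_, fun K hK hK' => ?_⟩
  · obtain ⟨g, hg, hnt⟩ := (mk _ le_rfl fun g hg _ => hg).exists_not_tens
    refine hnt ((hkr g).1 ?_)
    have := (homg g).2 hg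
    rw [← hh] at this
    exact this.1
  · have H := mk (K.comap φ.toMonoidHom) (fun g hg => (homg g).1 (hK' hg))
      fun g hg ht => hK ⟨(hkr g).2 ht, (homg g).2 hg⟩
    rcases H.dichotomy with h | h
    · refine Or.inl (le_antisymm (fun y hy => ?_) hK)
      obtain ⟨g, rfl⟩ := φ.surjective y
      exact ⟨(hkr g).2 (h g hy), hK' hy⟩
    · refine Or.inr (le_antisymm hK' fun y hy => ?_)
      obtain ⟨g, rfl⟩ := φ.surjective y
      have : g ∈ K.comap φ.toMonoidHom := h ▸ (homg g).1 hy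
      exact this

theorem toGL_mem_iff {n₁ n₂ : ℕ} [Nonempty (Fin n₁)] [Nonempty (Fin n₂)] (e : ι ≃ Fin n₁ × Fin n₂) (P : GL ι F)
    (g : GL (Fin n₁ × Fin n₂) F) :
    toGL e P g ∈ Cfsg.Geo.tensorProductSubgroup n₁ n₂ e P ↔ Tens g.1 := by
  constructor
  · rintro ⟨_, ⟨x, ⟨a, b, hx⟩, rfl⟩, hx'⟩
    have : x = g := (toGL e P).injective hx'
    exact ⟨_, _, this ▸ hx⟩
  · rintro ⟨S, T, hST⟩
    have hd : (S ⊗ₖ T).det ≠ 0 := hST ▸ ((Matrix.isUnit_iff_isUnit_det _).1 g.isUnit).ne_zero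
    rw [Matrix.det_kronecker] at hd
    have hS : S.det ≠ 0 := fun h0 => hd (by
      rw [h0, zero_pow Fintype.card_ne_zero, zero_mul])
    have hT : T.det ≠ 0 := fun h0 => hd (by
      rw [h0, zero_pow Fintype.card_ne_zero, mul_zero])
    exact ⟨_, ⟨g, ⟨Matrix.GeneralLinearGroup.mkOfDetNeZero S hS, Matrix.GeneralLinearGroup.mkOfDetNeZero T hT,
      hST⟩, rfl⟩, rfl⟩

theorem tens_swap {g : GL (β × α) F} :
    Tens (Cfsg.Geo.glReindex (F := F) (Equiv.prodComm β α) g).1 ↔ Tens g.1 := by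
  have hval : (Cfsg.Geo.glReindex (F := F) (Equiv.prodComm β α) g).1 =
      g.1.submatrix (Equiv.prodComm α β) (Equiv.prodComm α β) := rfl
  constructor
  · rintro ⟨S, T, h⟩
    refine ⟨T, S, ?_⟩
    ext ⟨i, j⟩ ⟨k, l⟩
    have := congrFun₂ (hval.symm.trans h) (j, i) (l, k)
    simpa [Matrix.kronecker_apply, mul_comm] using this
  · rintro ⟨S, T, h⟩
    refine ⟨T, S, ?_⟩
    rw [hval, h]
    ext ⟨i, j⟩ ⟨k, l⟩
    simp [Matrix.kronecker_apply, mul_comm]

theorem toGL_swap (e : ι ≃ α × β) (P : GL ι F) (g : GL (β × α) F) :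
    toGL (e.trans (Equiv.prodComm α β)) P g = toGL e P (Cfsg.Geo.glReindex (F := F) (Equiv.prodComm β α) g) := by
  refine Units.ext ?_
  show (P : Matrix ι ι F) * Matrix.submatrix g.1 (e.trans (Equiv.prodComm α β)) (e.trans (Equiv.prodComm α β)) *
      (P⁻¹ : GL ι F).1 = (P : Matrix ι ι F) *
      Matrix.submatrix (Matrix.submatrix g.1 (Equiv.prodComm α β) (Equiv.prodComm α β)) e e * (P⁻¹ : GL ι F).1
  rw [Matrix.submatrix_submatrix]
  rfl

theorem kron_swap (A : Matrix α α F) (B : Matrix β β F) (x y : β × α → F) :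
    (x ∘ Equiv.prodComm α β) ⬝ᵥ (A ⊗ₖ B) *ᵥ (y ∘ Equiv.prodComm α β) = x ⬝ᵥ (B ⊗ₖ A) *ᵥ y := by
  have e : (A ⊗ₖ B) = (B ⊗ₖ A).submatrix (Equiv.prodComm α β) (Equiv.prodComm α β) := by
    ext ⟨i, j⟩ ⟨k, l⟩
    simp [Matrix.kronecker_apply, mul_comm]
  rw [e, Matrix.submatrix_mulVec_equiv, Function.comp_assoc, Equiv.self_comp_symm, Function.comp_id,
    comp_equiv_dotProduct_comp_equiv]

theorem formOfGram_eq {κ : Type} [Fintype κ] (G : Matrix κ κ F) (x y : κ → F) :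
    Cfsg.Geo.formOfGram id G x y = x ⬝ᵥ G *ᵥ y := by
  rw [Cfsg.Geo.formOfGram, dotProduct]
  simp only [Matrix.mulVec, dotProduct, id, Finset.mul_sum, mul_assoc]

/-- The odd-dimensional case. -/
theorem isMaximalIn_odd [Fintype F] {m n₁ n₂ : ℕ} (hodd : Odd (Fintype.card F)) (hm : 6 ≤ m) (h1 : 3 ≤ n₁)
    (h12 : n₁ < n₂) (hex : ¬ (Fintype.card F = 3 ∧ n₁ = 3)) (e : (Unit ⊕ (Fin m ⊕ Fin m)) ≃ Fin n₁ × Fin n₂)
    (P : GL (Unit ⊕ (Fin m ⊕ Fin m)) F) {f₁ : (Fin n₁ → F) → (Fin n₁ → F) → F}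
    {f₂ : (Fin n₂ → F) → (Fin n₂ → F) → F} (hf₁ : Cfsg.Geo.IsSymmetricForm f₁) (hf₂ : Cfsg.Geo.IsSymmetricForm f₂)
    (hT : Cfsg.Geo.IsTensorFormStructure id (QuadraticMap.polar (Cfsg.quadFormOdd m F)) f₁ f₂ e P) :
    Cfsg.Geo.IsMaximalIn (Cfsg.Geo.omegaGL (Cfsg.quadFormOdd m F))
      (Cfsg.Geo.tensorProductSubgroup n₁ n₂ e P ⊓ Cfsg.Geo.omegaGL (Cfsg.quadFormOdd m F)) := by
  have h2 : (2 : F) ≠ 0 := Ring.two_ne_zero fun h => by
    have := FiniteField.even_card_iff_char_two.1 h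
    obtain ⟨j, hj⟩ := hodd
    omega
  obtain ⟨Q, hQ, -⟩ := CfsgLib.Orth.exists_quadForm_odd (F := F) h2 m
  rw [← hQ] at hT ⊢
  obtain ⟨c, hc, hB⟩ := hT
  have hcard : 2 * m + 1 = n₁ * n₂ := by
    have := Fintype.card_congr e
    simp only [Fintype.card_sum, Fintype.card_unit, Fintype.card_fin, Fintype.card_prod] at this
    omega
  have hp : Odd (n₁ * n₂) := ⟨m, hcard.symm⟩
  have hodd₁ : Odd n₁ := (Nat.odd_mul.1 hp).1
  have hodd₂ : Odd n₂ := (Nat.odd_mul.1 hp).2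
  obtain ⟨QA, gA, hA⟩ := exists_form h2 (smul_symm c (gram_symm hf₁)) (smul_det hc (gram_det hf₁))
  obtain ⟨QB, gB, -⟩ := exists_form h2 (gram_symm hf₂) (gram_det hf₂)
  haveI : Nonempty (Fin n₁) := ⟨⟨0, by omega⟩⟩
  haveI : Nonempty (Fin n₂) := ⟨⟨0, by omega⟩⟩
  obtain ⟨i, hi⟩ := hodd₁
  obtain ⟨j, hj⟩ := hodd₂
  refine isMaximalIn e P gA gB (fun x y => ?_) (by simpa using h1) (by simp only [Fintype.card_fin]; omega)
    (by simpa using h12) (by simpa using excl_three h1 hex h2)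
    (fun h4 => absurd h4 (by simp only [Fintype.card_fin]; omega)) (toGL_mem_iff e P)
  rw [coords_apply, coords_apply, hB, formOfGram_eq, Matrix.smul_kronecker, Matrix.smul_mulVec, dotProduct_smul,
    smul_eq_mul]

/-- The even-dimensional case with an odd factor. -/
theorem isMaximalIn_minus [Fintype F] {n n₁ n₂ : ℕ} (hn : 13 ≤ n) {Q : QuadraticForm F (Fin n → F)}
    (hodd : Odd (Fintype.card F)) (h1 : 3 ≤ n₁) (h1o : Odd n₁) (h2' : 4 ≤ n₂) (h2e : Even n₂)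
    (hex : ¬ (Fintype.card F = 3 ∧ n₁ = 3)) (e : Fin n ≃ Fin n₁ × Fin n₂) (P : GL (Fin n) F)
    {f₁ : (Fin n₁ → F) → (Fin n₁ → F) → F}
    {f₂ : (Fin n₂ → F) → (Fin n₂ → F) → F} (hf₁ : Cfsg.Geo.IsSymmetricForm f₁) (hf₂ : Cfsg.Geo.IsSymmetricForm f₂)
    (hf₂m : ¬ Cfsg.Geo.IsPlusTypeOn (fun v : Fin n₂ → F => f₂ v v) ⊤)
    (hT : Cfsg.Geo.IsTensorFormStructure id (QuadraticMap.polar ⇑Q) f₁ f₂ e P) :
    Cfsg.Geo.IsMaximalIn (Cfsg.Geo.omegaGL ⇑Q) (Cfsg.Geo.tensorProductSubgroup n₁ n₂ e P ⊓ Cfsg.Geo.omegaGL ⇑Q) := by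
  have h2 : (2 : F) ≠ 0 := Ring.two_ne_zero fun h => by
    have := FiniteField.even_card_iff_char_two.1 h
    obtain ⟨j, hj⟩ := hodd
    omega
  obtain ⟨c, hc, hB⟩ := hT
  have hcard : n = n₁ * n₂ := by simpa [Fintype.card_prod] using Fintype.card_congr e
  haveI : Nonempty (Fin n₁) := ⟨⟨0, by omega⟩⟩
  haveI : Nonempty (Fin n₂) := ⟨⟨0, by omega⟩⟩
  obtain ⟨i, hi⟩ := h1o
  obtain ⟨j, hj⟩ := h2e
  rcases Nat.lt_or_ge n₁ n₂ with h12 | h21
  · obtain ⟨QA, gA, -⟩ := exists_form h2 (smul_symm c (gram_symm hf₁)) (smul_det hc (gram_det hf₁))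
    obtain ⟨QB, gB, -⟩ := exists_form h2 (gram_symm hf₂) (gram_det hf₂)
    have h5 : 5 ≤ n₂ := by
      by_contra h
      have : n₁ * n₂ ≤ 3 * 4 := Nat.mul_le_mul (by omega) (by omega)
      omega
    refine isMaximalIn e P gA gB (fun x y => ?_) (by simpa using h1) (by simpa using h5)
      (by simpa using h12) (by simpa using excl_three h1 hex h2)
      (fun h4 => absurd h4 (by simp only [Fintype.card_fin]; omega)) (toGL_mem_iff e P)
    rw [coords_apply, coords_apply, hB, formOfGram_eq, Matrix.smul_kronecker, Matrix.smul_mulVec, dotProduct_smul,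
      smul_eq_mul]
  · have h21' : n₂ < n₁ := by omega
    obtain ⟨QA, gA, hA⟩ := exists_form h2 (smul_symm c (gram_symm hf₂)) (smul_det hc (gram_det hf₂))
    obtain ⟨QB, gB, -⟩ := exists_form h2 (gram_symm hf₁) (gram_det hf₁)
    refine isMaximalIn (e.trans (Equiv.prodComm _ _)) P gA gB (fun x y => ?_) (by simp only [Fintype.card_fin]; omega)
      (by simp only [Fintype.card_fin]; omega) (by simpa using h21')
      (Or.inl (by simpa using h2'))
      (fun h4 u v hu hv huv hu0 => excl_four hf₂ hf₂m hc (by simpa using h4) hA hu hv huv hu0) (fun g => ?_)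
    · rw [coords_apply, coords_apply, Equiv.coe_trans, ← Function.comp_assoc, ← Function.comp_assoc, hB,
        formOfGram_eq, kron_swap, Matrix.smul_kronecker, Matrix.smul_mulVec, dotProduct_smul, smul_eq_mul]
    · rw [toGL_swap, toGL_mem_iff, tens_swap]

end CfsgLib.Classical.TensorOrth
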