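import Cfsg.Agent.Lib.Classical.TensorOrth.Base

set_option autoImplicit false
set_option linter.unusedSectionVars false

/-!
A unital algebra of matrices closed under the adjoint and invariant under the Siegel transformations of an
orthogonal space consists of scalars or of all matrices.
-/

namespace CfsgLib.Classical.TensorOrth

open Matrix CfsgLib.Orth
open CfsgLib.Classical.TensorSymp (adj)
open scoped MatrixGroups

variable {F : Type*} [Field F] [Finite F] {γ : Type} [Fintype γ] [DecidableEq γ]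

/-- The rank one map `z ↦ B(y, z) x`. -/
def rk (J : Matrix γ γ F) (x y : γ → F) : Matrix γ γ F := Matrix.vecMulVec x (J *ᵥ y)

/-- The hypotheses on a space of matrices invariant under the Siegel transformations. -/
structure Lin (QA : QuadraticForm F (γ → F)) (J : Matrix γ γ F) (P : Matrix γ γ F → Prop) : Prop where
  g : Gram QA J
  three : 3 ≤ Fintype.card γ
  excl3 : 4 ≤ Fintype.card γ ∨ ∃ t : F, t ≠ 0 ∧ t * t ≠ 1
  add : ∀ {E E'}, P E → P E' → P (E + E')
  smul : ∀ {E}, P E → ∀ c : F, P (c • E)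
  conj : ∀ {E}, P E → ∀ S ∈ El QA, P ((S : GL γ F).1 * E * ((S⁻¹ : Grp QA) : GL γ F).1)

/-- The hypotheses on the algebra. -/
structure Alg (QA : QuadraticForm F (γ → F)) (J : Matrix γ γ F) (P : Matrix γ γ F → Prop) : Prop
    extends Lin QA J P where
  excl4 : Fintype.card γ = 4 → ∀ u v : γ → F, QA u = 0 → QA v = 0 → QuadraticMap.polar ⇑QA u v = 0 →
    u ≠ 0 → ∃ c : F, v = c • u
  one : P 1
  mul : ∀ {E E'}, P E → P E' → P (E * E')
  adjoint : ∀ {E}, P E → P (adj J E)

variable {QA : QuadraticForm F (γ → F)} {J : Matrix γ γ F}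

namespace Gram

variable (h : Gram QA J)
include h

theorem rk_mul (a b c d : γ → F) : rk J a b * rk J c d = QuadraticMap.polar ⇑QA b c • rk J a d := by
  rw [rk, rk, rk, Matrix.vecMulVec_mul_vecMulVec, h.dot_polar, Matrix.vecMulVec_smul]

theorem rk_mulVec (a b z : γ → F) : rk J a b *ᵥ z = QuadraticMap.polar ⇑QA b z • a := by
  rw [rk, Matrix.vecMulVec_mulVec, op_smul_eq_smul, h.dot_polar]

theorem mul_rk (E : Matrix γ γ F) (a b : γ → F) : E * rk J a b = rk J (E *ᵥ a) b := by
  rw [rk, rk, Matrix.mul_vecMulVec]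

theorem adj_rk (a b : γ → F) : adj J (rk J a b) = rk J b a := h.adj_vecMulVec a b

theorem rk_mul_left (E : Matrix γ γ F) (a b : γ → F) : rk J a b * E = rk J a (adj J E *ᵥ b) := by
  calc rk J a b * E = adj J (adj J (rk J a b * E)) := (h.adj_adj _).symm
    _ = _ := by rw [h.adj_mul, h.adj_rk, h.mul_rk, h.adj_rk]

theorem rk_sandwich (E : Matrix γ γ F) (a b c d : γ → F) :
    rk J a b * E * rk J c d = QuadraticMap.polar ⇑QA b (E *ᵥ c) • rk J a d := by
  rw [Matrix.mul_assoc, h.mul_rk, h.rk_mul]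

theorem rk_add_left (a a' b : γ → F) : rk J (a + a') b = rk J a b + rk J a' b := Matrix.add_vecMulVec _ _ _

theorem rk_smul_left (c : F) (a b : γ → F) : rk J (c • a) b = c • rk J a b := Matrix.smul_vecMulVec _ _ _

theorem rk_smul_right (c : F) (a b : γ → F) : rk J a (c • b) = c • rk J a b := by
  rw [rk, rk, Matrix.mulVec_smul, Matrix.vecMulVec_smul]

theorem pol_adj (E : Matrix γ γ F) (x y : γ → F) :
    QuadraticMap.polar ⇑QA x (adj J E *ᵥ y) = QuadraticMap.polar ⇑QA y (E *ᵥ x) := by
  rw [b_comm, ← h.dot_polar, h.form_adj, h.dot_polar]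

theorem rk_conj (S : Grp QA) (a b : γ → F) :
    (S : GL γ F).1 * rk J a b * ((S⁻¹ : Grp QA) : GL γ F).1 = rk J (ap S a) (ap S b) := by
  rw [h.mul_rk, h.rk_mul_left, h.adj_grp, inv_inv]
  rfl

/-- The partners of a singular vector together with it span everything. -/
theorem partner_decomp {u : γ → F} (hu : QA u = 0) (hu0 : u ≠ 0) {u' : γ → F} (hu' : QA u' = 0)
    (huu : QuadraticMap.polar ⇑QA u u' = 1) (x : γ → F) :
    ∃ (a b : F) (z : γ → F), QuadraticMap.polar ⇑QA u z = 0 ∧ QuadraticMap.polar ⇑QA u' z = 0 ∧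
      x = a • u + b • u' + z := by
  refine ⟨QuadraticMap.polar ⇑QA u' x, QuadraticMap.polar ⇑QA u x,
    x - (QuadraticMap.polar ⇑QA u' x) • u - (QuadraticMap.polar ⇑QA u x) • u', ?_, ?_, by abel⟩
  · rw [b_sub_right, b_sub_right, b_smul_right, b_smul_right, b_self_zero hu, huu]; ring
  · rw [b_sub_right, b_sub_right, b_smul_right, b_smul_right, b_self_zero hu', b_comm u' u, huu]; ring

theorem exists_orth_aniso (hn : 4 ≤ Fintype.card γ) {u v : γ → F} (hu : QA u = 0)
    (huv : QuadraticMap.polar ⇑QA u v = 0) (hv : QA v ≠ 0) :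
    ∃ w, QuadraticMap.polar ⇑QA u w = 0 ∧ QuadraticMap.polar ⇑QA v w = 0 ∧ QA w ≠ 0 := by
  classical
  by_contra hc
  push Not at hc
  set T := Submodule.span F (({u, v} : Finset (γ → F)) : Set (γ → F)) with hT
  have hall : ∀ w ∈ orth QA T, QA w = 0 := fun w hw =>
    hc w (mem_orth_span.1 hw u (by simp)) (mem_orth_span.1 hw v (by simp))
  have hle : orth QA T ≤ Submodule.span F {u} := by
    intro w hw
    have hw' : w ∈ T := by
      rw [← orth_orth h.nd T]
      exact le_orth_of_singular hall hw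
    rw [hT, Finset.coe_pair] at hw'
    obtain ⟨a, b, rfl⟩ := Submodule.mem_span_pair.1 hw'
    have h1 := mem_orth_span.1 hw v (by simp)
    rw [b_add_right, b_smul_right, b_smul_right, b_comm v u, huv, b_self, mul_zero, zero_add, mul_eq_zero,
      or_iff_left (mul_ne_zero h.two hv)] at h1
    rw [h1, zero_smul, add_zero]
    exact Submodule.smul_mem _ _ (Submodule.mem_span_singleton_self u)
  have h1 := Submodule.finrank_mono hle
  have h2 : Module.finrank F (Submodule.span F ({u} : Set (γ → F))) ≤ 1 := by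
    have := finrank_span_finset_le_card (R := F) ({u} : Finset (γ → F))
    rwa [Set.finrank, Finset.coe_singleton, Finset.card_singleton] at this
  have h3 := finrank_orth_span h.nd ({u, v} : Finset (γ → F))
  have h4 : ({u, v} : Finset (γ → F)).card ≤ 2 := Finset.card_le_two
  rw [← hT, Module.finrank_pi] at h3
  omega

/-- An anisotropic vector orthogonal to a singular one. -/
theorem exists_perp_aniso (hn : 3 ≤ Fintype.card γ) {u : γ → F} (hu : QA u = 0) :
    ∃ v, QuadraticMap.polar ⇑QA u v = 0 ∧ QA v ≠ 0 := by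
  classical
  by_contra hc
  push Not at hc
  set T := Submodule.span F (({u} : Finset (γ → F)) : Set (γ → F)) with hT
  have hall : ∀ w ∈ orth QA T, QA w = 0 := fun w hw => hc w (mem_orth_span.1 hw u (by simp))
  have h1 := two_mul_finrank_le h.nd (le_orth_of_singular hall)
  have h3 := finrank_orth_span h.nd ({u} : Finset (γ → F))
  rw [← hT, Module.finrank_pi, Finset.card_singleton] at h3
  rw [Module.finrank_pi] at h1
  omega

/-- A third singular vector orthogonal to neither of two non-orthogonal ones. -/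
theorem exists_third (hn : 3 ≤ Fintype.card γ) {u u' : γ → F} (hu : QA u = 0) (hu' : QA u' = 0)
    (huu : QuadraticMap.polar ⇑QA u u' ≠ 0) :
    ∃ f, QA f = 0 ∧ QuadraticMap.polar ⇑QA f u ≠ 0 ∧ QuadraticMap.polar ⇑QA f u' ≠ 0 := by
  obtain ⟨v, hv, hqv⟩ := h.exists_perp_aniso hn hu
  obtain ⟨b, hb⟩ : ∃ b, b = QuadraticMap.polar ⇑QA u' v / QuadraticMap.polar ⇑QA u u' := ⟨_, rfl⟩
  obtain ⟨z, hz⟩ : ∃ z, z = v - b • u := ⟨_, rfl⟩
  have z1 : QuadraticMap.polar ⇑QA u z = 0 := by
    rw [hz, b_sub_right, b_smul_right, hv, b_self_zero hu]; ring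
  have z2 : QuadraticMap.polar ⇑QA u' z = 0 := by
    rw [hz, b_sub_right, b_smul_right, b_comm u' u, hb, div_mul_cancel₀ _ huu, sub_self]
  have z3 : QA z = QA v := by rw [hz, q_sub, q_smul, hu, b_smul_right, b_comm v u, hv]; ring
  refine ⟨u + (-(QA z) / QuadraticMap.polar ⇑QA u u') • u' + z, ?_, ?_, ?_⟩
  · rw [q_add, q_add, hu, q_smul, hu', b_add_left, b_smul_left, b_smul_right, z1, z2,
      div_mul_cancel₀ _ huu]
    ring
  · rw [b_add_left, b_add_left, b_smul_left, b_self_zero hu, b_comm u' u, b_comm z u, z1,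
      div_mul_cancel₀ _ huu, zero_add, add_zero, z3]
    exact neg_ne_zero.2 hqv
  · rw [b_add_left, b_add_left, b_smul_left, b_self_zero hu', b_comm z u', z2, mul_zero, add_zero, add_zero]
    exact huu

theorem exists_sing (hn : 3 ≤ Fintype.card γ) : ∃ u : γ → F, QA u = 0 ∧ u ≠ 0 := by
  obtain ⟨u, -, h0, h1⟩ := exists_singular (Q := QA) (U := (⊤ : Submodule F (γ → F)))
    (by rw [finrank_top, Module.finrank_pi]; omega)
  exact ⟨u, h1, h0⟩

end Gram

namespace Lin

variable {P : Matrix γ γ F → Prop} (A : Lin QA J P)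
include A

theorem sub {E E' : Matrix γ γ F} (h : P E) (h' : P E') : P (E - E') := by
  simpa [sub_eq_add_neg] using A.add h (A.smul h' (-1))

/-- The even part of a short root conjugation. -/
theorem even_part {E : Matrix γ γ F} (hE : P E) {u v : γ → F} (hu : QA u = 0)
    (huv : QuadraticMap.polar ⇑QA u v = 0) :
    P (-(QA v) • (rk J u u * E + E * rk J u u) - (rk J v u - rk J u v) * E * (rk J v u - rk J u v) +
      (QA v * QA v * QuadraticMap.polar ⇑QA u (E *ᵥ u)) • rk J u u) := by
  obtain ⟨T, hT⟩ := exists_siegel A.g.nd hu huv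
  obtain ⟨T', hT'⟩ := exists_siegel A.g.nd hu (v := -v) (by rw [← neg_one_smul F v, b_smul_right, huv, mul_zero])
  have hTT : T⁻¹ = T' := by
    refine inv_eq_of_mul_eq_one_right ?_
    have := siegel_mul hT hT'
    rw [add_neg_cancel] at this
    exact siegel_unique this (siegel_one hu)
  have e1 := A.conj hE T (siegel_mem_El hT)
  have e2 := A.conj hE T' (siegel_mem_El hT')
  rw [show T'⁻¹ = T by rw [← hTT, inv_inv]] at e2
  rw [hTT] at e1
  have v1 : (T : GL γ F).1 = 1 + (rk J v u - rk J u v) - QA v • rk J u u := by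
    rw [A.g.siegel_val hT, rk, rk, rk]; abel
  have v2 : (T' : GL γ F).1 = 1 - (rk J v u - rk J u v) - QA v • rk J u u := by
    rw [A.g.siegel_val hT', rk, rk, rk, ← neg_one_smul F v, q_smul, Matrix.mulVec_smul, Matrix.smul_vecMulVec,
      Matrix.vecMulVec_smul]
    module
  rw [v1, v2] at e1 e2
  have e3 := A.smul (A.sub (A.add e1 e2) (A.smul hE 2)) (2 : F)⁻¹
  have hs : QuadraticMap.polar ⇑QA u (E *ᵥ u) • rk J u u = rk J u u * E * rk J u u :=
    (A.g.rk_sandwich E u u u u).symm
  have h2 : (2 : F)⁻¹ * 2 = 1 := inv_mul_cancel₀ A.g.two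
  convert e3 using 1
  rw [show (QA v * QA v * QuadraticMap.polar ⇑QA u (E *ᵥ u)) • rk J u u = (QA v * QA v) • (rk J u u * E * rk J u u) by
    rw [← hs, smul_smul]]
  simp only [Matrix.mul_add, Matrix.mul_sub, Matrix.add_mul, Matrix.sub_mul, Matrix.one_mul, Matrix.mul_one,
    Matrix.smul_mul, Matrix.mul_smul, Matrix.mul_assoc]
  match_scalars <;> field_simp [A.g.two] <;> ring

theorem root_scale {E : Matrix γ γ F} (hE : P E) {u : γ → F} (hu : QA u = 0)
    (hk : QuadraticMap.polar ⇑QA u (E *ᵥ u) ≠ 0) (t : F) (ht : t ≠ 0) (ht1 : t * t ≠ 1) : P (rk J u u) := by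
  obtain ⟨v, hv, hqv⟩ := A.g.exists_perp_aniso A.three hu
  have h1 := A.even_part hE hu hv
  have h2 := A.even_part hE hu (v := t • v) (by rw [b_smul_right, hv, mul_zero])
  have h3 := A.sub h2 (A.smul h1 (t * t))
  rw [q_smul, A.g.rk_smul_left, A.g.rk_smul_right] at h3
  set κ := QuadraticMap.polar ⇑QA u (E *ᵥ u)
  have hne : t * t * (t * t - 1) * (QA v * QA v * κ) ≠ 0 :=
    mul_ne_zero (mul_ne_zero (mul_ne_zero ht ht) (sub_ne_zero.2 ht1)) (mul_ne_zero (mul_ne_zero hqv hqv) hk)
  have h4 := A.smul h3 (t * t * (t * t - 1) * (QA v * QA v * κ))⁻¹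
  suffices h : (t * t * (t * t - 1) * (QA v * QA v * κ)) • rk J u u =
      -(t * t * QA v) • (rk J u u * E + E * rk J u u) -
        (t • rk J v u - t • rk J u v) * E * (t • rk J v u - t • rk J u v) +
          (t * t * QA v * (t * t * QA v) * κ) • rk J u u -
        (t * t) • (-(QA v) • (rk J u u * E + E * rk J u u) -
          (rk J v u - rk J u v) * E * (rk J v u - rk J u v) + (QA v * QA v * κ) • rk J u u) by
    rwa [← h, smul_smul, inv_mul_cancel₀ hne, one_smul] at h4
  simp only [← smul_sub, Matrix.smul_mul, Matrix.mul_smul, smul_smul]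
  module

theorem root_parallelogram {E : Matrix γ γ F} (hE : P E) {u : γ → F} (hu : QA u = 0)
    (hk : QuadraticMap.polar ⇑QA u (E *ᵥ u) ≠ 0) (h4 : 4 ≤ Fintype.card γ) : P (rk J u u) := by
  obtain ⟨v, hv, hqv⟩ := A.g.exists_perp_aniso A.three hu
  obtain ⟨w, hw, hvw, hqw⟩ := A.g.exists_orth_aniso h4 hu hv hqv
  have h1 := A.even_part hE hu hv
  have h2 := A.even_part hE hu hw
  have h3 := A.even_part hE hu (v := v + w) (by rw [b_add_right, hv, hw, add_zero])
  have h4 := A.even_part hE hu (v := v - w) (by rw [b_sub_right, hv, hw, sub_zero])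
  have h5 := A.sub (A.sub (A.add h3 h4) (A.smul h1 2)) (A.smul h2 2)
  rw [q_add, q_sub, hvw] at h5
  set κ := QuadraticMap.polar ⇑QA u (E *ᵥ u)
  have hne : 2 * 2 * (QA v * QA w * κ) ≠ 0 :=
    mul_ne_zero (mul_ne_zero A.g.two A.g.two) (mul_ne_zero (mul_ne_zero hqv hqw) hk)
  have h6 := A.smul h5 (2 * 2 * (QA v * QA w * κ))⁻¹
  suffices h : (2 * 2 * (QA v * QA w * κ)) • rk J u u =
      -(QA v + QA w + 0) • (rk J u u * E + E * rk J u u) -
          (rk J (v + w) u - rk J u (v + w)) * E * (rk J (v + w) u - rk J u (v + w)) +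
          ((QA v + QA w + 0) * (QA v + QA w + 0) * κ) • rk J u u +
        (-(QA v + QA w - 0) • (rk J u u * E + E * rk J u u) -
          (rk J (v - w) u - rk J u (v - w)) * E * (rk J (v - w) u - rk J u (v - w)) +
          ((QA v + QA w - 0) * (QA v + QA w - 0) * κ) • rk J u u) -
        (2 : F) • (-(QA v) • (rk J u u * E + E * rk J u u) -
          (rk J v u - rk J u v) * E * (rk J v u - rk J u v) + (QA v * QA v * κ) • rk J u u) -
        (2 : F) • (-(QA w) • (rk J u u * E + E * rk J u u) -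
          (rk J w u - rk J u w) * E * (rk J w u - rk J u w) + (QA w * QA w * κ) • rk J u u) by
    rwa [← h, smul_smul, inv_mul_cancel₀ hne, one_smul] at h6
  simp only [rk, Matrix.mulVec_add, Matrix.mulVec_sub, Matrix.add_vecMulVec, Matrix.sub_vecMulVec,
    Matrix.vecMulVec_add, Matrix.vecMulVec_sub, Matrix.mul_add, Matrix.mul_sub, Matrix.add_mul, Matrix.sub_mul]
  module

/-- A non-vanishing quadratic value gives a rank one element. -/
theorem root {E : Matrix γ γ F} (hE : P E) {u : γ → F} (hu : QA u = 0)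
    (hk : QuadraticMap.polar ⇑QA u (E *ᵥ u) ≠ 0) : P (rk J u u) :=
  A.excl3.elim (A.root_parallelogram hE hu hk) fun ⟨t, ht, ht1⟩ => A.root_scale hE hu hk t ht ht1

/-- A self-adjoint matrix whose quadratic form vanishes on the singular vectors is a scalar. -/
theorem scalar_of_sing {S : Matrix γ γ F} (hS : adj J S = S)
    (h0 : ∀ u, QA u = 0 → QuadraticMap.polar ⇑QA u (S *ᵥ u) = 0) : ∃ c : F, S = c • 1 := by
  have hsym : ∀ x y, QuadraticMap.polar ⇑QA x (S *ᵥ y) = QuadraticMap.polar ⇑QA y (S *ᵥ x) := fun x y => by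
    conv_lhs => rw [← hS]
    rw [A.g.pol_adj]
  obtain ⟨u, hu, hu0⟩ := A.g.exists_sing A.three
  obtain ⟨u', hu', huu⟩ := exists_partner A.g.nd hu hu0
  have h2 := A.g.two
  set σ := fun x y => QuadraticMap.polar ⇑QA x (S *ᵥ y) with hσ
  have hσs : ∀ x y, σ x y = σ y x := hsym
  have addl : ∀ x y z, σ (x + y) z = σ x z + σ y z := fun x y z => b_add_left _ _ _
  have smull : ∀ (a : F) x z, σ (a • x) z = a * σ x z := fun a x z => b_smul_left _ _ _
  have addr : ∀ x y z, σ x (y + z) = σ x y + σ x z := fun x y z => by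
    simp only [hσ, Matrix.mulVec_add, b_add_right]
  have smulr : ∀ (a : F) x z, σ x (a • z) = a * σ x z := fun a x z => by
    simp only [hσ, Matrix.mulVec_smul, b_smul_right]
  have suu : σ u u = 0 := h0 u hu
  have suu' : σ u' u' = 0 := h0 u' hu'
  set c := σ u u' with hc
  -- the singular vectors `u' + z - Q z • u`
  have key : ∀ z, QuadraticMap.polar ⇑QA u z = 0 → QuadraticMap.polar ⇑QA u' z = 0 →
      σ u' z = QA z * σ u z ∧ σ z z = 2 * QA z * c := by
    intro z z1 z2
    have hf : ∀ s : F, s * s = 1 → 2 * s * σ u' z + σ z z - 2 * QA z * c - 2 * s * (QA z * σ u z) = 0 := by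
      intro s hs
      have hq : QA (u' + s • z + (-QA z) • u) = 0 := by
        rw [q_add, q_add, q_smul, q_smul, hu', hu, b_smul_right, z2, b_add_left, b_smul_left, b_smul_right,
          b_comm u' u, huu, b_smul_right, b_comm z u, z1, hs]
        ring
      have e := h0 _ hq
      change σ _ _ = 0 at e
      simp only [addl, addr, smull, smulr, suu', suu, hσs z u', hσs u u', hσs z u, ← hc] at e
      rw [show σ u' u = c from (hσs _ _)] at e
      linear_combination e - (σ z z) * hs
    have e1 := hf 1 (one_mul 1)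
    have e2 := hf (-1) (by ring)
    constructor
    · refine mul_left_cancel₀ (mul_ne_zero h2 h2) ?_
      linear_combination e1 - e2
    · refine mul_left_cancel₀ h2 ?_
      linear_combination e1 + e2
  have key' : ∀ z, QuadraticMap.polar ⇑QA u z = 0 → QuadraticMap.polar ⇑QA u' z = 0 →
      σ u z = QA z * σ u' z := by
    intro z z1 z2
    have hf : ∀ s : F, s * s = 1 → 2 * s * σ u z + σ z z - 2 * QA z * c - 2 * s * (QA z * σ u' z) = 0 := by
      intro s hs
      have hq : QA (u + s • z + (-QA z) • u') = 0 := by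
        rw [q_add, q_add, q_smul, q_smul, hu', hu, b_smul_right, z1, b_add_left, b_smul_left, b_smul_right,
          huu, b_smul_right, b_comm z u', z2, hs]
        ring
      have e := h0 _ hq
      change σ _ _ = 0 at e
      simp only [addl, addr, smull, smulr, suu', suu, hσs z u', hσs z u, ← hc] at e
      rw [show σ u' u = c from (hσs _ _)] at e
      linear_combination e - (σ z z) * hs
    have e1 := hf 1 (one_mul 1)
    have e2 := hf (-1) (by ring)
    refine mul_left_cancel₀ (mul_ne_zero h2 h2) ?_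
    linear_combination e1 - e2
  -- the mixed values vanish
  have hz0 : ∀ z, QuadraticMap.polar ⇑QA u z = 0 → QuadraticMap.polar ⇑QA u' z = 0 →
      σ u z = 0 ∧ σ u' z = 0 := by
    intro z z1 z2
    suffices h : σ u z = 0 by exact ⟨h, by rw [(key z z1 z2).1, h, mul_zero]⟩
    by_cases hq : QA z = 0
    · rw [key' z z1 z2, hq, zero_mul]
    rcases A.excl3 with h4 | ⟨t, ht, ht1⟩
    · obtain ⟨w, hw1, hw2⟩ : ∃ w, (QuadraticMap.polar ⇑QA u w = 0 ∧ QuadraticMap.polar ⇑QA u' w = 0) ∧
          QuadraticMap.polar ⇑QA z w = 0 ∧ QA w ≠ 0 := by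
        obtain ⟨w, w1, w2, w3⟩ := A.g.exists_orth_aniso h4 hu z1 hq
        refine ⟨w - (QuadraticMap.polar ⇑QA u' w) • u, ⟨?_, ?_⟩, ?_, ?_⟩
        · rw [b_sub_right, b_smul_right, w1, b_self_zero hu]; ring
        · rw [b_sub_right, b_smul_right, b_comm u' u, huu]; ring
        · rw [b_sub_right, b_smul_right, w2, b_comm z u, z1]; ring
        · rw [q_sub, q_smul, hu, b_smul_right, b_comm w u, w1]
          simpa using w3
      obtain ⟨hzw, hqw⟩ := hw2
      have k1 := (key z z1 z2).1
      have k2 := (key w hw1.1 hw1.2).1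
      have k3 := (key (z + w) (by rw [b_add_right, z1, hw1.1, add_zero])
        (by rw [b_add_right, z2, hw1.2, add_zero])).1
      have k4 := (key (z + (-1 : F) • w) (by rw [b_add_right, b_smul_right, z1, hw1.1, mul_zero, add_zero])
        (by rw [b_add_right, b_smul_right, z2, hw1.2, mul_zero, add_zero])).1
      rw [addr, addr, q_add, hzw] at k3
      rw [addr, addr, smulr, smulr, q_add, q_smul, b_smul_right, hzw] at k4
      refine mul_left_cancel₀ (mul_ne_zero h2 hqw) ?_
      linear_combination 2 * k1 - k3 - k4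
    · have k1 := (key z z1 z2).1
      have k2 := (key (t • z) (by rw [b_smul_right, z1, mul_zero]) (by rw [b_smul_right, z2, mul_zero])).1
      rw [smulr, smulr, q_smul] at k2
      have : t * (t * t - 1) * QA z * σ u z = 0 := by linear_combination t * k1 - k2
      exact (mul_eq_zero.1 this).resolve_left (mul_ne_zero (mul_ne_zero ht (sub_ne_zero.2 ht1)) hq)
  refine ⟨c, ?_⟩
  have hdiag : ∀ x, σ x x = c * (2 * QA x) := by
    intro x
    obtain ⟨a, b, z, z1, z2, rfl⟩ := A.g.partner_decomp hu hu0 hu' huu x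
    obtain ⟨e1, e2⟩ := hz0 z z1 z2
    simp only [addl, addr, smull, smulr, suu, suu', e1, e2, hσs u' u, hσs z u, hσs z u', (key z z1 z2).2, ← hc,
      q_add, q_smul, hu, hu', b_add_left, b_smul_left, b_smul_right, z1, z2, huu]
    ring
  refine Matrix.ext_iff_mulVec.2 fun y => sub_eq_zero.1 (A.g.nd _ fun x => ?_)
  rw [b_sub_left, Matrix.smul_mulVec, Matrix.one_mulVec, b_smul_left, b_comm, b_comm y x]
  refine mul_left_cancel₀ h2 ?_
  rw [mul_zero]
  have e1 := hdiag (x + y)
  rw [addl, addr, addr, hdiag x, hdiag y, hσs y x, q_add] at e1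
  show 2 * (σ x y - c * QuadraticMap.polar ⇑QA x y) = 0
  linear_combination e1

end Lin

namespace Alg

variable {P : Matrix γ γ F → Prop} (A : Alg QA J P)
include A

theorem zero : P 0 := by simpa using A.smul A.one 0

/-- A skew element which moves a singular vector off its line gives a non-vanishing value. -/
theorem exists_val {K : Matrix γ γ F} (hK : P K) (hsk : adj J K = -K) (hK0 : K ≠ 0) :
    ∃ E u, P E ∧ QA u = 0 ∧ QuadraticMap.polar ⇑QA u (E *ᵥ u) ≠ 0 := by
  by_contra hc
  push Not at hc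
  have hskew : ∀ x y, QuadraticMap.polar ⇑QA x (K *ᵥ y) = -QuadraticMap.polar ⇑QA (K *ᵥ x) y := fun x y => by
    have := A.g.pol_adj K x y
    rw [hsk, Matrix.neg_mulVec, ← neg_one_smul F (K *ᵥ y), b_smul_right, b_comm y] at this
    linear_combination -this
  have hprod : ∀ u, QA u = 0 → ∀ K', P K' → QuadraticMap.polar ⇑QA (K *ᵥ u) (K' *ᵥ u) = 0 := fun u hu K' h' => by
    have := hc (K * K') u (A.mul hK h') hu
    rwa [← Matrix.mulVec_mulVec, hskew, neg_eq_zero] at this
  have heig : ∀ u, QA u = 0 → u ≠ 0 → ∃ c : F, K *ᵥ u = c • u := by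
    intro u hu hu0
    by_contra hno
    push Not at hno
    have q1 : QuadraticMap.polar ⇑QA u (K *ᵥ u) = 0 := hc K u hK hu
    have q2 : QA (K *ᵥ u) = 0 := by
      have := hprod u hu K hK
      rwa [b_self, mul_eq_zero, or_iff_right A.g.two] at this
    have hp : Plane QA u (K *ᵥ u) := ⟨hu, q2, q1, hu0, hno⟩
    have h5 : 5 ≤ Module.finrank F (γ → F) := by
      rw [Module.finrank_pi]
      by_contra h5
      rcases Nat.lt_or_ge (Fintype.card γ) 4 with h3 | h3
      · have h3' : Fintype.card γ = 3 := by have := A.three; omega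
        have hle := two_mul_finrank_le A.g.nd (W := Submodule.span F {u, K *ᵥ u}) (by
          rw [Submodule.span_le]
          intro x hx
          rw [SetLike.mem_coe, mem_orth_span]
          rintro y (rfl | rfl) <;> rcases hx with rfl | rfl
          · exact b_self_zero hu
          · exact q1
          · rw [b_comm]; exact q1
          · exact b_self_zero q2)
        have hli : LinearIndependent F ![u, K *ᵥ u] := (LinearIndependent.pair_iff' hu0).2 fun a e => hno a e.symm
        have hf := finrank_span_eq_card hli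
        rw [Matrix.range_cons_cons_empty, Fintype.card_fin] at hf
        rw [hf, Module.finrank_pi] at hle
        omega
      · obtain ⟨c, hc'⟩ := A.excl4 (by omega) u (K *ᵥ u) hu q2 q1 hu0
        exact hno c hc'
    obtain ⟨w', r', v, -, hr', -, -, ur, yr, -, uv, yv, -, r'v, qv⟩ := exists_frame A.g.nd h5 hp
    obtain ⟨T, hT⟩ := exists_siegel A.g.nd hr' (v := v) r'v
    have hTu : ap T⁻¹ u = u := by
      have : ap T u = u := siegel_fix hT ur uv
      conv_lhs => rw [← this]
      rw [ap_inv_ap]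
    have := hprod u hu _ (A.conj hK T (siegel_mem_El hT))
    rw [← Matrix.mulVec_mulVec, ← Matrix.mulVec_mulVec] at this
    change QuadraticMap.polar ⇑QA (K *ᵥ u) (ap T (K *ᵥ ap T⁻¹ u)) = 0 at this
    rw [hTu, hT.2.2, b_sub_right, b_sub_right, b_add_right, b_smul_right, b_smul_right, b_smul_right,
      b_self_zero q2, yr, yv] at this
    simp only [one_mul, mul_one, zero_mul, mul_zero, add_zero, zero_sub, sub_zero, neg_eq_zero] at this
    exact qv this
  have hzero : ∀ u, QA u = 0 → u ≠ 0 → K *ᵥ u = 0 := by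
    intro u hu hu0
    obtain ⟨u', hu', huu⟩ := exists_partner A.g.nd hu hu0
    have hne : QuadraticMap.polar ⇑QA u u' ≠ 0 := by rw [huu]; exact one_ne_zero
    obtain ⟨f, hf, fu, fu'⟩ := A.g.exists_third A.three hu hu' hne
    obtain ⟨a, ha⟩ := heig u hu hu0
    obtain ⟨b, hb⟩ := heig u' hu' (fun e => hne (by rw [e, b_zero_right]))
    obtain ⟨c, hc'⟩ := heig f hf (ne_zero_of_b fu)
    have rel : ∀ {x y : γ → F} {s t : F}, K *ᵥ x = s • x → K *ᵥ y = t • y → QuadraticMap.polar ⇑QA x y ≠ 0 →
        s + t = 0 := fun {x y s t} hx hy hn => by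
      have := hskew x y
      rw [hx, hy, b_smul_right, b_smul_left, ← neg_mul] at this
      linear_combination mul_right_cancel₀ hn this
    have r1 := rel ha hb hne
    have r2 := rel hc' ha fu
    have r3 := rel hc' hb fu'
    have : (2 : F) * a = 0 := by linear_combination r1 + r2 - r3
    rw [ha, (mul_eq_zero.1 this).resolve_left A.g.two, zero_smul]
  refine hK0 (Matrix.ext_iff_mulVec.2 fun x => ?_)
  obtain ⟨u, hu, hu0⟩ := A.g.exists_sing A.three
  obtain ⟨u', hu', huu⟩ := exists_partner A.g.nd hu hu0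
  obtain ⟨a, b, z, z1, z2, rfl⟩ := A.g.partner_decomp hu hu0 hu' huu x
  have e0 := hzero u hu hu0
  have e1 := hzero u' hu' (fun e => by rw [e, b_zero_right] at huu; exact zero_ne_one huu)
  have e2 := hzero (u' + z + (-QA z) • u) (by
    rw [q_add, q_add, q_smul, hu', hu, z2, b_add_left, b_smul_right, b_smul_right, b_comm u' u, huu, b_comm z u, z1]
    ring) (fun e => by
    have := congrArg (QuadraticMap.polar ⇑QA u) e
    rw [b_add_right, b_add_right, b_smul_right, huu, z1, b_self_zero hu, b_zero_right] at this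
    simp at this)
  rw [Matrix.mulVec_add, Matrix.mulVec_add, e1, Matrix.mulVec_smul, e0, smul_zero, zero_add, add_zero] at e2
  rw [Matrix.mulVec_add, Matrix.mulVec_add, Matrix.mulVec_smul, Matrix.mulVec_smul, e0, e1, e2, smul_zero, smul_zero,
    add_zero, add_zero, Matrix.zero_mulVec]

/-- A non-scalar element gives everything. -/
theorem all {E₀ : Matrix γ γ F} (hE : P E₀) (hns : ∀ c : F, E₀ ≠ c • 1) (E : Matrix γ γ F) : P E := by
  classical
  obtain ⟨E₁, u, hE₁, hu, hk⟩ : ∃ E u, P E ∧ QA u = 0 ∧ QuadraticMap.polar ⇑QA u (E *ᵥ u) ≠ 0 := by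
    by_contra hc
    push Not at hc
    have hS : adj J (E₀ + adj J E₀) = E₀ + adj J E₀ := by rw [A.g.adj_add, A.g.adj_adj, add_comm]
    obtain ⟨c, hc'⟩ := A.scalar_of_sing hS fun u hu => hc _ u (A.add hE (A.adjoint hE)) hu
    have hK : E₀ - adj J E₀ ≠ 0 := fun e => hns ((2 : F)⁻¹ * c) (by
      rw [mul_smul, ← hc', ← sub_eq_zero.1 e, ← two_smul F E₀, smul_smul, inv_mul_cancel₀ A.g.two, one_smul])
    obtain ⟨E', u, h1, h2, h3⟩ := A.exists_val (A.sub hE (A.adjoint hE))
      (by rw [A.g.adj_sub, A.g.adj_adj, neg_sub]) hK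
    exact h3 (hc E' u h1 h2)
  have hu0 : u ≠ 0 := fun e => hk (by rw [e, b_zero_left])
  have hN := A.root hE₁ hu hk
  have hN' : ∀ u', QA u' = 0 → QuadraticMap.polar ⇑QA u u' ≠ 0 → P (rk J u' u') := by
    intro u' hu' huu
    obtain ⟨f, hf, fu, fu'⟩ := A.g.exists_third A.three hu hu' huu
    obtain ⟨T, hT, hT'⟩ := exists_move_partner A.g.nd hf
      (f := (QuadraticMap.polar ⇑QA f u)⁻¹ • u) (f' := (QuadraticMap.polar ⇑QA f u')⁻¹ • u')
      (by rw [q_smul, hu, mul_zero]) (by rw [q_smul, hu', mul_zero])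
      (by rw [b_smul_right, b_smul_right, inv_mul_cancel₀ fu, inv_mul_cancel₀ fu'])
      (by rw [b_smul_right, inv_mul_cancel₀ fu])
    have h1 := A.conj hN T (siegel_mem_El hT)
    have hTu : ap T u = (QuadraticMap.polar ⇑QA f u * (QuadraticMap.polar ⇑QA f u')⁻¹) • u' := by
      rw [mul_smul, ← hT', ← ap_smul, smul_smul, mul_inv_cancel₀ fu, one_smul]
    rw [A.g.rk_conj, hTu, A.g.rk_smul_left, A.g.rk_smul_right, smul_smul] at h1
    set k := QuadraticMap.polar ⇑QA f u * (QuadraticMap.polar ⇑QA f u')⁻¹ * (QuadraticMap.polar ⇑QA f u * (QuadraticMap.polar ⇑QA f u')⁻¹)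
    have hk0 : k ≠ 0 := mul_ne_zero (mul_ne_zero fu (inv_ne_zero fu')) (mul_ne_zero fu (inv_ne_zero fu'))
    have := A.smul h1 k⁻¹
    rwa [smul_smul, inv_mul_cancel₀ hk0, one_smul] at this
  obtain ⟨u', hu', huu⟩ := exists_partner A.g.nd hu hu0
  have hpart : ∀ p, QA p = 0 → QuadraticMap.polar ⇑QA u p = 1 → P (rk J p u) := fun p hp hup => by
    have := A.mul (hN' p hp (by rw [hup]; exact one_ne_zero)) hN
    rwa [A.g.rk_mul, b_comm, hup, one_smul] at this
  have hleft : ∀ x, P (rk J x u) := by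
    intro x
    obtain ⟨a, b, z, z1, z2, rfl⟩ := A.g.partner_decomp hu hu0 hu' huu x
    have e : z = (u' + z + (-QA z) • u) + (-1 : F) • u' + QA z • u := by module
    rw [e]
    simp only [A.g.rk_add_left, A.g.rk_smul_left]
    have hp : P (rk J (u' + z + (-QA z) • u) u) := hpart _ (by
        rw [q_add, q_add, q_smul, hu', hu, z2, b_add_left, b_smul_right, b_smul_right, b_comm u' u, huu,
          b_comm z u, z1]
        ring) (by rw [b_add_right, b_add_right, b_smul_right, huu, z1, b_self_zero hu]; ring)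
    simp only [A.g.rk_add_left, A.g.rk_smul_left] at hp
    exact A.add (A.add (A.smul hN a) (A.smul (hpart u' hu' huu) b))
      (A.add (A.add hp (A.smul (hpart u' hu' huu) _)) (A.smul hN _))
  have hrank : ∀ x y, P (rk J x y) := by
    intro x y
    have h1 := A.adjoint (hleft y)
    rw [A.g.adj_rk] at h1
    have := A.mul (A.mul (hleft x) (hN' u' hu' (by rw [huu]; exact one_ne_zero))) h1
    rwa [A.g.rk_mul, Matrix.smul_mul, A.g.rk_mul, huu, b_comm, huu, one_smul, one_smul] at this
  have hsum : ∀ s : Finset γ, P (∑ j ∈ s, Matrix.vecMulVec (fun i => E i j) (Pi.single j 1)) := by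
    intro s
    induction s using Finset.induction_on with
    | empty => simpa using A.zero
    | insert a s ha ih =>
      rw [Finset.sum_insert ha]
      obtain ⟨b, hb⟩ := A.g.mulVec_surj (Pi.single a (1 : F))
      rw [← hb]
      exact A.add (hrank _ b) ih
  convert hsum Finset.univ
  ext i j
  simp [Matrix.sum_apply, Matrix.vecMulVec_apply, Pi.single_apply]

end Alg

end CfsgLib.Classical.TensorOrth
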