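import Cfsg.Agent.Lib.Classical.TensorOrth.Level
import Cfsg.Agent.Lib.Classical.TensorOrth.Factor

set_option autoImplicit false
set_option linter.unusedSectionVars false

/-!
The levels form an algebra, so they are scalars or everything.
-/

namespace CfsgLib.Classical.TensorOrth

open Matrix CfsgLib.Classical.TensorMax CfsgLib.Orth
open CfsgLib.Classical.TensorSymp (adj ten)
open scoped MatrixGroups Kronecker

variable {F : Type*} [Field F] [Finite F] {α β : Type} [Fintype α] [DecidableEq α] [Fintype β] [DecidableEq β]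
variable {QA : QuadraticForm F (α → F)} {QB : QuadraticForm F (β → F)} {JA : Matrix α α F} {JB : Matrix β β F}
  {Q : QuadraticForm F (α × β → F)} {M : Subgroup (GL (α × β) F)}

namespace Hyp

variable (H : Hyp QA QB JA JB Q M)
include H

theorem exists_plane_at {w : β → F} (hw : QB w = 0) (hw0 : w ≠ 0) : ∃ r, Plane QB w r := by
  obtain ⟨w', hw', hww⟩ := exists_partner H.gB.nd hw hw0
  obtain ⟨r, hr, hr0, h1, h2⟩ := exists_singular_perp H.gB.nd H.dimB w w'
  refine ⟨r, hw, hr, h1, hw0, fun c e => ?_⟩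
  rw [e, b_smul_right, b_comm w' w, hww, mul_one] at h2
  exact hr0 (by rw [e, h2, zero_smul])

theorem exists_plane : ∃ w r, Plane QB w r := by
  obtain ⟨w, hw, hw0⟩ := exists_nonzero_singular (Q := QB) H.dimB
  obtain ⟨r, hr⟩ := H.exists_plane_at hw hw0
  exact ⟨w, r, hr⟩

/-- A plane partner not orthogonal to a given vector of `w^⊥`. -/
theorem exists_plane_nonorth {w y : β → F} (hw : QB w = 0) (hw0 : w ≠ 0) (hy : QuadraticMap.polar ⇑QB w y = 0)
    (hyw : ∀ c : F, y ≠ c • w) : ∃ r, Plane QB w r ∧ QuadraticMap.polar ⇑QB y r ≠ 0 := by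
  obtain ⟨r₀, h₀⟩ := H.exists_plane_at hw hw0
  by_cases e0 : QuadraticMap.polar ⇑QB y r₀ = 0
  swap
  · exact ⟨r₀, h₀, e0⟩
  obtain ⟨w', r', v, -, qr', -, -, wr', rr', -, -, -, -, -, -⟩ := exists_frame H.gB.nd H.dimB h₀
  by_cases e1 : QuadraticMap.polar ⇑QB y r' = 0
  swap
  · refine ⟨r', ⟨hw, qr', wr', hw0, fun c e => ?_⟩, e1⟩
    rw [e, b_smul_right, b_comm r₀ w, h₀.bwr, mul_zero] at rr'
    exact zero_ne_one rr'
  obtain ⟨z, z0, z1⟩ := exists_perp_value H.gB.nd hyw
  obtain ⟨z', hz'⟩ : ∃ z', z' = z - QuadraticMap.polar ⇑QB r' z • r₀ - QuadraticMap.polar ⇑QB r₀ z • r' := ⟨_, rfl⟩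
  have a1 : QuadraticMap.polar ⇑QB r₀ z' = 0 := by
    rw [hz', b_sub_right, b_sub_right, b_smul_right, b_smul_right, b_self_zero h₀.qr, rr']; ring
  have a2 : QuadraticMap.polar ⇑QB r' z' = 0 := by
    rw [hz', b_sub_right, b_sub_right, b_smul_right, b_smul_right, b_self_zero qr', b_comm r' r₀, rr']; ring
  have a3 : QuadraticMap.polar ⇑QB w z' = 0 := by
    rw [hz', b_sub_right, b_sub_right, b_smul_right, b_smul_right, z0, h₀.bwr, wr']; ring
  have a4 : QuadraticMap.polar ⇑QB y z' = 1 := by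
    rw [hz', b_sub_right, b_sub_right, b_smul_right, b_smul_right, z1, e0, e1]; ring
  refine ⟨r₀ + z' + (-QB z') • r', ⟨hw, ?_, ?_, hw0, fun c e => ?_⟩, ?_⟩
  · rw [q_add, q_add, q_smul, h₀.qr, qr', b_add_left, b_smul_right, b_smul_right, a1, rr', b_comm z' r', a2]; ring
  · rw [b_add_right, b_add_right, b_smul_right, h₀.bwr, a3, wr']; ring
  · have := congrArg (QuadraticMap.polar ⇑QB r') e
    rw [b_add_right, b_add_right, b_smul_right, b_smul_right, b_comm r' r₀, rr', a2, b_self_zero qr', b_comm r' w,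
      wr', mul_zero, mul_zero, add_zero, add_zero] at this
    exact one_ne_zero this
  · rw [b_add_right, b_add_right, b_smul_right, e0, a4, e1]
    simp

theorem d_add {E E' : Matrix α α F} (h : D JA QB JB M E) (h' : D JA QB JB M E') : D JA QB JB M (E + E') := by
  intro w r hp
  rw [H.np_add]
  exact (h w r hp).add (h' w r hp) (H.np_sq hp _ _)

theorem d_zero : D JA QB JB M (0 : Matrix α α F) := by
  intro w r _
  simpa [Np, H.gA.adj_zero] using InM.one

theorem d_smul {E : Matrix α α F} (h : D JA QB JB M E) (c : F) : D JA QB JB M (c • E) := by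
  by_cases hc : c = 0
  · rw [hc, zero_smul]; exact H.d_zero
  intro w r hp
  rw [← H.np_smul_right]
  exact h w _ (hp.smul hc)

theorem d_one : D JA QB JB M (1 : Matrix α α F) := fun w r hp => by
  simpa using H.inM_plane hp 1

theorem d_adj {E : Matrix α α F} (h : D JA QB JB M E) : D JA QB JB M (adj JA E) := by
  intro w r hp
  have := (h r w hp.symm).neg (H.np_sq hp.symm _ _)
  rwa [H.np_swap, neg_neg] at this

theorem d_conj {E : Matrix α α F} (h : D JA QB JB M E) {S : Grp QA} (hS : S ∈ El QA) :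
    D JA QB JB M ((S : GL α F).1 * E * ((S⁻¹ : Grp QA) : GL α F).1) := by
  intro w r hp
  have h1 := ((H.inM_elA hS).mul (h w r hp)).mul (H.inM_elA (inv_mem hS))
  have e := H.np_conj S (1 : Grp QB) w r E
  rw [ap_one, ap_one, inv_one, show ((1 : Grp QB) : GL β F).1 = (1 : Matrix β β F) from rfl] at e
  rwa [Matrix.mul_add, Matrix.mul_one, Matrix.add_mul, e, ← Matrix.mul_kronecker_mul, Matrix.one_mul,
    show (S : GL α F).1 * ((S⁻¹ : Grp QA) : GL α F).1 = 1 from (S : GL α F).mul_inv,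
    Matrix.one_kronecker_one] at h1

/-- The levels of a radical element are levels. -/
theorem level {w : β → F} (hw : QB w = 0) (hw0 : w ≠ 0) {h : GL (α × β) F} (hh : Rad JB M w h) {y : β → F}
    (hy : QuadraticMap.polar ⇑QB w y = 0) {E : Matrix α α F} (he : h.1 * kc α y = kc α y + kc α w * E) :
    D JA QB JB M E := by
  by_cases hyw : ∃ c : F, y = c • w
  · obtain ⟨c, rfl⟩ := hyw
    rw [kc_smul, Matrix.mul_smul, hh.2.1, left_eq_add] at he
    have : E = 0 := kc_cancel hw0 (by rw [he, Matrix.mul_zero])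
    rw [this]
    exact H.d_zero
  push Not at hyw
  by_cases hq : QB y = 0
  · exact H.level_sing ⟨hw, hq, hy, hw0, hyw⟩ hh he
  obtain ⟨r, hp, hyr⟩ := H.exists_plane_nonorth hw hw0 hy hyw
  obtain ⟨s, hs⟩ : ∃ s, s = -QB y / QuadraticMap.polar ⇑QB y r := ⟨_, rfl⟩
  obtain ⟨Er, hEr⟩ := hh.2.2 (kc α r) (by rw [kr_mul_kc, H.gB.dot_polar, hp.bwr, zero_smul])
  have hp' : Plane QB w (y + s • r) := by
    refine ⟨hw, ?_, ?_, hw0, fun c e => hq ?_⟩
    · rw [q_add, q_smul, hp.qr, b_smul_right, hs, div_mul_cancel₀ _ hyr]; ring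
    · rw [b_add_right, b_smul_right, hy, hp.bwr]; ring
    · rw [show y = c • w + (-s) • r by rw [← e]; module, q_add, q_smul, q_smul, hw, hp.qr, b_smul_left,
        b_smul_right, hp.bwr]
      ring
  have h1 : D JA QB JB M (E + s • Er) := by
    refine H.level_sing hp' hh ?_
    rw [kc_add, kc_smul, Matrix.mul_add, Matrix.mul_smul, he, hEr, Matrix.mul_add, Matrix.mul_smul, smul_add]
    abel
  have h2 := H.d_add h1 (H.d_smul (H.level_sing hp hh hEr) (-s))
  rwa [neg_smul, add_neg_cancel_right] at h2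

theorem np_fix {r' a y : β → F} (hy : QuadraticMap.polar ⇑QB r' y = 0) (E : Matrix α α F) :
    (1 + Np JA JB r' a E) * kc α y = kc α y + QuadraticMap.polar ⇑QB a y • (kc α r' * E) := by
  rw [Matrix.add_mul, Matrix.one_mul, H.np_mul_kc, H.gB.dot_polar, H.gB.dot_polar, hy, zero_smul, sub_zero]

theorem d_mul {E E' : Matrix α α F} (hE : D JA QB JB M E) (hE' : D JA QB JB M E') :
    D JA QB JB M (E * E') := by
  obtain ⟨w, r, hp⟩ := H.exists_plane
  obtain ⟨w', r', v, qw', qr', ww', rw', wr', rr', w'r', wv, rv, w'v, r'v, qv⟩ := exists_frame H.gB.nd H.dimB hp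
  have hp' : Plane QB r' w := ⟨qr', hp.qw, by rw [b_comm]; exact wr', ne_zero_of_b (y := r) (by
      rw [b_comm, rr']; exact one_ne_zero), fun c e => by
    rw [e, b_smul_left, b_comm r' w', w'r', mul_zero] at ww'
    exact zero_ne_one ww'⟩
  obtain ⟨T, hT⟩ := exists_siegel H.gB.nd qw' (v := v) w'v
  obtain ⟨T', hT'⟩ := exists_siegel H.gB.nd qw' (v := -v)
    (by rw [← neg_one_smul F v, b_smul_right, w'v, mul_zero])
  have fr : ap T r' = r' := siegel_fix hT (by rw [b_comm]; exact w'r') r'v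
  have fr' : ap T' r' = r' := siegel_fix hT' (by rw [b_comm]; exact w'r')
    (by rw [← neg_one_smul F v, b_smul_right, r'v, mul_zero])
  have i1 := H.inM_conj_elB (siegel_mem_El hT) (hE' r' w hp')
  have i2 := H.inM_conj_elB (siegel_mem_El hT') (hE' r' w hp')
  have c1 := H.np_conj (1 : Grp QA) T r' w E'
  have c2 := H.np_conj (1 : Grp QA) T' r' w E'
  rw [inv_one, show ((1 : Grp QA) : GL α F).1 = (1 : Matrix α α F) from rfl, Matrix.one_mul, Matrix.mul_one, fr] at c1
  rw [inv_one, show ((1 : Grp QA) : GL α F).1 = (1 : Matrix α α F) from rfl, Matrix.one_mul, Matrix.mul_one, fr'] at c2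
  rw [c1] at i1
  rw [c2] at i2
  obtain ⟨g1, hg1, hg1'⟩ := i1
  obtain ⟨g2, hg2, hg2'⟩ := i2
  obtain ⟨g, hg, hg'⟩ := hE w r hp
  obtain ⟨a1, ha1⟩ : ∃ a, a = ap T w := ⟨_, rfl⟩
  obtain ⟨a2, ha2⟩ : ∃ a, a = ap T' w := ⟨_, rfl⟩
  rw [← ha1] at hg1'
  rw [← ha2] at hg2'
  have r'w : QuadraticMap.polar ⇑QB r' w = 0 := hp'.bwr
  have ar1 : QuadraticMap.polar ⇑QB a1 r' = 0 := by rw [ha1, ← fr, ap_b, b_comm]; exact r'w
  have ar2 : QuadraticMap.polar ⇑QB a2 r' = 0 := by rw [ha2, ← fr', ap_b, b_comm]; exact r'w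
  have hd : a1 - a2 = (2 : F) • v := by
    rw [ha1, ha2, hT.2.2, hT'.2.2, ← neg_one_smul F v, q_smul, b_smul_right, ww', wv]
    module
  have hr' : (g2⁻¹).1 * kc α r' = kc α r' := by
    have : g2.1 * kc α r' = kc α r' := by
      rw [hg2', H.np_fix (b_self_zero qr'), ar2, zero_smul, add_zero]
    conv_lhs => rw [← this]
    rw [← Matrix.mul_assoc, g2.inv_mul, Matrix.one_mul]
  have act : ∀ y, QuadraticMap.polar ⇑QB r' y = 0 → (g1 * g2⁻¹).1 * kc α y =
      kc α y + QuadraticMap.polar ⇑QB (a1 - a2) y • (kc α r' * E') := by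
    intro y hy
    have e2 : (g2⁻¹).1 * kc α y = kc α y - QuadraticMap.polar ⇑QB a2 y • (kc α r' * E') := by
      have : (g2⁻¹).1 * (g2.1 * kc α y) = kc α y := by rw [← Matrix.mul_assoc, g2.inv_mul, Matrix.one_mul]
      rw [hg2', H.np_fix hy, Matrix.mul_add, Matrix.mul_smul, ← Matrix.mul_assoc _ (kc α r'), hr'] at this
      exact eq_sub_of_add_eq this
    rw [Units.val_mul, Matrix.mul_assoc, e2, Matrix.mul_sub, Matrix.mul_smul, ← Matrix.mul_assoc, hg1',
      H.np_fix hy, H.np_fix (b_self_zero qr'), ar1, zero_smul, add_zero, b_sub_left, sub_smul]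
    abel
  obtain ⟨k, hk⟩ : ∃ k, k = g1 * g2⁻¹ := ⟨_, rfl⟩
  rw [← hk] at act
  have hkM : k ∈ M := hk ▸ M.mul_mem hg1 (M.inv_mem hg2)
  have kw : k.1 * kc α w = kc α w := by
    rw [act w r'w, hd, b_smul_left, b_comm v w, wv, mul_zero, zero_smul, add_zero]
  have kr' : k.1 * kc α r' = kc α r' := by
    rw [act r' (b_self_zero qr'), hd, b_smul_left, b_comm v r', r'v, mul_zero, zero_smul, add_zero]
  have kv : k.1 * kc α v = kc α v + (4 * QB v) • (kc α r' * E') := by
    rw [act v r'v, hd, b_smul_left, b_self, show (2 : F) * (2 * QB v) = 4 * QB v by ring]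
  have gy : ∀ y, QuadraticMap.polar ⇑QB w y = 0 →
      g.1 * kc α y = kc α y + QuadraticMap.polar ⇑QB r y • (kc α w * E) := fun y hy => by
    rw [hg', H.np_fix hy]
  have hrad : Rad JB M w g := H.rad_mk (z := w') (by rw [H.gB.dot_polar, ww']) hg (by
      rw [gy w (b_self_zero hp.qw), b_comm, hp.bwr, zero_smul, add_zero]) fun y hy =>
    ⟨QuadraticMap.polar ⇑QB r y • E, by
      rw [H.gB.dot_polar] at hy
      rw [gy y hy, Matrix.mul_smul]⟩
  have hrad2 := H.rad_mul (H.rad_conj hrad hkM kw) (H.rad_inv hrad)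
  have ev : (g⁻¹).1 * kc α v = kc α v := by
    have : g.1 * kc α v = kc α v := by rw [gy v wv, rv, zero_smul, add_zero]
    conv_lhs => rw [← this]
    rw [← Matrix.mul_assoc, g.inv_mul, Matrix.one_mul]
  have ekv : (k⁻¹).1 * kc α v = kc α v - (4 * QB v) • (kc α r' * E') := by
    have : (k⁻¹).1 * (k.1 * kc α v) = kc α v := by rw [← Matrix.mul_assoc, k.inv_mul, Matrix.one_mul]
    have e : (k⁻¹).1 * kc α r' = kc α r' := by
      conv_lhs => rw [← kr']
      rw [← Matrix.mul_assoc, k.inv_mul, Matrix.one_mul]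
    rw [kv, Matrix.mul_add, Matrix.mul_smul, ← Matrix.mul_assoc _ (kc α r'), e] at this
    exact eq_sub_of_add_eq this
  have fin : (k * g * k⁻¹ * g⁻¹).1 * kc α v = kc α v + kc α w * ((-(4 * QB v)) • (E * E')) := by
    rw [Units.val_mul, Units.val_mul, Units.val_mul, Matrix.mul_assoc, ev, Matrix.mul_assoc, ekv, Matrix.mul_assoc,
      Matrix.mul_sub, Matrix.mul_smul, ← Matrix.mul_assoc g.1, gy v wv, gy r' wr', rv, rr', zero_smul, add_zero,
      one_smul, Matrix.add_mul, smul_add, Matrix.mul_sub, Matrix.mul_add, Matrix.mul_smul, Matrix.mul_smul,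
      Matrix.mul_assoc (kc α w), ← Matrix.mul_assoc k.1 (kc α r'), kr', ← Matrix.mul_assoc k.1 (kc α w), kw, kv,
      Matrix.mul_smul]
    module
  have h1 := H.d_smul (H.level hp.qw hp.ne hrad2 wv fin) (-(4 * QB v))⁻¹
  rwa [smul_smul, inv_mul_cancel₀ (neg_ne_zero.2 (mul_ne_zero (by
    rw [show (4 : F) = 2 * 2 by norm_num]; exact mul_ne_zero H.gA.two H.gA.two) qv)), one_smul] at h1

theorem alg : Alg QA JA (D JA QB JB M) where
  g := H.gA
  three := H.three
  excl3 := H.excl3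
  excl4 := H.excl4
  add := H.d_add
  smul := H.d_smul
  one := H.d_one
  mul := H.d_mul
  adjoint := H.d_adj
  conj h _ hS := H.d_conj h hS

/-- A non-scalar level gives every level. -/
theorem d_all (hns : ¬ Small JA QB JB M) (E : Matrix α α F) : D JA QB JB M E := by
  unfold Small at hns
  push Not at hns
  obtain ⟨E₀, hE₀, hns⟩ := hns
  exact H.alg.all hE₀ hns E

end Hyp

end CfsgLib.Classical.TensorOrth
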