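import Cfsg.Agent.Lib.Classical.OrthOmega

set_option autoImplicit false
set_option linter.unusedSectionVars false

/-!
Singular planes of an orthogonal space of dimension at least five in odd characteristic.
-/

namespace CfsgLib.Classical.TensorOrth

open Matrix CfsgLib.Orth

variable {F : Type*} [Field F] [Finite F] {γ : Type} [Fintype γ] [DecidableEq γ]
variable {Q : QuadraticForm F (γ → F)}

local notation "B" => QuadraticMap.polar (DFunLike.coe Q)

/-- A basis of a singular plane. -/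
structure Plane (Q : QuadraticForm F (γ → F)) (w r : γ → F) : Prop where
  qw : Q w = 0
  qr : Q r = 0
  bwr : QuadraticMap.polar ⇑Q w r = 0
  ne : w ≠ 0
  indep : ∀ c : F, r ≠ c • w

theorem Plane.ne' {w r : γ → F} (h : Plane Q w r) : r ≠ 0 := fun e => h.indep 0 (by rw [e, zero_smul])

theorem Plane.symm {w r : γ → F} (h : Plane Q w r) : Plane Q r w :=
  ⟨h.qr, h.qw, by rw [b_comm]; exact h.bwr, h.ne', fun c e => by
    by_cases hc : c = 0
    · exact h.ne (by rw [e, hc, zero_smul])
    · exact h.indep c⁻¹ (by rw [e, smul_smul, inv_mul_cancel₀ hc, one_smul])⟩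

theorem Plane.smul {w r : γ → F} (h : Plane Q w r) {c : F} (hc : c ≠ 0) : Plane Q w (c • r) :=
  ⟨h.qw, by rw [q_smul, h.qr, mul_zero], by rw [b_smul_right, h.bwr, mul_zero], h.ne, fun d e =>
    h.indep (c⁻¹ * d) (by rw [mul_smul, ← e, smul_smul, inv_mul_cancel₀ hc, one_smul])⟩

theorem Plane.add {w r : γ → F} (h : Plane Q w r) (c : F) : Plane Q w (r + c • w) :=
  ⟨h.qw, by rw [q_add, h.qr, q_smul, h.qw, b_smul_right, b_comm r w, h.bwr]; ring,
    by rw [b_add_right, h.bwr, b_smul_right, b_self_zero h.qw, mul_zero, add_zero], h.ne, fun d e =>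
    h.indep (d - c) (by rw [sub_smul, ← e, add_sub_cancel_right])⟩

/-- An isometry carries a plane to a plane. -/
theorem Plane.image {w r : γ → F} (h : Plane Q w r) (e : Grp Q) : Plane Q (ap e w) (ap e r) :=
  ⟨by rw [ap_q]; exact h.qw, by rw [ap_q]; exact h.qr, by rw [ap_b]; exact h.bwr, fun e0 => h.ne (by
    have := congrArg (ap e⁻¹) e0
    rwa [ap_inv_ap, show ap e⁻¹ 0 = (0 : γ → F) from Matrix.mulVec_zero _] at this), fun c e0 => h.indep c (by
    rw [← ap_smul] at e0
    exact ap_inj e e0)⟩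

theorem exists_perp_value (hB : Nondeg Q) {w x : γ → F} (hx : ∀ c : F, x ≠ c • w) :
    ∃ z, B w z = 0 ∧ B x z = 1 := by
  obtain ⟨z, hz, hz1⟩ := exists_orth_one hB (W := Submodule.span F {w}) (x := x) fun h => by
    obtain ⟨c, hc⟩ := Submodule.mem_span_singleton.1 h
    exact hx c hc.symm
  exact ⟨z, mem_orth_span.1 hz w rfl, hz1⟩

theorem exists_perp_both (hB : Nondeg Q) {w x y : γ → F} (hx : ∀ c : F, x ≠ c • w) (hy : ∀ c : F, y ≠ c • w) :
    ∃ z, B w z = 0 ∧ B x z ≠ 0 ∧ B y z ≠ 0 := by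
  obtain ⟨a, a1, a2⟩ := exists_perp_value hB hx
  obtain ⟨b, b1, b2⟩ := exists_perp_value hB hy
  by_cases h1 : B y a = 0
  · by_cases h2 : B x b = 0
    · exact ⟨a + b, by rw [b_add_right, a1, b1, add_zero], by rw [b_add_right, a2, h2, add_zero]; exact one_ne_zero,
        by rw [b_add_right, h1, b2, zero_add]; exact one_ne_zero⟩
    · exact ⟨b, b1, h2, by rw [b2]; exact one_ne_zero⟩
  · exact ⟨a, a1, by rw [a2]; exact one_ne_zero, h1⟩

/-- An anisotropic vector orthogonal to a hyperbolic pair and a singular vector. -/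
theorem exists_aniso (hB : Nondeg Q) (hn : 5 ≤ Module.finrank F (γ → F)) {w x y : γ → F}
    (hx : Q x = 0) (hy : Q y = 0) (hwx : B w x = 0) (hwy : B w y = 0) (hxy : B x y ≠ 0) :
    ∃ v, B w v = 0 ∧ B x v = 0 ∧ B y v = 0 ∧ Q v ≠ 0 := by
  classical
  set T := Submodule.span F (({w, x, y} : Finset (γ → F)) : Set (γ → F)) with hT
  set U := orth Q T with hU
  have hdim := finrank_orth_span hB ({w, x, y} : Finset (γ → F))
  have hc3 : ({w, x, y} : Finset (γ → F)).card ≤ 3 := Finset.card_le_three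
  by_contra hc
  push Not at hc
  have hall : ∀ v ∈ U, Q v = 0 := fun v hv => by
    have h := fun s hs => mem_orth_span.1 hv s hs
    exact hc v (h w (by simp)) (h x (by simp)) (h y (by simp))
  have hle : U ≤ Submodule.span F {w} := by
    intro u hu
    have hu' : u ∈ T := by
      rw [← orth_orth hB T]
      exact le_orth_of_singular hall hu
    rw [hT, Finset.coe_insert, Finset.coe_pair] at hu'
    obtain ⟨a, z, hz, rfl⟩ := Submodule.mem_span_insert.1 hu'
    obtain ⟨b, c, rfl⟩ := Submodule.mem_span_pair.1 hz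
    have h1 := mem_orth_span.1 hu x (by simp)
    have h2 := mem_orth_span.1 hu y (by simp)
    rw [b_add_right, b_add_right, b_smul_right, b_smul_right, b_smul_right, b_self_zero hx, b_comm x w, hwx,
      mul_zero, mul_zero, zero_add, zero_add, mul_eq_zero, or_iff_left hxy] at h1
    rw [b_add_right, b_add_right, b_smul_right, b_smul_right, b_smul_right, b_self_zero hy, b_comm y w, hwy,
      b_comm y x, mul_zero, mul_zero, zero_add, add_zero, mul_eq_zero, or_iff_left hxy] at h2
    rw [h1, h2, zero_smul, zero_smul, add_zero, add_zero]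
    exact Submodule.smul_mem _ _ (Submodule.mem_span_singleton_self w)
  have h1 := Submodule.finrank_mono hle
  have h2 : Module.finrank F (Submodule.span F ({w} : Set (γ → F))) ≤ 1 := by
    have := finrank_span_finset_le_card (R := F) ({w} : Finset (γ → F))
    rwa [Set.finrank, Finset.coe_singleton, Finset.card_singleton] at this
  rw [hU, hT] at h1
  omega

/-- A singular vector orthogonal to `w` and to neither of two others. -/
theorem exists_chi (hB : Nondeg Q) (hn : 5 ≤ Module.finrank F (γ → F)) {w x y : γ → F} (h1 : Plane Q w x)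
    (h2 : Plane Q w y) : ∃ χ, Q χ = 0 ∧ B w χ = 0 ∧ B χ x ≠ 0 ∧ B χ y ≠ 0 := by
  by_cases hxy : B x y = 0
  · obtain ⟨z, z0, z1, z2⟩ := exists_perp_both hB h1.indep h2.indep
    refine ⟨z - (Q z / B x z) • x, ?_, ?_, ?_, ?_⟩
    · rw [q_sub, q_smul, h1.qr, b_smul_right, b_comm z x, div_mul_cancel₀ _ z1]; ring
    · rw [b_sub_right, b_smul_right, z0, h1.bwr, mul_zero, sub_zero]
    · rw [b_sub_left, b_smul_left, b_self_zero h1.qr, mul_zero, sub_zero, b_comm]; exact z1
    · rw [b_sub_left, b_smul_left, hxy, mul_zero, sub_zero, b_comm]; exact z2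
  · obtain ⟨v, v0, v1, v2, v3⟩ := exists_aniso hB hn h1.qr h2.qr h1.bwr h2.bwr hxy
    refine ⟨x + v + (-Q v / B x y) • y, ?_, ?_, ?_, ?_⟩
    · rw [q_add, q_add, q_smul, h1.qr, h2.qr, v1, b_smul_right, b_add_left, b_comm v y, v2, add_zero]
      field_simp
      ring
    · rw [b_add_right, b_add_right, b_smul_right, v0, h1.bwr, h2.bwr]; ring
    · rw [b_add_left, b_add_left, b_smul_left, b_self_zero h1.qr, b_comm v x, v1, b_comm y x,
        div_mul_cancel₀ _ hxy, zero_add, zero_add]
      exact neg_ne_zero.2 v3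
    · rw [b_add_left, b_add_left, b_smul_left, b_self_zero h2.qr, mul_zero, b_comm v y, v2, add_zero, add_zero]
      exact hxy

/-- The planes form one orbit, up to a scalar. -/
theorem exists_move_plane (hB : Nondeg Q) (hn : 5 ≤ Module.finrank F (γ → F)) {w r w' r' : γ → F}
    (h : Plane Q w r) (h' : Plane Q w' r') :
    ∃ e ∈ El Q, ∃ c : F, c ≠ 0 ∧ ap e w = w' ∧ ap e r = c • r' := by
  obtain ⟨e₁, he₁, h₁⟩ := exists_move_singular hB hn h.qw h'.qw h.ne h'.ne
  have hp := h.image e₁
  rw [h₁] at hp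
  obtain ⟨χ, q, bw, bx, bby⟩ := exists_chi hB hn hp h'
  obtain ⟨e₂, he₂, h₂⟩ := exists_move_partner hB q (f := (B χ (ap e₁ r))⁻¹ • ap e₁ r) (f' := (B χ r')⁻¹ • r')
    (by rw [q_smul, hp.qr, mul_zero]) (by rw [q_smul, h'.qr, mul_zero])
    (by rw [b_smul_right, b_smul_right, inv_mul_cancel₀ bx, inv_mul_cancel₀ bby])
    (by rw [b_smul_right, inv_mul_cancel₀ bx])
  refine ⟨e₂ * e₁, mul_mem (siegel_mem_El he₂) he₁, B χ (ap e₁ r) * (B χ r')⁻¹,
    mul_ne_zero bx (inv_ne_zero bby), ?_, ?_⟩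
  · rw [ap_mul, h₁, siegel_fix he₂ bw (by rw [b_sub_right, b_smul_right, b_smul_right, hp.bwr, h'.bwr,
      mul_zero, mul_zero, sub_zero])]
  · rw [ap_mul, mul_smul, ← h₂, ← ap_smul, smul_smul, mul_inv_cancel₀ bx, one_smul]

/-- A hyperbolic frame around a plane, with an anisotropic vector orthogonal to it. -/
theorem exists_frame (hB : Nondeg Q) (hn : 5 ≤ Module.finrank F (γ → F)) {w r : γ → F} (h : Plane Q w r) :
    ∃ w' r' v, Q w' = 0 ∧ Q r' = 0 ∧ B w w' = 1 ∧ B r w' = 0 ∧ B w r' = 0 ∧ B r r' = 1 ∧ B w' r' = 0 ∧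
      B w v = 0 ∧ B r v = 0 ∧ B w' v = 0 ∧ B r' v = 0 ∧ Q v ≠ 0 := by
  classical
  obtain ⟨z, z0, z1⟩ := exists_perp_value hB h.symm.indep
  set w' := z - Q z • w with hw'
  have a1 : Q w' = 0 := by rw [hw', q_sub, q_smul, h.qw, b_smul_right, b_comm z w, z1]; ring
  have a2 : B w w' = 1 := by rw [hw', b_sub_right, b_smul_right, b_self_zero h.qw, z1, mul_zero, sub_zero]
  have a3 : B r w' = 0 := by rw [hw', b_sub_right, b_smul_right, z0, b_comm r w, h.bwr, mul_zero, sub_zero]
  obtain ⟨y, y1, y2⟩ := exists_perp_value hB h.indep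
  set r₁ := y - B w' y • w with hr₁
  have c1 : B w r₁ = 0 := by rw [hr₁, b_sub_right, b_smul_right, b_self_zero h.qw, y1, mul_zero, sub_zero]
  have c2 : B w' r₁ = 0 := by rw [hr₁, b_sub_right, b_smul_right, b_comm w' w, a2, mul_one, sub_self]
  have c3 : B r r₁ = 1 := by rw [hr₁, b_sub_right, b_smul_right, b_comm r w, h.bwr, y2, mul_zero, sub_zero]
  set r' := r₁ - Q r₁ • r with hr'
  have b1 : Q r' = 0 := by rw [hr', q_sub, q_smul, h.qr, b_smul_right, b_comm r₁ r, c3]; ring
  have b2 : B w r' = 0 := by rw [hr', b_sub_right, b_smul_right, c1, h.bwr, mul_zero, sub_zero]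
  have b3 : B r r' = 1 := by rw [hr', b_sub_right, b_smul_right, c3, b_self_zero h.qr, mul_zero, sub_zero]
  have b4 : B w' r' = 0 := by rw [hr', b_sub_right, b_smul_right, c2, b_comm w' r, a3, mul_zero, sub_zero]
  set T := Submodule.span F (({w, r, w', r'} : Finset (γ → F)) : Set (γ → F)) with hT
  have hdim := finrank_orth_span hB ({w, r, w', r'} : Finset (γ → F))
  have hc4 : ({w, r, w', r'} : Finset (γ → F)).card ≤ 4 := Finset.card_le_four
  refine ⟨w', r', ?_⟩
  by_contra hc
  push Not at hc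
  have hall : ∀ v ∈ orth Q T, Q v = 0 := fun v hv => by
    have h := fun s hs => mem_orth_span.1 hv s hs
    exact hc v a1 b1 a2 a3 b2 b3 b4 (h w (by simp)) (h r (by simp)) (h w' (by simp)) (h r' (by simp))
  have hbot : orth Q T = ⊥ := by
    rw [Submodule.eq_bot_iff]
    intro u hu
    have hu' : u ∈ T := by
      rw [← orth_orth hB T]
      exact le_orth_of_singular hall hu
    rw [hT, Finset.coe_insert, Finset.coe_insert, Finset.coe_pair] at hu'
    obtain ⟨a, z, hz, rfl⟩ := Submodule.mem_span_insert.1 hu'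
    obtain ⟨b, z, hz', rfl⟩ := Submodule.mem_span_insert.1 hz
    obtain ⟨c, d, rfl⟩ := Submodule.mem_span_pair.1 hz'
    have e1 := mem_orth_span.1 hu w (by simp)
    have e2 := mem_orth_span.1 hu r (by simp)
    have e3 := mem_orth_span.1 hu w' (by simp)
    have e4 := mem_orth_span.1 hu r' (by simp)
    simp only [b_add_right, b_smul_right, b_self_zero h.qw, b_self_zero h.qr, b_self_zero a1, b_self_zero b1,
      h.bwr, b_comm r w, a2, b_comm w' w, a3, b_comm w' r, b2, b_comm r' w, b3, b_comm r' r, b4, b_comm r' w',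
      mul_zero, mul_one, zero_add, add_zero] at e1 e2 e3 e4
    rw [e1, e2, e3, e4]
    simp
  rw [← hT, hbot, finrank_bot] at hdim
  omega

end CfsgLib.Classical.TensorOrth
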