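import Cfsg.Agent.Lib.Classical.TensorOrth.Forms
import Cfsg.Agent.Lib.Classical.TensorOrth.Planes

set_option autoImplicit false
set_option linter.unusedSectionVars false

/-!
Groups between the stabiliser of a product of two orthogonal spaces and `Ω`: the setting and the basic
elements of the two factors.
-/

namespace CfsgLib.Classical.TensorOrth

open Matrix CfsgLib.Classical.TensorMax CfsgLib.Orth
open CfsgLib.Classical.TensorSymp (adj Sp ten kc_mulVec kron_mulVec_ten ten_dot matrix_ext_dot)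
open scoped MatrixGroups Kronecker

variable {F : Type*} [Field F] {α β : Type} [Fintype α] [DecidableEq α] [Fintype β] [DecidableEq β]

/-- The setting. -/
structure Hyp (QA : QuadraticForm F (α → F)) (QB : QuadraticForm F (β → F)) (JA : Matrix α α F)
    (JB : Matrix β β F) (Q : QuadraticForm F (α × β → F)) (M : Subgroup (GL (α × β) F)) : Prop where
  gA : Gram QA JA
  gB : Gram QB JB
  polar : ∀ x y, QuadraticMap.polar ⇑Q x y = x ⬝ᵥ (JA ⊗ₖ JB) *ᵥ y
  three : 3 ≤ Fintype.card α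
  five : 5 ≤ Fintype.card β
  lt : Fintype.card α < Fintype.card β
  excl3 : 4 ≤ Fintype.card α ∨ ∃ t : F, t ≠ 0 ∧ t * t ≠ 1
  excl4 : Fintype.card α = 4 → ∀ u v : α → F, QA u = 0 → QA v = 0 → QuadraticMap.polar ⇑QA u v = 0 →
    u ≠ 0 → ∃ c : F, v = c • u
  le : M ≤ Cfsg.Geo.omegaGL ⇑Q
  tens : ∀ g : GL (α × β) F, g ∈ Cfsg.Geo.omegaGL ⇑Q → Tens g.1 → g ∈ M

/-- The nilpotent part of a level element. -/
noncomputable def Np (JA : Matrix α α F) (JB : Matrix β β F) (w r : β → F) (E : Matrix α α F) :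
    Matrix (α × β) (α × β) F :=
  kc α w * E * kr α (JB *ᵥ r) - kc α r * adj JA E * kr α (JB *ᵥ w)

/-- A central element of the radical. -/
def Zm (JB : Matrix β β F) (w : β → F) (C : Matrix α α F) : Matrix (α × β) (α × β) F :=
  kc α w * C * kr α (JB *ᵥ w)

/-- The levels which occur in `M`. -/
def D (JA : Matrix α α F) (QB : QuadraticForm F (β → F)) (JB : Matrix β β F) (M : Subgroup (GL (α × β) F))
    (E : Matrix α α F) : Prop :=
  ∀ w r : β → F, Plane QB w r → InM M (1 + Np JA JB w r E)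

/-- All the levels are scalars. -/
def Small (JA : Matrix α α F) (QB : QuadraticForm F (β → F)) (JB : Matrix β β F) (M : Subgroup (GL (α × β) F)) : Prop :=
  ∀ E, D JA QB JB M E → ∃ c : F, E = c • 1

theorem _root_.CfsgLib.Classical.TensorMax.InM.inv {M : Subgroup (GL (α × β) F)} {X Y : Matrix (α × β) (α × β) F} (h : InM M X) (e : X * Y = 1) :
    InM M Y := by
  obtain ⟨g, hg, rfl⟩ := h
  exact ⟨g⁻¹, M.inv_mem hg, Units.inv_eq_of_mul_eq_one_right e⟩

theorem _root_.CfsgLib.Classical.TensorMax.InM.one {M : Subgroup (GL (α × β) F)} : InM M 1 := ⟨1, M.one_mem, rfl⟩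

theorem _root_.CfsgLib.Classical.TensorMax.InM.add {M : Subgroup (GL (α × β) F)} {X Y : Matrix (α × β) (α × β) F} (hX : InM M (1 + X))
    (hY : InM M (1 + Y)) (e : X * Y = 0) : InM M (1 + (X + Y)) := by
  have := hX.mul hY
  rwa [Matrix.mul_add, Matrix.mul_one, Matrix.add_mul, Matrix.one_mul, e, add_zero, add_assoc] at this

theorem _root_.CfsgLib.Classical.TensorMax.InM.neg {M : Subgroup (GL (α × β) F)} {X : Matrix (α × β) (α × β) F} (hX : InM M (1 + X))
    (e : X * X = 0) : InM M (1 + -X) := by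
  refine hX.inv ?_
  rw [Matrix.mul_add, Matrix.mul_one, Matrix.mul_neg, Matrix.add_mul, Matrix.one_mul, e]
  abel

theorem _root_.CfsgLib.Classical.TensorMax.InM.natSmul {M : Subgroup (GL (α × β) F)} {X : Matrix (α × β) (α × β) F} (hX : InM M (1 + X))
    (e : X * X = 0) (n : ℕ) : InM M (1 + (n : F) • X) := by
  induction n with
  | zero => simpa using InM.one
  | succ n ih =>
    rw [Nat.cast_succ, add_smul, one_smul]
    exact ih.add hX (by rw [Matrix.smul_mul, e, smul_zero])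

theorem _root_.CfsgLib.Classical.TensorMax.InM.half [Finite F] {M : Subgroup (GL (α × β) F)} (h2 : (2 : F) ≠ 0) {X : Matrix (α × β) (α × β) F}
    (hX : InM M (1 + (2 : F) • X)) (e : X * X = 0) : InM M (1 + X) := by
  obtain ⟨p, hp⟩ := CharP.exists F
  have hp0 : Fact p.Prime := ⟨(CharP.char_is_prime_or_zero F p).resolve_right (CharP.char_ne_zero_of_finite F p)⟩
  have hp2 : p ≠ 2 := fun e => by subst e; exact h2 (CharP.cast_eq_zero F 2)
  obtain ⟨n, hn⟩ := hp0.out.odd_of_ne_two hp2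
  have := hX.natSmul (by rw [Matrix.smul_mul, Matrix.mul_smul, e, smul_zero, smul_zero]) (n + 1)
  rwa [smul_smul, show ((n + 1 : ℕ) : F) * 2 = 1 by
    have h0 : ((2 * n + 1 : ℕ) : F) = 0 := by rw [← hn, CharP.cast_eq_zero]
    push_cast at h0 ⊢
    linear_combination h0, one_smul] at this

namespace Hyp

variable [Finite F] {QA : QuadraticForm F (α → F)} {QB : QuadraticForm F (β → F)} {JA : Matrix α α F}
  {JB : Matrix β β F} {Q : QuadraticForm F (α × β → F)} {M : Subgroup (GL (α × β) F)} (H : Hyp QA QB JA JB Q M)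
include H

theorem nonempty_left : Nonempty α := Fintype.card_pos_iff.1 (by have := H.three; omega)

theorem nonempty_right : Nonempty β := Fintype.card_pos_iff.1 (by have := H.five; omega)

theorem dimB : 5 ≤ Module.finrank F (β → F) := by rw [Module.finrank_pi]; exact H.five

theorem five_le_dim : 5 ≤ Module.finrank F (α × β → F) := by
  rw [Module.finrank_pi, Fintype.card_prod]
  have := H.three
  have := H.five
  nlinarith

theorem polar_ten (a a' : α → F) (b b' : β → F) : QuadraticMap.polar ⇑Q (ten a b) (ten a' b') =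
    QuadraticMap.polar ⇑QA a a' * QuadraticMap.polar ⇑QB b b' := by
  rw [H.polar, kron_mulVec_ten, ten_dot, H.gA.pol, H.gB.pol]

theorem q_ten (a : α → F) (b : β → F) : Q (ten a b) = 2 * QA a * QB b := by
  have := H.polar_ten a a b b
  rw [b_self, b_self, b_self] at this
  refine mul_left_cancel₀ H.gA.two ?_
  linear_combination this

theorem polar_apply (y : α × β → F) (a : α → F) (b : β → F) :
    QuadraticMap.polar ⇑Q y (ten a b) = (JA *ᵥ a) ⬝ᵥ (kr α (JB *ᵥ b) *ᵥ y) := by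
  rw [H.polar, kron_mulVec_ten, Matrix.dotProduct_mulVec, TensorSymp.vecMul_kr, dotProduct_comm]

theorem nondeg : Nondeg Q := by
  intro x hx
  have hd : IsUnit (JA ⊗ₖ JB).det := by
    rw [Matrix.det_kronecker]
    exact (H.gA.isUnit_det.pow _).mul (H.gB.isUnit_det.pow _)
  have h0 : x ᵥ* (JA ⊗ₖ JB) = 0 := by
    ext p
    have := hx (Pi.single p 1)
    rw [H.polar, Matrix.dotProduct_mulVec, dotProduct_single, mul_one] at this
    exact this
  have := congrArg (· ᵥ* (JA ⊗ₖ JB)⁻¹) h0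
  simpa [Matrix.vecMul_vecMul, Matrix.mul_nonsing_inv _ hd] using this

theorem iso_mem {g : GL (α × β) F} (hg : g ∈ M) : g ∈ Cfsg.isometryGroup F ⇑Q :=
  Subgroup.map_subtype_le _ (H.le hg)

theorem gram {g : GL (α × β) F} (hg : g ∈ Cfsg.isometryGroup F ⇑Q) :
    g.1ᵀ * (JA ⊗ₖ JB) * g.1 = JA ⊗ₖ JB := by
  refine matrix_ext_dot fun x y => ?_
  have e := CfsgLib.Orth.ap_b (⟨g, hg⟩ : CfsgLib.Orth.Grp Q) x y
  rw [H.polar, H.polar] at e
  rw [← e, ← Matrix.mulVec_mulVec, ← Matrix.mulVec_mulVec, Matrix.dotProduct_mulVec x g.1ᵀ, Matrix.vecMul_transpose]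
  rfl

theorem iso_of_gram {X : Matrix (α × β) (α × β) F} (hX : Xᵀ * (JA ⊗ₖ JB) * X = JA ⊗ₖ JB) (z : α × β → F) :
    Q (X *ᵥ z) = Q z := by
  refine mul_left_cancel₀ H.gA.two ?_
  rw [← b_self, ← b_self, H.polar, H.polar]
  conv_rhs => rw [← hX]
  rw [← Matrix.mulVec_mulVec, ← Matrix.mulVec_mulVec, Matrix.dotProduct_mulVec z Xᵀ, Matrix.vecMul_transpose]

theorem kc_transpose_mul (y : β → F) :
    (kc α y : Matrix (α × β) α F)ᵀ * (JA ⊗ₖ JB) = JA * kr α (JB *ᵥ y) := by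
  have e : (kc α y : Matrix (α × β) α F)ᵀ = kr α y := by
    ext i ⟨j, k⟩
    simp [kc_apply, kr_apply, eq_comm]
  rw [e, kr_mul_kron, H.gB.vecMul_eq]

/-- The adjoint rule. -/
theorem adjoint {g : GL (α × β) F} (hg : g ∈ M) {y y' w : β → F} {E : Matrix α α F}
    (h : g.1 * kc α y = kc α y' + kc α w * E) :
    kr α (JB *ᵥ y) * (g⁻¹).1 = kr α (JB *ᵥ y') + adj JA E * kr α (JB *ᵥ w) := by
  have hJ : (JA ⊗ₖ JB) * (g⁻¹).1 = g.1ᵀ * (JA ⊗ₖ JB) := by
    conv_lhs => rw [← H.gram (H.iso_mem hg)]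
    rw [Matrix.mul_assoc _ g.1, g.mul_inv, Matrix.mul_one]
  have e : JA * (kr α (JB *ᵥ y) * (g⁻¹).1) = JA * kr α (JB *ᵥ y') + Eᵀ * (JA * kr α (JB *ᵥ w)) := by
    rw [← Matrix.mul_assoc, ← H.kc_transpose_mul, Matrix.mul_assoc, hJ, ← Matrix.mul_assoc,
      ← Matrix.transpose_mul, h, Matrix.transpose_add, Matrix.add_mul, H.kc_transpose_mul, Matrix.transpose_mul,
      Matrix.mul_assoc, H.kc_transpose_mul]
  have e2 := congrArg (fun X => JA⁻¹ * X) e
  simp only [Matrix.mul_add, ← Matrix.mul_assoc, Matrix.nonsing_inv_mul JA H.gA.isUnit_det, Matrix.one_mul] at e2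
  rw [e2, adj]

theorem adjoint_fix {g : GL (α × β) F} (hg : g ∈ M) {y : β → F} (h : g.1 * kc α y = kc α y) :
    kr α (JB *ᵥ y) * g.1 = kr α (JB *ᵥ y) := by
  have h1 := H.adjoint hg (y' := y) (w := y) (E := 0) (by rw [h, Matrix.mul_zero, add_zero])
  rw [H.gA.adj_zero, Matrix.zero_mul, add_zero] at h1
  conv_lhs => rw [← h1]
  rw [Matrix.mul_assoc, g.inv_mul, Matrix.mul_one]

/-- A Kronecker product of two isometries. -/
theorem exists_kron (S : Grp QA) (T : Grp QB) :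
    ∃ g : Grp Q, (g : GL (α × β) F).1 = (S : GL α F).1 ⊗ₖ (T : GL β F).1 := by
  obtain ⟨g, hg⟩ := exists_iso H.nondeg ((S : GL α F).1 ⊗ₖ (T : GL β F).1).mulVecLin (fun x => H.iso_of_gram (by
    rw [← Matrix.kroneckerMap_transpose, ← Matrix.mul_kronecker_mul, ← Matrix.mul_kronecker_mul, H.gA.sp_grp S,
      H.gB.sp_grp T]) x)
  exact ⟨g, Matrix.ext_iff_mulVec.2 hg⟩

theorem inM_sq (S : Grp QA) (T : Grp QB) :
    InM M ((((S * S : Grp QA) : GL α F)).1 ⊗ₖ (((T * T : Grp QB) : GL β F)).1) := by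
  obtain ⟨g, hg⟩ := H.exists_kron S T
  have hval : ((g * g : Grp Q) : GL (α × β) F).1 =
      (((S * S : Grp QA) : GL α F)).1 ⊗ₖ (((T * T : Grp QB) : GL β F)).1 := by
    show (g : GL (α × β) F).1 * (g : GL (α × β) F).1 = ((S : GL α F).1 * (S : GL α F).1) ⊗ₖ _
    rw [hg, ← Matrix.mul_kronecker_mul]
    rfl
  exact ⟨_, H.tens _ ⟨g * g, sq_mem_omega H.nondeg H.five_le_dim g, rfl⟩ ⟨_, _, hval⟩, hval⟩

theorem siegel_eq_sq {γ : Type} [Fintype γ] [DecidableEq γ] {Q₁ : QuadraticForm F (γ → F)} (hB : Nondeg Q₁)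
    {u v : γ → F} {g : Grp Q₁} (hg : IsSiegel u v g) : ∃ s : Grp Q₁, s * s = g := by
  obtain ⟨s, hs⟩ := exists_siegel hB hg.1 (v := (2 : F)⁻¹ • v) (by rw [b_smul_right, hg.2.1, mul_zero])
  refine ⟨s, ?_⟩
  have := siegel_mul hs hs
  rw [← add_smul, ← two_mul, mul_inv_cancel₀ H.gA.two, one_smul] at this
  exact siegel_unique this hg

theorem inM_elA {S : Grp QA} (hS : S ∈ El QA) : InM M ((S : GL α F).1 ⊗ₖ (1 : Matrix β β F)) := by
  induction hS using Subgroup.closure_induction with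
  | mem g hg =>
    obtain ⟨u, v, h⟩ := hg
    obtain ⟨s, rfl⟩ := H.siegel_eq_sq H.gA.nd h
    have := H.inM_sq s 1
    rwa [show ((((1 : Grp QB) * 1 : Grp QB) : GL β F)).1 = (1 : Matrix β β F) by rw [mul_one]; rfl] at this
  | one => simpa using InM.one
  | mul g h _ _ hg hh =>
    have := hg.mul hh
    rwa [← Matrix.mul_kronecker_mul, Matrix.one_mul] at this
  | inv g _ hg =>
    refine hg.inv ?_
    rw [← Matrix.mul_kronecker_mul, Matrix.one_mul, show (g : GL α F).1 * ((g⁻¹ : Grp QA) : GL α F).1 = 1 from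
      (g : GL α F).mul_inv, Matrix.one_kronecker_one]

theorem inM_elB {T : Grp QB} (hT : T ∈ El QB) : InM M ((1 : Matrix α α F) ⊗ₖ (T : GL β F).1) := by
  induction hT using Subgroup.closure_induction with
  | mem g hg =>
    obtain ⟨u, v, h⟩ := hg
    obtain ⟨s, rfl⟩ := H.siegel_eq_sq H.gB.nd h
    have := H.inM_sq 1 s
    rwa [show ((((1 : Grp QA) * 1 : Grp QA) : GL α F)).1 = (1 : Matrix α α F) by rw [mul_one]; rfl] at this
  | one => simpa using InM.one
  | mul g h _ _ hg hh =>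
    have := hg.mul hh
    rwa [← Matrix.mul_kronecker_mul, Matrix.one_mul] at this
  | inv g _ hg =>
    refine hg.inv ?_
    rw [← Matrix.mul_kronecker_mul, Matrix.one_mul, show (g : GL β F).1 * ((g⁻¹ : Grp QB) : GL β F).1 = 1 from
      (g : GL β F).mul_inv, Matrix.one_kronecker_one]

theorem np_mul_kc (w r y : β → F) (E : Matrix α α F) : Np JA JB w r E * kc α y =
    ((JB *ᵥ r) ⬝ᵥ y) • (kc α w * E) - ((JB *ᵥ w) ⬝ᵥ y) • (kc α r * adj JA E) := by
  simp only [Np, Matrix.sub_mul, Matrix.mul_assoc, kr_mul_kc, Matrix.mul_smul, Matrix.mul_one]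

theorem zm_mul_kc (w y : β → F) (C : Matrix α α F) :
    Zm JB w C * kc α y = ((JB *ᵥ w) ⬝ᵥ y) • (kc α w * C) := by
  simp only [Zm, Matrix.mul_assoc, kr_mul_kc, Matrix.mul_smul, Matrix.mul_one]

theorem np_add (w r : β → F) (E E' : Matrix α α F) :
    Np JA JB w r (E + E') = Np JA JB w r E + Np JA JB w r E' := by
  simp only [Np, H.gA.adj_add, Matrix.mul_add, Matrix.add_mul]; abel

theorem np_smul (c : F) (w r : β → F) (E : Matrix α α F) :
    Np JA JB w r (c • E) = c • Np JA JB w r E := by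
  simp only [Np, H.gA.adj_smul, Matrix.mul_smul, Matrix.smul_mul, smul_sub]

theorem np_smul_right (c : F) (w r : β → F) (E : Matrix α α F) :
    Np JA JB w (c • r) E = Np JA JB w r (c • E) := by
  simp only [Np, H.gA.adj_smul, Matrix.mulVec_smul, kr_smul, kc_smul, Matrix.mul_smul, Matrix.smul_mul]

theorem np_swap (w r : β → F) (E : Matrix α α F) : Np JA JB r w E = -Np JA JB w r (adj JA E) := by
  simp only [Np, H.gA.adj_adj, neg_sub]

theorem phi_image (T : Grp QB) (v : β → F) : (JB *ᵥ v) ᵥ* ((T⁻¹ : Grp QB) : GL β F).1 = JB *ᵥ ap T v := by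
  have e : (JB *ᵥ ap T v) ᵥ* (T : GL β F).1 = JB *ᵥ v := by
    show (JB *ᵥ ((T : GL β F).1 *ᵥ v)) ᵥ* (T : GL β F).1 = _
    rw [← Matrix.mulVec_transpose, Matrix.mulVec_mulVec, Matrix.mulVec_mulVec, H.gB.sp_grp T]
  rw [← e, Matrix.vecMul_vecMul, show (T : GL β F).1 * ((T⁻¹ : Grp QB) : GL β F).1 = 1 from (T : GL β F).mul_inv,
    Matrix.vecMul_one]

theorem np_conj (S : Grp QA) (T : Grp QB) (w r : β → F) (E : Matrix α α F) :
    ((S : GL α F).1 ⊗ₖ (T : GL β F).1) * Np JA JB w r E *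
        (((S⁻¹ : Grp QA) : GL α F).1 ⊗ₖ ((T⁻¹ : Grp QB) : GL β F).1) =
      Np JA JB (ap T w) (ap T r) ((S : GL α F).1 * E * ((S⁻¹ : Grp QA) : GL α F).1) := by
  have hphi := H.phi_image T
  have hadj : adj JA ((S : GL α F).1 * E * ((S⁻¹ : Grp QA) : GL α F).1) =
      (S : GL α F).1 * adj JA E * ((S⁻¹ : Grp QA) : GL α F).1 := by
    rw [H.gA.adj_mul, H.gA.adj_mul, H.gA.adj_grp S, H.gA.adj_grp S⁻¹, inv_inv, ← Matrix.mul_assoc]
  simp only [Np, Matrix.mul_sub, Matrix.sub_mul, ← Matrix.mul_assoc, kron_mul_kc, hadj]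
  simp only [Matrix.mul_assoc, kr_mul_kron, hphi]
  rfl

theorem zm_conj (T : Grp QB) (w : β → F) (C : Matrix α α F) :
    ((1 : Matrix α α F) ⊗ₖ (T : GL β F).1) * Zm JB w C * ((1 : Matrix α α F) ⊗ₖ ((T⁻¹ : Grp QB) : GL β F).1) =
      Zm JB (ap T w) C := by
  have hphi := H.phi_image T w
  simp only [Zm, ← Matrix.mul_assoc, kron_mul_kc, Matrix.mul_one]
  simp only [Matrix.mul_assoc, kr_mul_kron, hphi, Matrix.one_mul]
  rfl

/-- Conjugation of a root-like element by an element of the second factor. -/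
theorem inM_conj_elB {T : Grp QB} (hT : T ∈ El QB) {X : Matrix (α × β) (α × β) F} (h : InM M (1 + X)) :
    InM M (1 + ((1 : Matrix α α F) ⊗ₖ (T : GL β F).1) * X *
      ((1 : Matrix α α F) ⊗ₖ ((T⁻¹ : Grp QB) : GL β F).1)) := by
  have := ((H.inM_elB hT).mul h).mul (H.inM_elB (inv_mem hT))
  rwa [Matrix.mul_add, Matrix.mul_one, Matrix.add_mul, ← Matrix.mul_kronecker_mul, Matrix.one_mul,
    show (T : GL β F).1 * ((T⁻¹ : Grp QB) : GL β F).1 = 1 from (T : GL β F).mul_inv,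
    Matrix.one_kronecker_one] at this

/-- The root element of a plane. -/
theorem inM_plane {w r : β → F} (h : Plane QB w r) (c : F) : InM M (1 + Np JA JB w r (c • (1 : Matrix α α F))) := by
  obtain ⟨T, hT⟩ := exists_siegel H.gB.nd h.qw (v := -c • r) (by rw [b_smul_right, h.bwr, mul_zero])
  have := H.inM_elB (siegel_mem_El hT)
  rw [H.gB.siegel_val hT, q_smul, h.qr, mul_zero, zero_smul, sub_zero, Matrix.mulVec_smul,
    Matrix.smul_vecMulVec, Matrix.vecMulVec_smul] at this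
  convert this using 1
  have hs : ∀ A A' : Matrix β β F, (1 : Matrix α α F) ⊗ₖ (A - A') =
      (1 : Matrix α α F) ⊗ₖ A - (1 : Matrix α α F) ⊗ₖ A' := fun A A' => by
    rw [sub_eq_add_neg, Matrix.kronecker_add, ← neg_one_smul F A', Matrix.kronecker_smul, neg_one_smul,
      sub_eq_add_neg]
  rw [H.np_smul, Np, H.gA.adj_one, Matrix.mul_one, Matrix.mul_one, hs, Matrix.kronecker_add,
    Matrix.one_kronecker_one, Matrix.kronecker_smul, Matrix.kronecker_smul, ← kc_mul_kr, ← kc_mul_kr]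
  module

end Hyp

end CfsgLib.Classical.TensorOrth
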