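import Cfsg.Agent.Lib.Classical.TensorSymp.Gen
import Cfsg.Agent.Lib.Classical.OrthFix

set_option autoImplicit false
set_option linter.unusedSectionVars false

/-!
Quadratic forms in odd characteristic through their Gram matrices.
-/

namespace CfsgLib.Classical.TensorOrth

open Matrix
open CfsgLib.Classical.TensorSymp (adj Sp matrix_ext_dot)
open scoped MatrixGroups

variable {F : Type*} [Field F] {γ : Type} [Fintype γ] [DecidableEq γ]

/-- A non-degenerate quadratic form with its Gram matrix, in odd characteristic. -/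
structure Gram (Q₁ : QuadraticForm F (γ → F)) (J : Matrix γ γ F) : Prop where
  two : (2 : F) ≠ 0
  pol : ∀ x y, QuadraticMap.polar ⇑Q₁ x y = x ⬝ᵥ J *ᵥ y
  nd : CfsgLib.Orth.Nondeg Q₁

namespace Gram

variable {Q₁ : QuadraticForm F (γ → F)} {J : Matrix γ γ F} (h : Gram Q₁ J)
include h

theorem swap (x y : γ → F) : (J *ᵥ x) ⬝ᵥ y = (J *ᵥ y) ⬝ᵥ x := by
  rw [dotProduct_comm, ← h.pol, CfsgLib.Orth.b_comm, h.pol, dotProduct_comm]

theorem dot_polar (x y : γ → F) : (J *ᵥ x) ⬝ᵥ y = QuadraticMap.polar ⇑Q₁ x y := by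
  rw [h.swap, h.pol, dotProduct_comm]

theorem symm : Jᵀ = J := by
  refine matrix_ext_dot fun x y => ?_
  rw [Matrix.dotProduct_mulVec, Matrix.vecMul_transpose, ← h.pol, h.dot_polar]

theorem det_ne : J.det ≠ 0 := by
  intro e
  obtain ⟨v, hv, hv'⟩ := Matrix.exists_mulVec_eq_zero_iff.2 e
  refine hv (h.nd v fun y => ?_)
  rw [← h.dot_polar, hv', zero_dotProduct]

theorem isUnit_det : IsUnit J.det := Ne.isUnit h.det_ne

theorem vecMul_eq (x : γ → F) : x ᵥ* J = J *ᵥ x := by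
  rw [← Matrix.mulVec_transpose, h.symm]

theorem self (x : γ → F) : (J *ᵥ x) ⬝ᵥ x = 2 * Q₁ x := by rw [h.dot_polar, CfsgLib.Orth.b_self]

theorem sing_iff (x : γ → F) : Q₁ x = 0 ↔ (J *ᵥ x) ⬝ᵥ x = 0 := by
  rw [h.self, mul_eq_zero, or_iff_right h.two]

theorem mulVec_eq_zero {x : γ → F} (hx : J *ᵥ x = 0) : x = 0 := by
  have := congrArg (J⁻¹ *ᵥ ·) hx
  simpa [Matrix.mulVec_mulVec, Matrix.nonsing_inv_mul J h.isUnit_det] using this

theorem mulVec_ne {x : γ → F} (hx : x ≠ 0) : J *ᵥ x ≠ 0 := fun e => hx (h.mulVec_eq_zero e)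

theorem mulVec_surj (l : γ → F) : ∃ b, J *ᵥ b = l :=
  ⟨J⁻¹ *ᵥ l, by rw [Matrix.mulVec_mulVec, Matrix.mul_nonsing_inv J h.isUnit_det, Matrix.one_mulVec]⟩

theorem adj_add (E E' : Matrix γ γ F) : adj J (E + E') = adj J E + adj J E' := by
  rw [adj, adj, adj, Matrix.transpose_add, Matrix.mul_add, Matrix.add_mul]

theorem adj_sub (E E' : Matrix γ γ F) : adj J (E - E') = adj J E - adj J E' := by
  rw [adj, adj, adj, Matrix.transpose_sub, Matrix.mul_sub, Matrix.sub_mul]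

theorem adj_neg (E : Matrix γ γ F) : adj J (-E) = -adj J E := by
  rw [adj, adj, Matrix.transpose_neg, Matrix.mul_neg, Matrix.neg_mul]

theorem adj_zero : adj J (0 : Matrix γ γ F) = 0 := by
  rw [adj, Matrix.transpose_zero, Matrix.mul_zero, Matrix.zero_mul]

theorem adj_smul (c : F) (E : Matrix γ γ F) : adj J (c • E) = c • adj J E := by
  rw [adj, adj, Matrix.transpose_smul, Matrix.mul_smul, Matrix.smul_mul]

theorem adj_one : adj J (1 : Matrix γ γ F) = 1 := by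
  rw [adj, Matrix.transpose_one, Matrix.mul_one, Matrix.nonsing_inv_mul J h.isUnit_det]

theorem adj_mul (E E' : Matrix γ γ F) : adj J (E * E') = adj J E' * adj J E := by
  simp only [adj, Matrix.transpose_mul, Matrix.mul_assoc, Matrix.mul_nonsing_inv_cancel_left J _ h.isUnit_det]

theorem adj_adj (E : Matrix γ γ F) : adj J (adj J E) = E := by
  have e1 : J⁻¹ᵀ = J⁻¹ := by rw [Matrix.transpose_nonsing_inv, h.symm]
  simp only [adj, Matrix.transpose_mul, Matrix.transpose_transpose, e1, h.symm,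
    ← Matrix.mul_assoc, Matrix.nonsing_inv_mul J h.isUnit_det, Matrix.one_mul]
  simp only [Matrix.mul_assoc, Matrix.nonsing_inv_mul J h.isUnit_det, Matrix.mul_one]

theorem adj_vecMulVec (v r : γ → F) :
    adj J (Matrix.vecMulVec v (J *ᵥ r)) = Matrix.vecMulVec r (J *ᵥ v) := by
  rw [adj, Matrix.transpose_vecMulVec, Matrix.mul_vecMulVec, Matrix.mulVec_mulVec,
    Matrix.nonsing_inv_mul J h.isUnit_det, Matrix.one_mulVec, Matrix.vecMulVec_mul, h.vecMul_eq]

theorem form_adj (E : Matrix γ γ F) (x y : γ → F) :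
    (J *ᵥ (adj J E *ᵥ x)) ⬝ᵥ y = (J *ᵥ x) ⬝ᵥ (E *ᵥ y) := by
  rw [adj, Matrix.mulVec_mulVec, ← Matrix.mul_assoc, ← Matrix.mul_assoc, Matrix.mul_nonsing_inv J h.isUnit_det,
    Matrix.one_mul, ← Matrix.mulVec_mulVec, Matrix.mulVec_transpose, ← Matrix.dotProduct_mulVec]

/-- The matrix of an isometry. -/
theorem sp_grp (g : CfsgLib.Orth.Grp Q₁) : Sp J (g : GL γ F).1 := by
  refine matrix_ext_dot fun x y => ?_
  have e := CfsgLib.Orth.ap_b g x y
  rw [h.pol, h.pol] at e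
  rw [← e, ← Matrix.mulVec_mulVec, ← Matrix.mulVec_mulVec, Matrix.dotProduct_mulVec x (g : GL γ F).1ᵀ,
    Matrix.vecMul_transpose]
  rfl

theorem adj_grp (g : CfsgLib.Orth.Grp Q₁) : adj J (g : GL γ F).1 = ((g⁻¹ : CfsgLib.Orth.Grp Q₁) : GL γ F).1 := by
  have e := h.sp_grp g
  calc adj J (g : GL γ F).1
      = J⁻¹ * ((g : GL γ F).1ᵀ * J * (g : GL γ F).1) * ((g : GL γ F)⁻¹).1 := by
        simp only [adj, Matrix.mul_assoc, Units.mul_inv, Matrix.mul_one]
    _ = _ := by rw [e, Matrix.nonsing_inv_mul J h.isUnit_det, Matrix.one_mul]; rfl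

theorem form_image {T : Matrix γ γ F} (hT : Sp J T) (x y : γ → F) :
    (J *ᵥ (T *ᵥ x)) ⬝ᵥ (T *ᵥ y) = (J *ᵥ x) ⬝ᵥ y := by
  rw [dotProduct_comm, ← Matrix.vecMul_transpose, ← Matrix.dotProduct_mulVec, Matrix.mulVec_mulVec,
    Matrix.mulVec_mulVec, hT, dotProduct_comm]

/-- The Siegel transformation as a matrix. -/
theorem siegel_val {u v : γ → F} {g : CfsgLib.Orth.Grp Q₁} (hg : CfsgLib.Orth.IsSiegel u v g) :
    (g : GL γ F).1 = 1 + Matrix.vecMulVec v (J *ᵥ u) - Matrix.vecMulVec u (J *ᵥ v) -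
      Q₁ v • Matrix.vecMulVec u (J *ᵥ u) := by
  refine Matrix.ext_iff_mulVec.2 fun x => ?_
  rw [Matrix.sub_mulVec, Matrix.sub_mulVec, Matrix.add_mulVec, Matrix.one_mulVec, Matrix.smul_mulVec,
    Matrix.vecMulVec_mulVec, Matrix.vecMulVec_mulVec, Matrix.vecMulVec_mulVec, op_smul_eq_smul, op_smul_eq_smul,
    op_smul_eq_smul, h.dot_polar, h.dot_polar, CfsgLib.Orth.b_comm u x, CfsgLib.Orth.b_comm v x, smul_smul]
  exact hg.2.2 x

end Gram

end CfsgLib.Classical.TensorOrth
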