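import Cfsg.Agent.Lib.Classical.TensorOrth.Roots
import Cfsg.Agent.Lib.Classical.TensorSymp.Gen

set_option autoImplicit false
set_option linter.unusedSectionVars false

/-!
When every matrix occurs as a level, the root groups of all singular planes lie in the group.
-/

namespace CfsgLib.Classical.TensorOrth

open Matrix CfsgLib.Classical.TensorMax CfsgLib.Orth CfsgLib.Orth.Overfield
open CfsgLib.Classical.TensorSymp (adj ten kc_mulVec kron_mulVec_ten ten_dot ten_add_left ten_add_right ten_sub_left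
  ten_sub_right ten_smul_left ten_smul_right single_eq_ten mem_span_pure)
open scoped MatrixGroups Kronecker

variable {F : Type*} [Field F] [Finite F] {α β : Type} [Fintype α] [DecidableEq α] [Fintype β] [DecidableEq β]
variable {QA : QuadraticForm F (α → F)} {QB : QuadraticForm F (β → F)} {JA : Matrix α α F} {JB : Matrix β β F}
  {Q : QuadraticForm F (α × β → F)} {M : Subgroup (GL (α × β) F)}

namespace Hyp

variable (H : Hyp QA QB JA JB Q M)
include H

theorem singular_span (T : Submodule F (β → F)) (hT : ∀ u, QB u = 0 → u ∈ T) : T = ⊤ := by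
  obtain ⟨u, hu, hu0⟩ := exists_nonzero_singular (Q := QB) H.dimB
  refine top_unique fun a _ => ?_
  obtain ⟨u', hu', huu⟩ := exists_partner H.gB.nd hu hu0
  obtain ⟨p, q, z, z1, z2, rfl⟩ := H.gB.partner_decomp hu hu0 hu' huu a
  have e : z = (u' + z + (-QB z) • u) + (-1 : F) • u' + QB z • u := by module
  refine T.add_mem (T.add_mem (T.smul_mem _ (hT u hu)) (T.smul_mem _ (hT u' hu'))) ?_
  rw [e]
  refine T.add_mem (T.add_mem (hT _ ?_) (T.smul_mem _ (hT u' hu'))) (T.smul_mem _ (hT u hu))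
  rw [q_add, q_add, q_smul, hu', hu, z2, b_add_left, b_smul_right, b_smul_right, b_comm u' u, huu, b_comm z u, z1]
  ring

/-- A root element of a pair as a matrix. -/
theorem siegel_pair (v s : α → F) {w ψ : β → F} (hψ : QB ψ = 0) {c : F} {g : Grp Q}
    (hg : IsSiegel (ten v w) (c • ten s ψ) g) :
    ((g : GL (α × β) F)).1 = 1 + Np JA JB w ψ (rk JA ((-c) • v) s) := by
  refine Matrix.ext_iff_mulVec.2 fun y => ?_
  rw [Matrix.add_mulVec, Matrix.one_mulVec, Np, Matrix.sub_mulVec, H.gA.adj_rk]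
  simp only [← Matrix.mulVec_mulVec, H.gA.rk_mulVec, Matrix.mulVec_smul, kc_mulVec, b_smul_left]
  have hp : ∀ (a : α → F) (b : β → F), QuadraticMap.polar ⇑QA a (kr α (JB *ᵥ b) *ᵥ y) =
      QuadraticMap.polar ⇑Q y (ten a b) := fun a b => by rw [H.polar_apply, H.gA.dot_polar]
  rw [hp, hp]
  have h2 := hg.2.2 y
  rw [q_smul, H.q_ten, hψ, mul_zero, mul_zero, zero_mul, zero_smul, sub_zero, b_smul_right] at h2
  rw [show ((g : GL (α × β) F)).1 *ᵥ y = ap g y from rfl, h2]
  module

/-- The root element of a pair. -/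
theorem good_pair (hD : ∀ E, D JA QB JB M E) (v s : α → F) {w ψ : β → F} (hp : Plane QB w ψ) :
    GoodAt Q (M.comap (Subgroup.subtype _)) (ten v w) (ten s ψ) := by
  refine ⟨by rw [H.polar_ten, hp.bwr, mul_zero], fun c g hg => ?_⟩
  obtain ⟨x, hx, hx'⟩ := hD (rk JA ((-c) • v) s) w ψ hp
  have e : (g : GL (α × β) F) = x := Units.ext ((H.siegel_pair v s hp.qr hg).trans hx'.symm)
  show (g : GL (α × β) F) ∈ M
  rwa [e]

/-- The orthogonal of `w` in the second factor is good. -/
theorem good_perp (hD : ∀ E, D JA QB JB M E) (v s : α → F) {w ψ : β → F} (hw : QB w = 0) (hw0 : w ≠ 0)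
    (ho : QuadraticMap.polar ⇑QB w ψ = 0) :
    GoodAt Q (M.comap (Subgroup.subtype _)) (ten v w) (ten s ψ) := by
  have hu : Q (ten v w) = 0 := by rw [H.q_ten, hw, mul_zero]
  obtain ⟨r₀, h₀⟩ := H.exists_plane_at hw hw0
  have hwgood : GoodAt Q (M.comap (Subgroup.subtype _)) (ten v w) (ten s w) := by
    have h1 : Plane QB w (r₀ + (1 : F) • w) := h₀.add 1
    have := goodAt_sub H.nondeg hu (H.good_pair hD v s h1) (H.good_pair hD v s h₀)
    rwa [one_smul, ← ten_sub_right, add_sub_cancel_left] at this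
  by_cases hψ : ∀ c : F, ψ ≠ c • w
  swap
  · push Not at hψ
    obtain ⟨c, rfl⟩ := hψ
    rw [ten_smul_right]
    exact goodAt_smul hwgood c
  by_cases hq : QB ψ = 0
  · exact H.good_pair hD v s ⟨hw, hq, ho, hw0, hψ⟩
  obtain ⟨r, hr, hψr⟩ := H.exists_plane_nonorth hw hw0 ho hψ
  obtain ⟨t, ht⟩ : ∃ t, t = -QB ψ / QuadraticMap.polar ⇑QB ψ r := ⟨_, rfl⟩
  have hp : Plane QB w (ψ + t • r) := by
    refine ⟨hw, ?_, ?_, hw0, fun c e => hq ?_⟩
    · rw [q_add, q_smul, hr.qr, b_smul_right, ht, div_mul_cancel₀ _ hψr]; ring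
    · rw [b_add_right, b_smul_right, ho, hr.bwr]; ring
    · rw [show ψ = c • w + (-t) • r by rw [← e]; module, q_add, q_smul, q_smul, hw, hr.qr, b_smul_left,
        b_smul_right, hr.bwr]
      ring
  have := goodAt_sub H.nondeg hu (H.good_pair hD v s hp) (goodAt_smul (H.good_pair hD v s hr) t)
  rwa [← ten_smul_right, ← ten_sub_right, add_sub_cancel_right] at this

/-- A pure vector sees all the pure vectors orthogonal to it. -/
theorem good_pure (hD : ∀ E, D JA QB JB M E) {v s : α → F} {w ψ : β → F} (hv : v ≠ 0) (hw : QB w = 0) (hw0 : w ≠ 0)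
    (ho : QuadraticMap.polar ⇑Q (ten v w) (ten s ψ) = 0) :
    GoodAt Q (M.comap (Subgroup.subtype _)) (ten v w) (ten s ψ) := by
  have hu : Q (ten v w) = 0 := by rw [H.q_ten, hw, mul_zero]
  by_cases hd : QuadraticMap.polar ⇑QB w ψ = 0
  · exact H.good_perp hD v s hw hw0 hd
  have hs : QuadraticMap.polar ⇑QA v s = 0 := by
    rw [H.polar_ten] at ho
    exact (mul_eq_zero.1 ho).resolve_right hd
  obtain ⟨a, ha⟩ : ∃ a, QuadraticMap.polar ⇑QA v a = 1 := by
    obtain ⟨a, ha⟩ : ∃ a, QuadraticMap.polar ⇑QA v a ≠ 0 := by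
      by_contra hc
      push Not at hc
      exact hv (H.gA.nd v hc)
    exact ⟨(QuadraticMap.polar ⇑QA v a)⁻¹ • a, by rw [b_smul_right, inv_mul_cancel₀ ha]⟩
  let T : Submodule F (β → F) :=
    { carrier := {x | GoodAt Q (M.comap (Subgroup.subtype _)) (ten v w) (ten s x)}
      add_mem' := fun {x y} hx hy => by
        show GoodAt Q _ (ten v w) (ten s (x + y))
        rw [ten_add_right]
        exact goodAt_add H.nondeg hu hx hy
      zero_mem' := by
        show GoodAt Q _ (ten v w) (ten s 0)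
        rw [show ten s (0 : β → F) = 0 by ext p; simp [ten]]
        exact goodAt_zero hu
      smul_mem' := fun c x hx => by
        show GoodAt Q _ (ten v w) (ten s (c • x))
        rw [ten_smul_right]
        exact goodAt_smul hx c }
  suffices h : T = ⊤ by
    have hm : ψ ∈ T := h ▸ Submodule.mem_top
    exact hm
  refine H.singular_span T fun ψ hψ => ?_
  show GoodAt Q _ (ten v w) (ten s ψ)
  by_cases hd : QuadraticMap.polar ⇑QB w ψ = 0
  · exact H.good_perp hD v s hw hw0 hd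
  obtain ⟨z, hz, hz0, z1, z2⟩ := exists_singular_perp H.gB.nd H.dimB w ψ
  obtain ⟨z', -, hzz⟩ := exists_partner H.gB.nd hz hz0
  set d := QuadraticMap.polar ⇑QB w ψ with hdd
  obtain ⟨y, hy⟩ : ∃ y, y = z' - (QuadraticMap.polar ⇑QB ψ z' / d) • w - (QuadraticMap.polar ⇑QB w z' / d) • ψ :=
    ⟨_, rfl⟩
  have y0 : QuadraticMap.polar ⇑QB z y = 1 := by
    rw [hy, b_sub_right, b_sub_right, b_smul_right, b_smul_right, hzz, b_comm z w, z1, b_comm z ψ, z2]; ring
  have y1 : QuadraticMap.polar ⇑QB w y = 0 := by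
    rw [hy, b_sub_right, b_sub_right, b_smul_right, b_smul_right, b_self_zero hw, ← hdd, div_mul_cancel₀ _ hd]; ring
  have y2 : QuadraticMap.polar ⇑QB ψ y = 0 := by
    rw [hy, b_sub_right, b_sub_right, b_smul_right, b_smul_right, b_self_zero hψ, b_comm ψ w, ← hdd,
      div_mul_cancel₀ _ hd]
    ring
  have hzψ : Plane QB z ψ := ⟨hz, hψ, by rw [b_comm]; exact z2, hz0, fun c e => hd (by
    rw [hdd, e, b_smul_right, z1, mul_zero])⟩
  obtain ⟨g, hg, hg'⟩ := hD (rk JA v s) z ψ hzψ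
  let gG : Grp Q := ⟨g, H.iso_mem hg⟩
  have hap : ∀ (p : α → F) (q : β → F), ap gG (ten p q) = ten p q +
      (QuadraticMap.polar ⇑QB ψ q * QuadraticMap.polar ⇑QA s p) • ten v z -
      (QuadraticMap.polar ⇑QB z q * QuadraticMap.polar ⇑QA v p) • ten s ψ := by
    intro p q
    show g.1 *ᵥ ten p q = _
    rw [← kc_mulVec, Matrix.mulVec_mulVec, hg', Matrix.add_mul, Matrix.one_mul, H.np_mul_kc, H.gA.adj_rk,
      Matrix.add_mulVec, Matrix.sub_mulVec, Matrix.smul_mulVec, Matrix.smul_mulVec, ← Matrix.mulVec_mulVec,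
      ← Matrix.mulVec_mulVec, H.gA.rk_mulVec, H.gA.rk_mulVec, Matrix.mulVec_smul, Matrix.mulVec_smul, kc_mulVec,
      kc_mulVec, kc_mulVec, smul_smul, smul_smul, H.gB.dot_polar, H.gB.dot_polar, add_sub_assoc]
  have hfix : ap gG (ten v w) = ten v w := by
    rw [hap, b_comm s v, hs, b_comm z w, z1, mul_zero, zero_mul, zero_smul, zero_smul, add_zero, sub_zero]
  have hmov : ap gG (ten a y) = ten a y - ten s ψ := by
    rw [hap, y2, y0, ha, zero_mul, mul_one, zero_smul, one_smul, add_zero]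
  have hgM : gG ∈ M.comap (Subgroup.subtype _) := hg
  have h1 := H.good_perp hD v a hw hw0 y1
  have h2 := goodAt_conj hgM h1
  rw [hfix, hmov] at h2
  have := goodAt_sub H.nondeg hu h1 h2
  rwa [sub_sub_cancel] at this

/-- A singular vector sees all its orthogonal when it sees the pure vectors in it. -/
theorem good_of_pure {u x : α × β → F} (hu : Q u = 0) (hu0 : u ≠ 0)
    (hp : ∀ a b, QuadraticMap.polar ⇑Q u (ten a b) = 0 → GoodAt Q (M.comap (Subgroup.subtype _)) u (ten a b))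
    (hx : QuadraticMap.polar ⇑Q u x = 0) : GoodAt Q (M.comap (Subgroup.subtype _)) u x := by
  classical
  obtain ⟨a, b, hab⟩ : ∃ a b, QuadraticMap.polar ⇑Q u (ten a b) ≠ 0 := by
    by_contra hc
    push Not at hc
    refine hu0 (H.nondeg u fun y => ?_)
    rw [← QuadraticMap.polarBilin_apply_apply, pi_eq_sum_univ' y, map_sum]
    refine Finset.sum_eq_zero fun p _ => ?_
    obtain ⟨i, k⟩ := p
    rw [map_smul, single_eq_ten, QuadraticMap.polarBilin_apply_apply, hc, smul_zero]
  set t := QuadraticMap.polar ⇑Q u (ten a b) with ht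
  have h1 : QuadraticMap.polarBilin Q u (ten (t⁻¹ • a) b) = 1 := by
    rw [ten_smul_left, map_smul, QuadraticMap.polarBilin_apply_apply, ← ht, smul_eq_mul, inv_mul_cancel₀ hab]
  refine goodAt_span H.nondeg hu ?_ (mem_span_pure (QuadraticMap.polarBilin Q u) h1 hx)
  rintro y ⟨a, b, rfl, hy⟩
  exact hp a b hy

/-- All the levels give the whole of `Ω`. -/
theorem omega_le (hns : ¬ Small JA QB JB M) : Cfsg.Geo.omegaGL ⇑Q ≤ M := by
  classical
  have hD := H.d_all hns
  have hgood : ∀ (v : α → F) (w : β → F), v ≠ 0 → QB w = 0 → w ≠ 0 → ∀ x, QuadraticMap.polar ⇑Q (ten v w) x = 0 →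
      GoodAt Q (M.comap (Subgroup.subtype _)) (ten v w) x := by
    intro v w hv hw hw0 x hx
    refine H.good_of_pure (by rw [H.q_ten, hw, mul_zero]) (fun e => ?_) (fun a b hab => H.good_pure hD hv hw hw0 hab) hx
    obtain ⟨i, hi⟩ := Function.ne_iff.1 hv
    obtain ⟨k, hk⟩ := Function.ne_iff.1 hw0
    exact mul_ne_zero hi hk (congrFun e (i, k))
  have hEl : El Q ≤ M.comap (Subgroup.subtype _) := by
    refine (Subgroup.closure_le _).2 fun g hg => ?_
    obtain ⟨u, v, h⟩ := hg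
    by_cases hu : u = 0
    · have : g = 1 := ext_ap fun x => by
        rw [h.2.2, ap_one, hu, b_zero_right, mul_zero, zero_smul, zero_smul, smul_zero, add_zero, sub_zero,
          sub_zero]
      rw [this]
      exact one_mem _
    -- a pure singular vector not orthogonal to `u`
    obtain ⟨i, b, hb, hne⟩ : ∃ (i : α) (b : β → F), QB b = 0 ∧
        QuadraticMap.polar ⇑Q u (ten (Pi.single i 1) b) ≠ 0 := by
      by_contra hc
      push Not at hc
      refine hu (H.nondeg u fun y => ?_)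
      rw [← QuadraticMap.polarBilin_apply_apply, pi_eq_sum_univ' y, map_sum]
      refine Finset.sum_eq_zero fun q _ => ?_
      obtain ⟨i, k⟩ := q
      let T : Submodule F (β → F) :=
        { carrier := {x | QuadraticMap.polar ⇑Q u (ten (Pi.single i 1) x) = 0}
          add_mem' := fun {x y} hx hy => by
            show QuadraticMap.polar ⇑Q u (ten (Pi.single i 1) (x + y)) = 0
            rw [ten_add_right, b_add_right, show QuadraticMap.polar ⇑Q u (ten (Pi.single i 1) x) = 0 from hx,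
              show QuadraticMap.polar ⇑Q u (ten (Pi.single i 1) y) = 0 from hy, add_zero]
          zero_mem' := by
            show QuadraticMap.polar ⇑Q u (ten (Pi.single i 1) (0 : β → F)) = 0
            rw [show ten (Pi.single i (1 : F)) (0 : β → F) = 0 by ext p; simp [ten], b_zero_right]
          smul_mem' := fun c x hx => by
            show QuadraticMap.polar ⇑Q u (ten (Pi.single i 1) (c • x)) = 0
            rw [ten_smul_right, b_smul_right, show QuadraticMap.polar ⇑Q u (ten (Pi.single i 1) x) = 0 from hx,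
              mul_zero] }
      have hT : (Pi.single k 1 : β → F) ∈ T := by
        rw [H.singular_span T fun x hx => hc i x hx]
        trivial
      rw [map_smul, single_eq_ten, QuadraticMap.polarBilin_apply_apply,
        show QuadraticMap.polar ⇑Q u (ten (Pi.single i 1) (Pi.single k 1)) = 0 from hT, smul_zero]
    have hb0 : b ≠ 0 := fun e => hne (by
      rw [e, show ten (Pi.single i (1 : F)) (0 : β → F) = 0 by ext p; simp [ten], b_zero_right])
    obtain ⟨b', hb', hbb⟩ := exists_partner H.gB.nd hb hb0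
    have hi0 : (Pi.single i 1 : α → F) ≠ 0 := fun e => by simpa using congrFun e i
    obtain ⟨a', ha'⟩ : ∃ a', QuadraticMap.polar ⇑QA (Pi.single i 1) a' ≠ 0 := by
      by_contra hc
      push Not at hc
      exact hi0 (H.gA.nd _ hc)
    have ha0 : a' ≠ 0 := fun e => ha' (by rw [e, b_zero_right])
    obtain ⟨p, hp⟩ : ∃ p, p = ten (Pi.single i (1 : F)) b := ⟨_, rfl⟩
    rw [← hp] at hne
    have hpq : Q p = 0 := by rw [hp, H.q_ten, hb, mul_zero]
    obtain ⟨k, hk⟩ : ∃ k, k = QuadraticMap.polar ⇑QA (Pi.single i 1) a' := ⟨_, rfl⟩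
    have hk0 : k ≠ 0 := hk ▸ ha'
    obtain ⟨f, hf⟩ : ∃ f, f = ten (k⁻¹ • a') b' := ⟨_, rfl⟩
    have hpf : QuadraticMap.polar ⇑Q p f = 1 := by
      rw [hp, hf, H.polar_ten, b_smul_right, hbb, mul_one, ← hk, inv_mul_cancel₀ hk0]
    obtain ⟨t, ht⟩ : ∃ t, t = (QuadraticMap.polar ⇑Q p u)⁻¹ := ⟨_, rfl⟩
    have hpu : QuadraticMap.polar ⇑Q p u ≠ 0 := by rwa [b_comm]
    have hf' : QuadraticMap.polar ⇑Q p (t • u) = 1 := by rw [b_smul_right, ht, inv_mul_cancel₀ hpu]
    obtain ⟨e, he, hef⟩ := exists_move_partner H.nondeg hpq (f := f) (f' := t • u)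
      (by rw [hf, H.q_ten, hb', mul_zero]) (by rw [q_smul, h.1, mul_zero]) (hpf.trans hf'.symm) hpf
    have hpgood : GoodAt Q (M.comap (Subgroup.subtype _)) p (t • u - f) := by
      rw [hp]
      refine hgood _ _ hi0 hb hb0 _ ?_
      rw [← hp, b_sub_right, hpf, hf', sub_self]
    have heM : e ∈ M.comap (Subgroup.subtype _) := hpgood.2 1 e (by rwa [one_smul])
    have ht0 : t ≠ 0 := ht ▸ inv_ne_zero hpu
    obtain ⟨s, hs⟩ := exists_siegel H.nondeg (u := t • u) (v := t⁻¹ • v) (by rw [q_smul, h.1, mul_zero])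
      (by rw [b_smul_left, b_smul_right, h.2.1, mul_zero, mul_zero])
    have hgs : g = s := by
      obtain ⟨g₀, hg₀⟩ := exists_siegel H.nondeg h.1 (v := t⁻¹ • v) (by rw [b_smul_right, h.2.1, mul_zero])
      have h2 := siegel_smul hg₀ t hs
      rw [smul_smul, mul_inv_cancel₀ ht0, one_smul] at h2
      exact siegel_unique h h2
    have hfgood := hgood (k⁻¹ • a') b' (smul_ne_zero (inv_ne_zero hk0) ha0) hb'
      (fun e0 => one_ne_zero (α := F) (by rw [← hbb, e0, b_zero_right])) (ap e⁻¹ (t⁻¹ • v)) (by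
      rw [← hf, ← ap_b e, hef, ap_ap_inv, b_smul_left, b_smul_right, h.2.1, mul_zero, mul_zero])
    rw [← hf] at hfgood
    have h3 := goodAt_conj heM hfgood
    rw [hef, ap_ap_inv] at h3
    rw [hgs]
    exact h3.2 1 s (by rwa [one_smul])
  rintro x ⟨g, hg, rfl⟩
  exact hEl (by rwa [← omega_eq_El H.nondeg H.five_le_dim])

/-- An element of `Ω` which is not a Kronecker product. -/
theorem exists_not_tens : ∃ g ∈ Cfsg.Geo.omegaGL ⇑Q, ¬ Tens g.1 := by
  classical
  haveI := H.nonempty_left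
  obtain ⟨w, r, hp⟩ := H.exists_plane
  obtain ⟨w', r', v₀, -, -, ww', rw', wr', rr', -, -, -, -, -, -⟩ := exists_frame H.gB.nd H.dimB hp
  obtain ⟨i⟩ := H.nonempty_left
  obtain ⟨v, hv⟩ : ∃ v, v = (Pi.single i 1 : α → F) := ⟨_, rfl⟩
  have hv0 : v ≠ 0 := fun e => by simpa [hv] using congrFun e i
  obtain ⟨g, hg⟩ := exists_siegel H.nondeg (u := ten v w) (by rw [H.q_ten, hp.qw, mul_zero])
    (v := (-1 : F) • ten v r) (by rw [b_smul_right, H.polar_ten, hp.bwr, mul_zero, mul_zero])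
  refine ⟨_, ⟨g, by rw [omega_eq_El H.nondeg H.five_le_dim]; exact siegel_mem_El hg, rfl⟩, ?_⟩
  rw [Subgroup.coe_subtype, H.siegel_pair v v hp.qr hg, neg_neg, one_smul]
  rintro ⟨S, T, hST⟩
  obtain ⟨E, hE⟩ : ∃ E, E = rk JA v v := ⟨_, rfl⟩
  rw [← hE] at hST
  have hk : kc α r' + kc α w * E = kc α (T *ᵥ r') * S := by
    rw [← kron_mul_kc, ← hST, Matrix.add_mul, Matrix.one_mul, H.np_mul_kc, H.gB.dot_polar, H.gB.dot_polar, rr', wr']
    simp
  have hyw : ∀ d : F, r' ≠ d • w := fun d e => by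
    rw [e, b_smul_right, b_comm r w, hp.bwr, mul_zero] at rr'
    exact zero_ne_one rr'
  obtain ⟨θ, t1, t2⟩ := exists_dual_pair hp.ne hyw 0 1
  obtain ⟨η, s1, s2⟩ := exists_dual_pair hp.ne hyw 1 0
  have h1 := congrArg (kr α θ * ·) hk
  have h2 := congrArg (kr α η * ·) hk
  simp only [Matrix.mul_add, ← Matrix.mul_assoc, kr_mul_kc, t1, t2, s1, s2, one_smul, zero_smul, Matrix.zero_mul,
    Matrix.one_mul, add_zero, zero_add, Matrix.smul_mul] at h1 h2
  have hne : θ ⬝ᵥ (T *ᵥ r') ≠ 0 := fun e => by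
    rw [e, zero_smul] at h1
    exact one_ne_zero h1
  have hS : S = (θ ⬝ᵥ (T *ᵥ r'))⁻¹ • (1 : Matrix α α F) := by
    rw [h1, smul_smul, inv_mul_cancel₀ hne, one_smul]
  rw [hS, smul_smul] at h2
  set c := η ⬝ᵥ (T *ᵥ r') * (θ ⬝ᵥ (T *ᵥ r'))⁻¹
  obtain ⟨z, hz, hz'⟩ := exists_orth ![JA *ᵥ v] (by have := H.three; simp; omega)
  have h3 := congrArg (· *ᵥ z) h2
  simp only [hE, H.gA.rk_mulVec, Matrix.smul_mulVec, Matrix.one_mulVec] at h3
  rw [← H.gA.dot_polar, show (JA *ᵥ v) ⬝ᵥ z = 0 from hz' 0, zero_smul, eq_comm, smul_eq_zero, or_iff_left hz] at h3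
  obtain ⟨a, ha⟩ : ∃ a, QuadraticMap.polar ⇑QA v a ≠ 0 := by
    by_contra hc
    push Not at hc
    exact hv0 (H.gA.nd v hc)
  have h4 := congrArg (· *ᵥ a) h2
  simp only [hE, H.gA.rk_mulVec, h3, zero_smul, Matrix.zero_mulVec] at h4
  exact hv0 ((smul_eq_zero.1 h4).resolve_left ha)

/-- An intermediate group is the stabiliser or `Ω`. -/
theorem dichotomy : (∀ g ∈ M, Tens g.1) ∨ M = Cfsg.Geo.omegaGL ⇑Q := by
  by_cases hS : Small JA QB JB M
  · exact Or.inl fun g hg => H.tens_all hS hg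
  · exact Or.inr (le_antisymm H.le (H.omega_le hS))

end Hyp

end CfsgLib.Classical.TensorOrth
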