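import Cfsg.Agent.Lib.Classical.TensorOrth.Base

set_option autoImplicit false
set_option linter.unusedSectionVars false

/-!
The levels of the elements fixing a subspace `F^α ⊗ w` pointwise and its orthogonal modulo it.
-/

namespace CfsgLib.Classical.TensorOrth

open Matrix CfsgLib.Classical.TensorMax CfsgLib.Orth
open CfsgLib.Classical.TensorSymp (adj ten kr_mul_apply kc_mul_apply eq_of_mul_kc_all)
open scoped MatrixGroups Kronecker

variable {F : Type*} [Field F] [Finite F] {α β : Type} [Fintype α] [DecidableEq α] [Fintype β] [DecidableEq β]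
variable {QA : QuadraticForm F (α → F)} {QB : QuadraticForm F (β → F)} {JA : Matrix α α F} {JB : Matrix β β F}
  {Q : QuadraticForm F (α × β → F)} {M : Subgroup (GL (α × β) F)}

theorem kr_mul_kc_mul {γ : Type} (φ a : β → F) (X : Matrix α γ F) : kr α φ * (kc α a * X) = (φ ⬝ᵥ a) • X := by
  rw [← Matrix.mul_assoc, kr_mul_kc, Matrix.smul_mul, Matrix.one_mul]

/-- The nilpotent matrices of a singular plane. -/
def PN (w r : β → F) (X : Matrix (α × β) (α × β) F) : Prop :=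
  X * kc α w = 0 ∧ X * kc α r = 0 ∧ ∃ P R : Matrix α (α × β) F, X = kc α w * P + kc α r * R

theorem PN.mul {w r : β → F} {X Y : Matrix (α × β) (α × β) F} (hX : PN w r X) (hY : PN w r Y) : X * Y = 0 := by
  obtain ⟨P, R, rfl⟩ := hY.2.2
  rw [Matrix.mul_add, ← Matrix.mul_assoc, ← Matrix.mul_assoc, hX.1, hX.2.1, Matrix.zero_mul, Matrix.zero_mul,
    add_zero]

theorem PN.add {w r : β → F} {X Y : Matrix (α × β) (α × β) F} (hX : PN w r X) (hY : PN w r Y) : PN w r (X + Y) := by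
  obtain ⟨P, R, e⟩ := hX.2.2
  obtain ⟨P', R', e'⟩ := hY.2.2
  refine ⟨by rw [Matrix.add_mul, hX.1, hY.1, add_zero], by rw [Matrix.add_mul, hX.2.1, hY.2.1, add_zero],
    P + P', R + R', ?_⟩
  rw [e, e', Matrix.mul_add, Matrix.mul_add]
  abel

theorem PN.smul {w r : β → F} {X : Matrix (α × β) (α × β) F} (hX : PN w r X) (c : F) : PN w r (c • X) := by
  obtain ⟨P, R, e⟩ := hX.2.2
  refine ⟨by rw [Matrix.smul_mul, hX.1, smul_zero], by rw [Matrix.smul_mul, hX.2.1, smul_zero],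
    c • P, c • R, ?_⟩
  rw [e, smul_add, Matrix.mul_smul, Matrix.mul_smul]

theorem PN.neg {w r : β → F} {X : Matrix (α × β) (α × β) F} (hX : PN w r X) : PN w r (-X) := by
  rw [← neg_one_smul F X]
  exact hX.smul _

theorem PN.sub {w r : β → F} {X Y : Matrix (α × β) (α × β) F} (hX : PN w r X) (hY : PN w r Y) : PN w r (X - Y) := by
  rw [sub_eq_add_neg]
  exact hX.add hY.neg

/-- An element of `M` trivial on `F^α ⊗ w` and on the orthogonal modulo it. -/
def Rad (JB : Matrix β β F) (M : Subgroup (GL (α × β) F)) (w : β → F) (h : GL (α × β) F) : Prop :=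
  h ∈ M ∧ h.1 * kc α w = kc α w ∧
    ∀ Y : Matrix (α × β) α F, kr α (JB *ᵥ w) * Y = 0 → ∃ E : Matrix α α F, h.1 * Y = Y + kc α w * E

namespace Hyp

variable (H : Hyp QA QB JA JB Q M)
include H

theorem dot_plane {w r : β → F} (h : Plane QB w r) :
    (JB *ᵥ w) ⬝ᵥ w = 0 ∧ (JB *ᵥ r) ⬝ᵥ r = 0 ∧ (JB *ᵥ w) ⬝ᵥ r = 0 ∧ (JB *ᵥ r) ⬝ᵥ w = 0 :=
  ⟨by rw [H.gB.dot_polar, b_self_zero h.qw], by rw [H.gB.dot_polar, b_self_zero h.qr],
    by rw [H.gB.dot_polar, h.bwr], by rw [H.gB.dot_polar, b_comm, h.bwr]⟩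

theorem pn_np {w r : β → F} (h : Plane QB w r) (E : Matrix α α F) : PN w r (Np JA JB w r E) := by
  obtain ⟨a, b, c, d⟩ := H.dot_plane h
  refine ⟨by rw [H.np_mul_kc, a, d]; simp, by rw [H.np_mul_kc, b, c]; simp, E * kr α (JB *ᵥ r),
    -(adj JA E * kr α (JB *ᵥ w)), ?_⟩
  rw [Np, Matrix.mul_neg, ← sub_eq_add_neg, Matrix.mul_assoc, Matrix.mul_assoc]

theorem pn_zm {w r : β → F} (h : Plane QB w r) (C : Matrix α α F) : PN w r (Zm JB w C) := by
  obtain ⟨a, b, c, d⟩ := H.dot_plane h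
  refine ⟨by rw [H.zm_mul_kc, a]; simp, by rw [H.zm_mul_kc, c]; simp, C * kr α (JB *ᵥ w), 0, ?_⟩
  rw [Zm, Matrix.mul_zero, add_zero, Matrix.mul_assoc]

theorem pn_zm' {w r : β → F} (h : Plane QB w r) (C : Matrix α α F) : PN w r (Zm JB r C) := by
  obtain ⟨a, b, c, d⟩ := H.dot_plane h
  refine ⟨by rw [H.zm_mul_kc, d]; simp, by rw [H.zm_mul_kc, b]; simp, 0, C * kr α (JB *ᵥ r), ?_⟩
  rw [Zm, Matrix.mul_zero, zero_add, Matrix.mul_assoc]

theorem np_sq {w r : β → F} (h : Plane QB w r) (E E' : Matrix α α F) : Np JA JB w r E * Np JA JB w r E' = 0 :=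
  (H.pn_np h E).mul (H.pn_np h E')

/-- The shear fixing `w`. -/
theorem exists_shear {w r : β → F} (h : Plane QB w r) (t : F) :
    ∃ T ∈ El QB, ap T w = w ∧ ap T r = r + t • w := by
  obtain ⟨z, z1, z2⟩ := exists_perp_value H.gB.nd h.indep
  obtain ⟨T, hT⟩ := exists_siegel H.gB.nd h.qw (v := -t • z) (by rw [b_smul_right, z1, mul_zero])
  refine ⟨T, siegel_mem_El hT, siegel_fix hT (b_self_zero h.qw) hT.2.1, ?_⟩
  rw [hT.2.2, b_smul_right, z2, b_comm r w, h.bwr]
  module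

/-- The shear as a conjugation. -/
theorem inM_shear {w r : β → F} (h : Plane QB w r) (t : F) {E C C' : Matrix α α F}
    (hin : InM M (1 + (Np JA JB w r E + Zm JB w C + Zm JB r C'))) :
    InM M (1 + (Np JA JB w (r + t • w) E + Zm JB w C + Zm JB (r + t • w) C')) := by
  obtain ⟨T, hT, e1, e2⟩ := H.exists_shear h t
  have := H.inM_conj_elB hT hin
  rw [Matrix.mul_add, Matrix.mul_add, Matrix.add_mul, Matrix.add_mul, H.zm_conj, H.zm_conj, e1, e2] at this
  have e3 := H.np_conj (1 : Grp QA) T w r E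
  rw [e1, e2, show ((1⁻¹ : Grp QA) : GL α F).1 = (1 : Matrix α α F) by rw [inv_one]; rfl,
    show ((1 : Grp QA) : GL α F).1 = (1 : Matrix α α F) from rfl, Matrix.one_mul, Matrix.mul_one] at e3
  rwa [e3] at this

theorem zm_add_vec (w r : β → F) (t : F) (C : Matrix α α F) :
    Zm JB (r + t • w) C = Zm JB r C + (t * t) • Zm JB w C +
      t • (kc α w * C * kr α (JB *ᵥ r) + kc α r * C * kr α (JB *ᵥ w)) := by
  simp only [Zm, Matrix.mulVec_add, Matrix.mulVec_smul, kr_add, kr_smul, kc_add, kc_smul, Matrix.add_mul,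
    Matrix.mul_add, Matrix.smul_mul, Matrix.mul_smul, smul_smul]
  module

theorem np_skew (w r : β → F) {C : Matrix α α F} (hC : adj JA C = -C) :
    kc α w * C * kr α (JB *ᵥ r) + kc α r * C * kr α (JB *ᵥ w) = Np JA JB w r C := by
  rw [Np, hC, Matrix.mul_neg, Matrix.neg_mul, sub_neg_eq_add]

/-- The central part can be split off. -/
theorem zm_split {w r : β → F} (h : Plane QB w r) {C : Matrix α α F} (hC : adj JA C = -C)
    (hin : InM M (1 + Zm JB r C)) : InM M (1 + Zm JB w C) ∧ InM M (1 + Np JA JB w r C) := by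
  have h0 : InM M (1 + (Np JA JB r w (0 : Matrix α α F) + Zm JB r C + Zm JB w 0)) := by
    simpa [Np, Zm, H.gA.adj_zero] using hin
  have hp := H.inM_shear (w := r) (r := w) h.symm 1 h0
  obtain ⟨a, b, c, d⟩ := H.dot_plane h
  -- the images of `r` under the shears along `w`
  have key : ∀ t : F, InM M (1 + Zm JB (r + t • w) C) := by
    intro t
    have h1 : InM M (1 + (Np JA JB w r (0 : Matrix α α F) + Zm JB w 0 + Zm JB r C)) := by
      simpa [Np, Zm, H.gA.adj_zero] using hin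
    simpa [Np, Zm, H.gA.adj_zero] using H.inM_shear h t h1
  have k1 := key 1
  have k2 := key (-1)
  rw [H.zm_add_vec, H.np_skew w r hC] at k1 k2
  have pz := H.pn_zm h C
  have pz' := H.pn_zm' h C
  have pn := H.pn_np h C
  have ps := ((pz'.add (pz.smul (1 * 1))).add (pn.smul (1 : F)))
  have ps' := ((pz'.add (pz.smul ((-1) * (-1)))).add (pn.smul (-1 : F)))
  have hr2 := hin.natSmul (pz'.mul pz') 2
  constructor
  · have h3 := (k1.add k2 (ps.mul ps')).add (hr2.neg ((pz'.smul _).mul (pz'.smul _)))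
      ((ps.add ps').mul (pz'.smul _).neg)
    refine InM.half H.gA.two ?_ (pz.mul pz)
    convert h3 using 2
    push_cast
    module
  · have h3 := k1.add (k2.neg (ps'.mul ps')) (ps.mul ps'.neg)
    refine InM.half H.gA.two ?_ (pn.mul pn)
    convert h3 using 2
    module

/-- A level element without its central part. -/
theorem pure_of {w r : β → F} (h : Plane QB w r) {E C : Matrix α α F} (hC : adj JA C = -C)
    (hin : InM M (1 + (Np JA JB w r E + Zm JB w C))) : InM M (1 + Np JA JB w r E) := by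
  have hin' : InM M (1 + (Np JA JB r w (-adj JA E) + Zm JB r 0 + Zm JB w C)) := by
    have : Np JA JB r w (-adj JA E) = Np JA JB w r E := by
      rw [H.np_swap, H.gA.adj_neg, H.gA.adj_adj, ← neg_one_smul F E, H.np_smul, neg_one_smul, neg_neg]
    simpa [this, Zm] using hin
  have k1 := H.inM_shear h.symm 1 hin'
  have k2 := H.inM_shear h.symm (-1) hin'
  have pz := H.pn_zm h C
  have pz' := H.pn_zm' h C
  have pn := H.pn_np h E
  have pc := H.pn_np h C
  have hA : ∀ t : F, Np JA JB r (w + t • r) (-adj JA E) + Zm JB r 0 + Zm JB (w + t • r) C =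
      Np JA JB w r E + Zm JB w C + (t * t) • Zm JB r C + t • (Zm JB r (E - adj JA E) + Np JA JB w r C) := by
    intro t
    rw [H.zm_add_vec, H.np_skew r w hC, H.np_swap w r C, hC, ← neg_one_smul F C, H.np_smul, neg_one_smul, neg_neg]
    simp only [Np, Zm, H.gA.adj_neg, H.gA.adj_adj, Matrix.mulVec_add, Matrix.mulVec_smul, kr_add, kr_smul, kc_add,
      kc_smul, Matrix.add_mul, Matrix.mul_add, Matrix.smul_mul, Matrix.mul_smul, Matrix.mul_neg, Matrix.neg_mul,
      Matrix.mul_sub, Matrix.sub_mul, Matrix.mul_zero, Matrix.zero_mul]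
    module
  rw [hA] at k1 k2
  have pb := pn.add pz
  have pt : ∀ t : F, PN w r (Np JA JB w r E + Zm JB w C + (t * t) • Zm JB r C +
      t • (Zm JB r (E - adj JA E) + Np JA JB w r C)) := fun t =>
    (pb.add (pz'.smul _)).add (((H.pn_zm' h _).add pc).smul t)
  have hb2 := hin.natSmul (pb.mul pb) 2
  have h3 := (k1.add k2 ((pt 1).mul (pt (-1)))).add (hb2.neg ((pb.smul _).mul (pb.smul _)))
      (((pt 1).add (pt (-1))).mul (pb.smul _).neg)
  have hr : InM M (1 + Zm JB r C) := by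
    refine InM.half H.gA.two ?_ (pz'.mul pz')
    convert h3 using 2
    push_cast
    module
  obtain ⟨hw, -⟩ := H.zm_split h hC hr
  have h4 := hin.add (hw.neg (pz.mul pz)) (pb.mul pz.neg)
  simpa using h4

/-- A block with all contractions orthogonal to `w` zero lies over `w`. -/
theorem split_kc {w θ : β → F} (hθ : θ ⬝ᵥ w = 1) {X : Matrix (α × β) α F}
    (h : ∀ a : β → F, (JB *ᵥ w) ⬝ᵥ a = 0 → kr α (JB *ᵥ a) * X = 0) : X = kc α w * (kr α θ * X) := by
  ext ⟨i, k⟩ j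
  set φ : β → F := Pi.single k 1 - w k • θ with hφ
  obtain ⟨a, ha⟩ := H.gB.mulVec_surj φ
  have h0 := h a (by
    rw [H.gB.swap, ha, hφ, sub_dotProduct, smul_dotProduct, hθ, single_dotProduct, one_mul, smul_eq_mul, mul_one,
      sub_self])
  rw [ha, hφ, kr_sub, kr_smul, Matrix.sub_mul, Matrix.smul_mul, sub_eq_zero] at h0
  have h1 := congrFun₂ h0 i j
  rw [kr_mul_apply, single_dotProduct, one_mul, Matrix.smul_apply, smul_eq_mul] at h1
  rw [h1, kc_mul_apply]

theorem rad_mk {w z : β → F} (hz : (JB *ᵥ w) ⬝ᵥ z = 1) {h : GL (α × β) F} (hh : h ∈ M)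
    (hfix : h.1 * kc α w = kc α w)
    (hlev : ∀ y, (JB *ᵥ w) ⬝ᵥ y = 0 → ∃ E : Matrix α α F, h.1 * kc α y = kc α y + kc α w * E) :
    Rad JB M w h := by
  refine ⟨hh, hfix, fun Y hY => ?_⟩
  choose E hE using fun k => hlev (Pi.single k 1 - (JB *ᵥ w) k • z) (by
    rw [dotProduct_sub, dotProduct_smul, hz, dotProduct_single, mul_one, smul_eq_mul, mul_one, sub_self])
  let R : β → Matrix α α F := fun k => kr α (Pi.single k (1 : F) : β → F) * Y
  have hdec : Y = ∑ k, kc α (Pi.single k 1 - (JB *ᵥ w) k • z) * R k := by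
    ext ⟨i, l⟩ j
    have h0 := congrFun₂ hY i j
    rw [kr_mul_apply, Matrix.zero_apply, dotProduct] at h0
    rw [Matrix.sum_apply]
    simp only [kc_mul_apply, R, kr_mul_apply, single_dotProduct, one_mul, Pi.sub_apply, Pi.smul_apply, smul_eq_mul,
      sub_mul, Finset.sum_sub_distrib]
    have e : ∑ k, (JB *ᵥ w) k * z l * Y (i, k) j = z l * ∑ k, (JB *ᵥ w) k * Y (i, k) j := by
      rw [Finset.mul_sum]
      exact Finset.sum_congr rfl fun k _ => by ring
    rw [e, h0, mul_zero, sub_zero, Finset.sum_eq_single l]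
    · simp
    · intro k _ hk; simp [Pi.single_eq_of_ne (Ne.symm hk)]
    · simp
  refine ⟨∑ k, E k * R k, ?_⟩
  conv_lhs => rw [hdec, Matrix.mul_sum]
  rw [Matrix.mul_sum]
  conv_rhs => rw [hdec, ← Finset.sum_add_distrib]
  refine Finset.sum_congr rfl fun k _ => ?_
  rw [← Matrix.mul_assoc, hE, Matrix.add_mul, Matrix.mul_assoc]

theorem rad_apply_mul {w : β → F} {g h : GL (α × β) F} (hg : Rad JB M w g) {Y : Matrix (α × β) α F}
    {E E' : Matrix α α F} (h1 : g.1 * Y = Y + kc α w * E) (h2 : h.1 * Y = Y + kc α w * E') :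
    (g * h).1 * Y = Y + kc α w * (E + E') := by
  rw [Units.val_mul, Matrix.mul_assoc, h2, Matrix.mul_add, h1, ← Matrix.mul_assoc g.1, hg.2.1, Matrix.mul_add]
  abel

theorem rad_mul {w : β → F} {g h : GL (α × β) F} (hg : Rad JB M w g) (hh : Rad JB M w h) : Rad JB M w (g * h) := by
  refine ⟨M.mul_mem hg.1 hh.1, by rw [Units.val_mul, Matrix.mul_assoc, hh.2.1, hg.2.1], fun Y hY => ?_⟩
  obtain ⟨E, hE⟩ := hg.2.2 Y hY
  obtain ⟨E', hE'⟩ := hh.2.2 Y hY
  exact ⟨_, H.rad_apply_mul hg hE hE'⟩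

theorem rad_apply_inv {w : β → F} {g : GL (α × β) F} (hg : Rad JB M w g) {Y : Matrix (α × β) α F}
    {E : Matrix α α F} (h1 : g.1 * Y = Y + kc α w * E) : (g⁻¹).1 * Y = Y + kc α w * (-E) := by
  have : (g⁻¹).1 * (g.1 * Y) = Y := by rw [← Matrix.mul_assoc, g.inv_mul, Matrix.one_mul]
  rw [h1, Matrix.mul_add, ← Matrix.mul_assoc (g⁻¹).1 (kc α w)] at this
  have e : (g⁻¹).1 * kc α w = kc α w := by
    conv_lhs => rw [← hg.2.1]
    rw [← Matrix.mul_assoc, g.inv_mul, Matrix.one_mul]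
  rw [e] at this
  rw [Matrix.mul_neg, ← sub_eq_add_neg, eq_sub_iff_add_eq, this]

theorem rad_inv {w : β → F} {g : GL (α × β) F} (hg : Rad JB M w g) : Rad JB M w g⁻¹ := by
  refine ⟨M.inv_mem hg.1, ?_, fun Y hY => ?_⟩
  · conv_lhs => rw [← hg.2.1]
    rw [← Matrix.mul_assoc, g.inv_mul, Matrix.one_mul]
  · obtain ⟨E, hE⟩ := hg.2.2 Y hY
    exact ⟨_, H.rad_apply_inv hg hE⟩

theorem rad_conj {w : β → F} {g h : GL (α × β) F} (hh : Rad JB M w h) (hg : g ∈ M) (hfix : g.1 * kc α w = kc α w) :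
    Rad JB M w (g * h * g⁻¹) := by
  have hfix' : (g⁻¹).1 * kc α w = kc α w := by
    conv_lhs => rw [← hfix]
    rw [← Matrix.mul_assoc, g.inv_mul, Matrix.one_mul]
  refine ⟨M.mul_mem (M.mul_mem hg hh.1) (M.inv_mem hg), ?_, fun Y hY => ?_⟩
  · rw [Units.val_mul, Units.val_mul, Matrix.mul_assoc, hfix', Matrix.mul_assoc, hh.2.1, hfix]
  · obtain ⟨E, hE⟩ := hh.2.2 ((g⁻¹).1 * Y) (by
      rw [← Matrix.mul_assoc, H.adjoint_fix (M.inv_mem hg) hfix', hY])
    refine ⟨E, ?_⟩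
    rw [Units.val_mul, Units.val_mul, Matrix.mul_assoc, Matrix.mul_assoc, hE, Matrix.mul_add, ← Matrix.mul_assoc,
      g.mul_inv, Matrix.one_mul, ← Matrix.mul_assoc, hfix]

/-- An element with a single level is that level element. -/
theorem rad_eq {w r : β → F} (hp : Plane QB w r) {h : GL (α × β) F} (hh : Rad JB M w h) {E : Matrix α α F}
    (hlev : ∀ y, (JB *ᵥ w) ⬝ᵥ y = 0 → h.1 * kc α y = kc α y + ((JB *ᵥ r) ⬝ᵥ y) • (kc α w * E)) :
    ∃ C : Matrix α α F, adj JA C = -C ∧ h.1 = 1 + (Np JA JB w r E + Zm JB w C) := by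
  obtain ⟨z, r', v, qz, -, wz, rz, -⟩ := exists_frame H.gB.nd H.dimB hp
  obtain ⟨ww, rr, wr, rw'⟩ := H.dot_plane hp
  have zw : (JB *ᵥ w) ⬝ᵥ z = 1 := by rw [H.gB.dot_polar, wz]
  have zr : (JB *ᵥ r) ⬝ᵥ z = 0 := by rw [H.gB.dot_polar, rz]
  have zz : (JB *ᵥ z) ⬝ᵥ z = 0 := by rw [H.gB.dot_polar, b_self_zero qz]
  obtain ⟨θ, hθ⟩ := exists_dual_one hp.ne
  have hker : ∀ a, (JB *ᵥ w) ⬝ᵥ a = 0 →
      kr α (JB *ᵥ a) * (h.1 * kc α z - kc α z - Np JA JB w r E * kc α z) = 0 := by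
    intro a ha
    have h1 := H.adjoint hh.1 (y := a) (y' := a) (w := w) (E := ((JB *ᵥ r) ⬝ᵥ a) • E)
      (by rw [hlev a ha, Matrix.mul_smul])
    have h2 : kr α (JB *ᵥ a) * h.1 = kr α (JB *ᵥ a) - ((JB *ᵥ r) ⬝ᵥ a) • (adj JA E * kr α (JB *ᵥ w)) := by
      have := congrArg (· * h.1) h1
      simp only [Matrix.mul_assoc, h.inv_mul, Matrix.mul_one, Matrix.add_mul, H.adjoint_fix hh.1 hh.2.1,
        H.gA.adj_smul, Matrix.smul_mul] at this
      rw [eq_sub_iff_add_eq]
      exact this.symm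
    rw [Matrix.mul_sub, Matrix.mul_sub, ← Matrix.mul_assoc, h2, Matrix.sub_mul, H.np_mul_kc, zw, zr, zero_smul,
      one_smul, zero_sub]
    simp only [Matrix.mul_neg, Matrix.mul_assoc, Matrix.smul_mul, kr_mul_kc, kr_mul_kc_mul, zw, one_smul,
      Matrix.mul_one, H.gB.swap a r]
    abel
  have hsplit := H.split_kc hθ hker
  set C := kr α θ * (h.1 * kc α z - kc α z - Np JA JB w r E * kc α z) with hC
  have hz : h.1 * kc α z = kc α z + (Np JA JB w r E * kc α z + kc α w * C) := by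
    rw [← hsplit]; abel
  have hval : h.1 = 1 + (Np JA JB w r E + Zm JB w C) := by
    refine eq_of_mul_kc_all fun y => ?_
    set p := (JB *ᵥ w) ⬝ᵥ y with hpd
    obtain ⟨y0, hy0⟩ : ∃ y0, y0 = y - p • z := ⟨_, rfl⟩
    have hy : kc α y = kc α y0 + p • kc α z := by rw [← kc_smul, ← kc_add, hy0, sub_add_cancel]
    have h0 : (JB *ᵥ w) ⬝ᵥ y0 = 0 := by
      rw [hy0, dotProduct_sub, dotProduct_smul, zw, smul_eq_mul, mul_one, sub_self]
    rw [hy, Matrix.mul_add, Matrix.mul_smul, hlev y0 h0, hz, Matrix.mul_add, Matrix.mul_smul]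
    simp only [Matrix.add_mul, Matrix.one_mul, H.np_mul_kc, H.zm_mul_kc, h0, zw, zero_smul, one_smul, sub_zero]
    module
  refine ⟨C, ?_, hval⟩
  have hg := H.gram (H.iso_mem hh.1)
  have key : (h.1 * kc α z)ᵀ * (JA ⊗ₖ JB) * (h.1 * kc α z) = (kc α z)ᵀ * (JA ⊗ₖ JB) * kc α z := by
    calc (h.1 * kc α z)ᵀ * (JA ⊗ₖ JB) * (h.1 * kc α z) = (kc α z)ᵀ * (h.1ᵀ * (JA ⊗ₖ JB) * h.1) * kc α z := by
          rw [Matrix.transpose_mul]; simp only [Matrix.mul_assoc]
      _ = _ := by rw [hg]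
  rw [hz, H.np_mul_kc, zw, zr, zero_smul, one_smul, zero_sub, ← Matrix.mul_neg] at key
  simp only [Matrix.transpose_add, Matrix.transpose_mul, Matrix.mul_add, Matrix.add_mul, Matrix.mul_assoc _ (kc α _)ᵀ,
    H.kc_transpose_mul, Matrix.mul_assoc, kr_mul_kc, kr_mul_kc_mul, zz, zw, zr, ww, rr, wr,
    rw', H.gB.swap z w, H.gB.swap z r, zero_smul, one_smul, Matrix.mul_zero, Matrix.zero_mul, Matrix.mul_one,
    Matrix.one_mul, add_zero, zero_add, smul_zero] at key
  have e : adj JA C + C = 0 := by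
    have e2 : JA⁻¹ * (Cᵀ * JA + JA * C) = 0 := by
      rw [show Cᵀ * JA + JA * C = 0 by linear_combination (norm := abel) key, Matrix.mul_zero]
    rw [Matrix.mul_add, ← Matrix.mul_assoc, ← Matrix.mul_assoc, Matrix.nonsing_inv_mul JA H.gA.isUnit_det,
      Matrix.one_mul] at e2
    exact e2
  exact eq_neg_of_add_eq_zero_left e

/-- A level element of one plane gives the level on all planes. -/
theorem d_of_all {w r : β → F} (hp : Plane QB w r) {E : Matrix α α F}
    (h : ∀ c : F, InM M (1 + Np JA JB w r (c • E))) : D JA QB JB M E := by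
  intro w' r' hp'
  obtain ⟨T, hT, c, hc, e1, e2⟩ := exists_move_plane H.gB.nd H.dimB hp hp'
  have := H.inM_conj_elB hT (h c⁻¹)
  have e3 := H.np_conj (1 : Grp QA) T w r (c⁻¹ • E)
  rw [e1, e2, show ((1⁻¹ : Grp QA) : GL α F).1 = (1 : Matrix α α F) by rw [inv_one]; rfl,
    show ((1 : Grp QA) : GL α F).1 = (1 : Matrix α α F) from rfl, Matrix.one_mul, Matrix.mul_one, H.np_smul_right,
    smul_smul, mul_inv_cancel₀ hc, one_smul] at e3
  rwa [e3] at this

/-- The level of a radical element at a singular vector. -/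
theorem level_sing {w r : β → F} (hp : Plane QB w r) {h : GL (α × β) F} (hh : Rad JB M w h) {E : Matrix α α F}
    (hr : h.1 * kc α r = kc α r + kc α w * E) : D JA QB JB M E := by
  obtain ⟨w', r', v, -, -, -, -, -, -, -, wv, rv, -, -, qv⟩ := exists_frame H.gB.nd H.dimB hp
  have key : ∀ t : F, InM M (1 + Np JA JB w r ((-(2 * (QB v * (t * t)))) • E)) := by
    intro t
    obtain ⟨T, hT⟩ := exists_siegel H.gB.nd hp.qr (v := t • v) (by rw [b_smul_right, rv, mul_zero])
    obtain ⟨T', hT'⟩ := exists_siegel H.gB.nd hp.qr (v := -(t • v))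
      (by rw [← neg_one_smul F (t • v), b_smul_right, b_smul_right, rv, mul_zero, mul_zero])
    have hTT : T⁻¹ = T' := by
      refine inv_eq_of_mul_eq_one_right ?_
      have := siegel_mul hT hT'
      rw [add_neg_cancel] at this
      exact siegel_unique this (siegel_one hp.qr)
    obtain ⟨n, hn, hn'⟩ := H.inM_elB (siegel_mem_El hT)
    obtain ⟨n', hn1, hn1'⟩ := H.inM_elB (siegel_mem_El hT')
    have fixT : ap T w = w := siegel_fix hT hp.bwr (by rw [b_smul_right, wv, mul_zero])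
    have fixT' : ap T' w = w := siegel_fix hT' hp.bwr
      (by rw [← neg_one_smul F (t • v), b_smul_right, b_smul_right, wv, mul_zero, mul_zero])
    have hnw : n.1 * kc α w = kc α w := by
      rw [hn', kron_mul_kc, Matrix.mul_one]; exact congrArg (kc α) fixT
    have hnw' : n'.1 * kc α w = kc α w := by
      rw [hn1', kron_mul_kc, Matrix.mul_one]; exact congrArg (kc α) fixT'
    have hinv : n' = n⁻¹ := by
      refine (inv_eq_of_mul_eq_one_right (Units.ext ?_)).symm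
      rw [Units.val_mul, hn', hn1', ← Matrix.mul_kronecker_mul, Matrix.one_mul, ← hTT,
        show (T : GL β F).1 * ((T⁻¹ : Grp QB) : GL β F).1 = 1 from (T : GL β F).mul_inv, Matrix.one_kronecker_one]
      rfl
    have r1 := H.rad_conj hh hn hnw
    have r2 := H.rad_conj hh hn1 hnw'
    have r3 := H.rad_mul (H.rad_mul r1 r2) (H.rad_inv (H.rad_mul hh hh))
    suffices hl : ∀ y, (JB *ᵥ w) ⬝ᵥ y = 0 → (n * h * n⁻¹ * (n' * h * n'⁻¹) * (h * h)⁻¹).1 * kc α y =
        kc α y + ((JB *ᵥ r) ⬝ᵥ y) • (kc α w * ((-(2 * (QB v * (t * t)))) • E)) by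
      obtain ⟨C, hC, hval⟩ := H.rad_eq hp r3 hl
      exact H.pure_of hp hC ⟨_, r3.1, hval⟩
    intro y hy
    have hw0 : ∀ u : β → F, QuadraticMap.polar ⇑QB w u = 0 → ∃ Eu : Matrix α α F,
        h.1 * kc α u = kc α u + kc α w * Eu := fun u hu => hh.2.2 _ (by
      rw [kr_mul_kc, H.gB.dot_polar, hu, zero_smul])
    have hy' : QuadraticMap.polar ⇑QB w y = 0 := by rw [← H.gB.dot_polar, hy]
    obtain ⟨E0, hE0⟩ := hw0 y hy'
    obtain ⟨E1, hE1⟩ := hw0 (ap T' y) (by rw [← fixT', ap_b, hy'])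
    obtain ⟨E2, hE2⟩ := hw0 (ap T y) (by rw [← fixT, ap_b, hy'])
    have a1 : (n * h * n⁻¹).1 * kc α y = kc α y + kc α w * E1 := by
      rw [Units.val_mul, Units.val_mul, ← hinv, Matrix.mul_assoc, hn1', kron_mul_kc, Matrix.mul_one, Matrix.mul_assoc,
        show (T' : GL β F).1 *ᵥ y = ap T' y from rfl, hE1, Matrix.mul_add, ← Matrix.mul_assoc n.1 (kc α w), hnw, hn',
        kron_mul_kc, Matrix.mul_one, show (T : GL β F).1 *ᵥ ap T' y = ap T (ap T' y) from rfl, ← hTT, ap_ap_inv]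
    have a2 : (n' * h * n'⁻¹).1 * kc α y = kc α y + kc α w * E2 := by
      rw [Units.val_mul, Units.val_mul, show n'⁻¹ = n by rw [hinv, inv_inv], Matrix.mul_assoc, hn', kron_mul_kc,
        Matrix.mul_one, Matrix.mul_assoc, show (T : GL β F).1 *ᵥ y = ap T y from rfl, hE2, Matrix.mul_add,
        ← Matrix.mul_assoc n'.1 (kc α w), hnw', hn1', kron_mul_kc, Matrix.mul_one,
        show (T' : GL β F).1 *ᵥ ap T y = ap T' (ap T y) from rfl, ← hTT, ap_inv_ap]
    have a3 := H.rad_apply_inv (H.rad_mul hh hh) (H.rad_apply_mul hh hE0 hE0)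
    rw [H.rad_apply_mul (H.rad_mul r1 r2) (H.rad_apply_mul r1 a1 a2) a3]
    congr 1
    set s := -(2 * (QB v * (t * t))) * (JB *ᵥ r) ⬝ᵥ y with hs
    have hvec : ap T' y + ap T y - (2 : F) • y = s • r := by
      rw [hT.2.2, hT'.2.2, ← neg_one_smul F (t • v), q_smul, q_smul, b_smul_right, b_smul_right, hs, H.gB.dot_polar,
        b_comm r y]
      module
    have hkey : kc α w * (E1 + E2 + -(E0 + E0)) = s • (kc α w * E) := by
      have e : kc α (ap T' y) + kc α (ap T y) - (2 : F) • kc α y = (s • kc α r : Matrix (α × β) α F) := by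
        rw [← kc_smul, ← kc_smul, ← kc_add, ← hvec, eq_comm, eq_sub_iff_add_eq, ← kc_add, sub_add_cancel]
      have e' := congrArg ((h.1 - 1) * ·) e
      simp only [Matrix.sub_mul, Matrix.one_mul, Matrix.mul_add, Matrix.mul_sub, Matrix.mul_smul, hE0, hE1, hE2,
        hr] at e'
      simp only [Matrix.mul_add, Matrix.mul_neg]
      linear_combination (norm := module) e'
    rw [hkey, hs, Matrix.mul_smul, smul_smul, mul_comm]
  refine H.d_of_all hp fun c => ?_
  have hq : (2 : F) * QB v ≠ 0 := mul_ne_zero H.gA.two qv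
  obtain ⟨d, hd⟩ : ∃ d, d = c / (2 * QB v) := ⟨_, rfl⟩
  have h1 := key ((d + 1) / 2)
  have h2 := key ((d - 1) / 2)
  have := h2.add (h1.neg (H.np_sq hp _ _)) ((H.pn_np hp _).mul (H.pn_np hp _).neg)
  convert this using 2
  rw [H.np_smul, H.np_smul, H.np_smul, ← sub_eq_add_neg, ← sub_smul]
  congr 1
  have : d * (2 * QB v) = c := by rw [hd, div_mul_cancel₀ _ hq]
  have h2' := H.gA.two
  have e : (d + 1) / 2 * ((d + 1) / 2) - (d - 1) / 2 * ((d - 1) / 2) = d := by field_simp; ring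
  linear_combination -(2 * QB v) * e - this

end Hyp

end CfsgLib.Classical.TensorOrth
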