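import Cfsg.Agent.Lib.Classical.TensorOrth.Stab
import Cfsg.Agent.Lib.Classical.QuadPairInvol.Basic

set_option autoImplicit false
set_option linter.unusedSectionVars false

/-!
When the levels are scalars, every element of the group is a Kronecker product: the conjugates of the root
elements of the second factor are root elements of it.
-/

namespace CfsgLib.Classical.TensorOrth

open Matrix CfsgLib.Classical.TensorMax CfsgLib.Orth
open CfsgLib.Classical.TensorSymp (adj ten kr_mul_apply kc_mul_apply kc_mulVec matrix_ext_dot ten_dot kron_mulVec_ten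
  vecMul_kr)
open scoped MatrixGroups Kronecker

variable {F : Type*} [Field F] {α β : Type} [Fintype α] [DecidableEq α] [Fintype β] [DecidableEq β]

theorem kron_sub_left (A A' : Matrix α α F) :
    (A - A') ⊗ₖ (1 : Matrix β β F) = A ⊗ₖ (1 : Matrix β β F) - A' ⊗ₖ (1 : Matrix β β F) := by
  rw [sub_eq_add_neg, Matrix.add_kronecker, ← neg_one_smul F A', Matrix.smul_kronecker, neg_one_smul, sub_eq_add_neg]

theorem li_ten {ι κ : Type} [Fintype ι] [Fintype κ] {x : ι → α → F} {y : κ → β → F} (hx : LinearIndependent F x)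
    (hy : LinearIndependent F y) : LinearIndependent F fun p : ι × κ => ten (x p.1) (y p.2) := by
  rw [Fintype.linearIndependent_iff]
  rintro c hc ⟨i₀, j₀⟩
  have h1 : ∀ a : α, ∀ j, ∑ i, c (i, j) * x i a = 0 := by
    intro a
    refine Fintype.linearIndependent_iff.1 hy (fun j => ∑ i, c (i, j) * x i a) ?_
    ext b
    have := congrFun hc (a, b)
    simp only [Finset.sum_apply, Pi.smul_apply, ten, smul_eq_mul, Fintype.sum_prod_type, Pi.zero_apply] at this ⊢
    rw [← this, Finset.sum_comm]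
    refine Finset.sum_congr rfl fun j _ => ?_
    rw [Finset.sum_mul]
    exact Finset.sum_congr rfl fun i _ => mul_assoc _ _ _
  refine Fintype.linearIndependent_iff.1 hx (fun i => c (i, j₀)) ?_ i₀
  ext a
  simpa [Finset.sum_apply] using h1 a j₀

theorem li_ten_left {κ : Type} [Fintype κ] {y : κ → β → F} (hy : LinearIndependent F y) :
    LinearIndependent F fun p : α × κ => ten (Pi.single p.1 (1 : F) : α → F) (y p.2) :=
  li_ten (x := fun i : α => (Pi.single i (1 : F) : α → F)) (Pi.linearIndependent_single_one α F) hy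

theorem li_ten_right {ι : Type} [Fintype ι] {x : ι → α → F} (hx : LinearIndependent F x) :
    LinearIndependent F fun p : ι × β => ten (x p.1) (Pi.single p.2 (1 : F) : β → F) :=
  li_ten (y := fun k : β => (Pi.single k (1 : F) : β → F)) hx (Pi.linearIndependent_single_one β F)

theorem kron_eq_zero {A : Matrix α α F} {B : Matrix β β F} (h : A ⊗ₖ B = 0) : A = 0 ∨ B = 0 := by
  by_cases hA : A = 0
  · exact Or.inl hA
  obtain ⟨i, j, hij⟩ : ∃ i j, A i j ≠ 0 := by
    by_contra hc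
    push Not at hc
    exact hA (Matrix.ext hc)
  refine Or.inr (Matrix.ext fun k l => ?_)
  have := congrFun₂ h (i, k) (j, l)
  rw [Matrix.kronecker_apply, Matrix.zero_apply, mul_eq_zero] at this
  exact this.resolve_left hij

theorem kron_left_cancel {A : Matrix α α F} (hA : A ≠ 0) {B B' : Matrix β β F} (h : A ⊗ₖ B = A ⊗ₖ B') : B = B' := by
  obtain ⟨i, j, hij⟩ : ∃ i j, A i j ≠ 0 := by
    by_contra hc
    push Not at hc
    exact hA (Matrix.ext hc)
  refine Matrix.ext fun k l => mul_left_cancel₀ hij ?_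
  exact congrFun₂ h (i, k) (j, l)

theorem kron_right_cancel {A A' : Matrix α α F} {B : Matrix β β F} (hB : B ≠ 0) (h : A ⊗ₖ B = A' ⊗ₖ B) : A = A' := by
  obtain ⟨k, l, hkl⟩ : ∃ k l, B k l ≠ 0 := by
    by_contra hc
    push Not at hc
    exact hB (Matrix.ext hc)
  refine Matrix.ext fun i j => mul_right_cancel₀ hkl ?_
  exact congrFun₂ h (i, k) (j, l)

theorem kron_eq_one [Nonempty α] [Nonempty β] {A : Matrix α α F} {B : Matrix β β F} (h : A ⊗ₖ B = 1) :
    ∃ c : F, c ≠ 0 ∧ A = c • 1 ∧ B = c⁻¹ • 1 := by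
  obtain ⟨i⟩ := ‹Nonempty α›
  obtain ⟨k⟩ := ‹Nonempty β›
  have h1 : A i i * B k k = 1 := by
    have := congrFun₂ h (i, k) (i, k)
    rwa [Matrix.kronecker_apply, Matrix.one_apply_eq] at this
  have hc : A i i ≠ 0 := left_ne_zero_of_mul_eq_one h1
  have hd : B k k ≠ 0 := right_ne_zero_of_mul_eq_one h1
  have hB : B = (A i i)⁻¹ • 1 := by
    ext l m
    have := congrFun₂ h (i, l) (i, m)
    rw [Matrix.kronecker_apply] at this
    rw [Matrix.smul_apply, smul_eq_mul, eq_inv_mul_iff_mul_eq₀ hc, this]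
    simp [Matrix.one_apply]
  refine ⟨A i i, hc, ?_, hB⟩
  ext a b
  have := congrFun₂ h (a, k) (b, k)
  rw [Matrix.kronecker_apply] at this
  refine mul_right_cancel₀ hd ?_
  rw [Matrix.smul_apply, smul_eq_mul, this, mul_right_comm, h1, one_mul]
  simp [Matrix.one_apply]

variable [Finite F]

theorem nil_split {p : ℕ} [hp : Fact p.Prime] [CharP F p] [Nonempty α] [Nonempty β] (h2 : (2 : F) ≠ 0)
    {S : Matrix α α F} {T : Matrix β β F} {K : Matrix (α × β) (α × β) F} (hK : K * K = 0) (h : 1 + K = S ⊗ₖ T) :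
    ∃ N : Matrix β β F, N * N = 0 ∧ K = (1 : Matrix α α F) ⊗ₖ N ∨
      ∃ N' : Matrix α α F, N' * N' = 0 ∧ K = N' ⊗ₖ (1 : Matrix β β F) := by
  have hn : ∀ n : ℕ, (1 + K) ^ n = 1 + (n : F) • K := fun n => by
    induction n with
    | zero => simp
    | succ n ih =>
      rw [pow_succ, ih, Matrix.mul_add, Matrix.mul_one, Matrix.add_mul, Matrix.one_mul, Matrix.smul_mul, hK,
        smul_zero, add_zero, Nat.cast_succ, add_smul, one_smul, add_assoc]
  have hkp : ∀ n : ℕ, (S ⊗ₖ T) ^ n = (S ^ n) ⊗ₖ (T ^ n) := fun n => by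
    induction n with
    | zero => simp
    | succ n ih => rw [pow_succ, pow_succ, pow_succ, ih, Matrix.mul_kronecker_mul]
  have h1 : (S ^ p) ⊗ₖ (T ^ p) = 1 := by rw [← hkp, ← h, hn, CharP.cast_eq_zero, zero_smul, add_zero]
  obtain ⟨c, hc, hS, hT⟩ := kron_eq_one h1
  obtain ⟨d, hd⟩ : ∃ d, d ^ p = c := (Finite.injective_iff_surjective.1 (frobenius_inj F p)) c
  have hd0 : d ≠ 0 := fun e => hc (by rw [← hd, e, zero_pow hp.out.ne_zero])
  obtain ⟨A, hA⟩ : ∃ A, A = d⁻¹ • S - 1 := ⟨_, rfl⟩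
  obtain ⟨B, hB⟩ : ∃ B, B = d • T - 1 := ⟨_, rfl⟩
  have hA1 : A + 1 = d⁻¹ • S := by rw [hA, sub_add_cancel]
  have hB1 : B + 1 = d • T := by rw [hB, sub_add_cancel]
  have hAp : A ^ p = 0 := by
    have e : (A + 1) ^ p = 1 := by
      rw [hA1, smul_pow, hS, ← hd, smul_smul, ← mul_pow, inv_mul_cancel₀ hd0, one_pow, one_smul]
    rw [add_pow_char_of_commute (p := p) (Commute.one_right A), one_pow, add_eq_right] at e
    exact e
  have hBp : B ^ p = 0 := by
    have e : (B + 1) ^ p = 1 := by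
      rw [hB1, smul_pow, hT, ← hd, smul_smul, ← inv_pow, ← mul_pow, mul_inv_cancel₀ hd0, one_pow, one_smul]
    rw [add_pow_char_of_commute (p := p) (Commute.one_right B), one_pow, add_eq_right] at e
    exact e
  have hKe : K = A ⊗ₖ (1 : Matrix β β F) + (1 : Matrix α α F) ⊗ₖ B + A ⊗ₖ B := by
    have e : (A + 1) ⊗ₖ (B + 1) = 1 + K := by
      rw [hA1, hB1, Matrix.smul_kronecker, Matrix.kronecker_smul, smul_smul, inv_mul_cancel₀ hd0, one_smul, h]
    rw [Matrix.add_kronecker, Matrix.kronecker_add, Matrix.kronecker_add, Matrix.one_kronecker_one] at e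
    linear_combination (norm := abel) -e
  have exists_ker : ∀ {γ : Type} [Fintype γ] [DecidableEq γ] [Nonempty γ] (N : Matrix γ γ F), N ^ p = 0 →
      ∃ v, v ≠ 0 ∧ N *ᵥ v = 0 := fun N hN => by
    refine Matrix.exists_mulVec_eq_zero_iff.2 ?_
    have := congrArg Matrix.det hN
    rw [Matrix.det_pow, Matrix.det_zero] at this
    exact eq_zero_of_pow_eq_zero this
  obtain ⟨u, hu, hu'⟩ := exists_ker A hAp
  obtain ⟨v, hv, hv'⟩ := exists_ker B hBp
  have e1 : A * A = 0 := by
    refine Matrix.ext_iff_mulVec.2 fun a => funext fun i => ?_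
    have e : ∀ a, K *ᵥ ten a v = ten (A *ᵥ a) v := fun a => by
      rw [hKe, Matrix.add_mulVec, Matrix.add_mulVec, kron_mulVec_ten, kron_mulVec_ten, kron_mulVec_ten,
        Matrix.one_mulVec, hv']
      ext p; simp [ten]
    have := congrArg (· *ᵥ ten a v) hK
    simp only [← Matrix.mulVec_mulVec, e, Matrix.zero_mulVec] at this
    obtain ⟨k, hk⟩ := Function.ne_iff.1 hv
    have h0 := congrFun this (i, k)
    simp only [ten, Pi.zero_apply, mul_eq_zero] at h0
    rw [← Matrix.mulVec_mulVec, Matrix.zero_mulVec]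
    exact h0.resolve_right hk
  have e2 : B * B = 0 := by
    refine Matrix.ext_iff_mulVec.2 fun b => funext fun k => ?_
    have e : ∀ b, K *ᵥ ten u b = ten u (B *ᵥ b) := fun b => by
      rw [hKe, Matrix.add_mulVec, Matrix.add_mulVec, kron_mulVec_ten, kron_mulVec_ten, kron_mulVec_ten,
        Matrix.one_mulVec, hu']
      ext p; simp [ten]
    have := congrArg (· *ᵥ ten u b) hK
    simp only [← Matrix.mulVec_mulVec, e, Matrix.zero_mulVec] at this
    obtain ⟨i, hi⟩ := Function.ne_iff.1 hu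
    have h0 := congrFun this (i, k)
    simp only [ten, Pi.zero_apply, mul_eq_zero] at h0
    rw [← Matrix.mulVec_mulVec, Matrix.zero_mulVec]
    exact h0.resolve_left hi
  have h3 : (2 : F) • (A ⊗ₖ B) = 0 := by
    rw [← hK, hKe]
    simp only [Matrix.mul_add, Matrix.add_mul, ← Matrix.mul_kronecker_mul, Matrix.mul_one, Matrix.one_mul, e1, e2,
      Matrix.zero_kronecker, Matrix.kronecker_zero, add_zero, zero_add, two_smul]
  rcases kron_eq_zero ((smul_eq_zero.1 h3).resolve_left h2) with h0 | h0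
  · refine ⟨B, Or.inl ⟨e2, ?_⟩⟩
    simp [hKe, h0]
  · refine ⟨0, Or.inr ⟨A, e1, ?_⟩⟩
    simp [hKe, h0]

/-- An isometry `1 + N` with `N ^ 2 = 0`, `N ≠ 0` has a singular plane in the image of `N`. -/
theorem iso_nil {γ : Type} [Fintype γ] [DecidableEq γ] {Q₁ : QuadraticForm F (γ → F)} {J : Matrix γ γ F}
    (hG : Gram Q₁ J) {N : Matrix γ γ F} (hNN : N * N = 0) (hiso : (1 + N)ᵀ * J * (1 + N) = J) (hN : N ≠ 0) :
    ∃ x y, Plane Q₁ (N *ᵥ x) (N *ᵥ y) := by
  have hp : ∀ x y, QuadraticMap.polar ⇑Q₁ (N *ᵥ x) y + QuadraticMap.polar ⇑Q₁ x (N *ᵥ y) +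
      QuadraticMap.polar ⇑Q₁ (N *ᵥ x) (N *ᵥ y) = 0 := by
    intro x y
    have e : QuadraticMap.polar ⇑Q₁ ((1 + N) *ᵥ x) ((1 + N) *ᵥ y) = QuadraticMap.polar ⇑Q₁ x y := by
      rw [hG.pol, hG.pol]
      conv_rhs => rw [← hiso]
      rw [← Matrix.mulVec_mulVec, ← Matrix.mulVec_mulVec, Matrix.dotProduct_mulVec x (1 + N)ᵀ,
        Matrix.vecMul_transpose]
    simp only [Matrix.add_mulVec, Matrix.one_mulVec, b_add_left, b_add_right] at e
    linear_combination e
  have hNN' : ∀ y, N *ᵥ (N *ᵥ y) = 0 := fun y => by rw [Matrix.mulVec_mulVec, hNN, Matrix.zero_mulVec]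
  have hts : ∀ x y, QuadraticMap.polar ⇑Q₁ (N *ᵥ x) (N *ᵥ y) = 0 := fun x y => by
    have := hp x (N *ᵥ y)
    rwa [hNN', b_zero_right, b_zero_right, add_zero, add_zero] at this
  have hq : ∀ x, Q₁ (N *ᵥ x) = 0 := fun x => by
    have := hts x x
    rw [b_self] at this
    exact (mul_eq_zero.1 this).resolve_left hG.two
  obtain ⟨x, hx⟩ : ∃ x, N *ᵥ x ≠ 0 := by
    by_contra hc
    push Not at hc
    exact hN (Matrix.ext_iff_mulVec.2 fun v => by rw [hc, Matrix.zero_mulVec])
  by_contra hc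
  push Not at hc
  have hline : ∀ y, ∃ c : F, N *ᵥ y = c • (N *ᵥ x) := fun y => by
    by_contra h
    push Not at h
    exact hc x y ⟨hq x, hq y, hts x y, hx, h⟩
  choose φ hφ using hline
  have hsk : ∀ a b, φ a * QuadraticMap.polar ⇑Q₁ (N *ᵥ x) b + φ b * QuadraticMap.polar ⇑Q₁ a (N *ᵥ x) = 0 :=
    fun a b => by
      have := hp a b
      rw [hts, add_zero, hφ a, hφ b, b_smul_left, b_smul_right] at this
      exact this
  have h1 : φ x = 1 := by
    have := hφ x
    by_contra h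
    rw [eq_comm, ← sub_eq_zero, ← one_smul F (N *ᵥ x), smul_smul, mul_one, ← sub_smul, smul_eq_zero] at this
    exact h (sub_eq_zero.1 (this.resolve_right hx))
  refine hx (hG.nd _ fun b => ?_)
  have e1 := hsk x x
  rw [h1, b_comm x, one_mul, ← two_mul] at e1
  have e0 := (mul_eq_zero.1 e1).resolve_left hG.two
  have e2 := hsk x b
  rw [h1, one_mul, b_comm x (N *ᵥ x), e0, mul_zero, add_zero] at e2
  exact e2

variable {QA : QuadraticForm F (α → F)} {QB : QuadraticForm F (β → F)} {JA : Matrix α α F} {JB : Matrix β β F}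
  {Q : QuadraticForm F (α × β → F)} {M : Subgroup (GL (α × β) F)}

/-- A root element of a plane. -/
def IsRoot (JA : Matrix α α F) (QB : QuadraticForm F (β → F)) (JB : Matrix β β F) (M : Subgroup (GL (α × β) F))
    (w r : β → F) (x : GL (α × β) F) : Prop :=
  Plane QB w r ∧ x ∈ M ∧ x.1 = 1 + Np JA JB w r 1

namespace Hyp

variable (H : Hyp QA QB JA JB Q M)
include H

theorem np_one (w r : β → F) : Np JA JB w r 1 =
    (1 : Matrix α α F) ⊗ₖ (Matrix.vecMulVec w (JB *ᵥ r) - Matrix.vecMulVec r (JB *ᵥ w)) := by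
  rw [kron_sub, ← kc_mul_kr, ← kc_mul_kr, Np, H.gA.adj_one, Matrix.mul_one, Matrix.mul_one]

theorem exists_root {w r : β → F} (hp : Plane QB w r) : ∃ x, IsRoot JA QB JB M w r x := by
  obtain ⟨x, hx, hx'⟩ := H.d_one w r hp
  exact ⟨x, hp, hx, hx'⟩

theorem root_tens {w r : β → F} {x : GL (α × β) F} (hx : IsRoot JA QB JB M w r x) : Tens x.1 := by
  refine ⟨1, 1 + (Matrix.vecMulVec w (JB *ᵥ r) - Matrix.vecMulVec r (JB *ᵥ w)), ?_⟩
  rw [hx.2.2, H.np_one, Matrix.kronecker_add (1 : Matrix α α F) 1, Matrix.one_kronecker_one]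

theorem finrank_root {w r : β → F} (hp : Plane QB w r) :
    Module.finrank F (LinearMap.range (Np JA JB w r (1 : Matrix α α F)).mulVecLin) ≤ 2 * Fintype.card α := by
  let f : (α → F) × (α → F) →ₗ[F] (α × β → F) :=
    (kc α w).mulVecLin.coprod (kc α r).mulVecLin
  have hle : LinearMap.range (Np JA JB w r (1 : Matrix α α F)).mulVecLin ≤ LinearMap.range f := by
    rintro _ ⟨s, rfl⟩
    refine ⟨((kr α (JB *ᵥ r)) *ᵥ s, -((kr α (JB *ᵥ w)) *ᵥ s)), ?_⟩
    simp [f, Np, H.gA.adj_one, Matrix.sub_mulVec, ← Matrix.mulVec_mulVec, Matrix.mulVec_neg, sub_eq_add_neg]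
  refine (Submodule.finrank_mono hle).trans (le_trans (LinearMap.finrank_range_le f) (le_of_eq ?_))
  rw [Module.finrank_prod, Module.finrank_pi]
  omega

theorem finrank_conj {w r : β → F} (hp : Plane QB w r) (g : GL (α × β) F) :
    Module.finrank F (LinearMap.range (g.1 * Np JA JB w r (1 : Matrix α α F) * (g⁻¹).1).mulVecLin) ≤
      2 * Fintype.card α := by
  rw [Matrix.mul_assoc, Matrix.mulVecLin_mul, Matrix.mulVecLin_mul, LinearMap.range_comp]
  exact (Submodule.finrank_map_le _ _).trans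
    ((Submodule.finrank_mono (LinearMap.range_comp_le_range _ _)).trans (H.finrank_root hp))

theorem iso_right {T : Matrix β β F} {k : GL (α × β) F} (hk : k ∈ M) (h : k.1 = (1 : Matrix α α F) ⊗ₖ T) :
    Tᵀ * JB * T = JB := by
  have hg := H.gram (H.iso_mem hk)
  rw [h, ← Matrix.kroneckerMap_transpose, ← Matrix.mul_kronecker_mul, ← Matrix.mul_kronecker_mul,
    Matrix.transpose_one, Matrix.one_mul, Matrix.mul_one] at hg
  haveI := H.nonempty_left
  exact kron_left_cancel (fun e => H.gA.det_ne (by rw [e, Matrix.det_zero])) hg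

theorem iso_left {S : Matrix α α F} {k : GL (α × β) F} (hk : k ∈ M) (h : k.1 = S ⊗ₖ (1 : Matrix β β F)) :
    Sᵀ * JA * S = JA := by
  have hg := H.gram (H.iso_mem hk)
  rw [h, ← Matrix.kroneckerMap_transpose, ← Matrix.mul_kronecker_mul, ← Matrix.mul_kronecker_mul,
    Matrix.transpose_one, Matrix.one_mul, Matrix.mul_one] at hg
  haveI := H.nonempty_right
  exact kron_right_cancel (fun e => H.gB.det_ne (by rw [e, Matrix.det_zero])) hg

set_option maxHeartbeats 800000 in
/-- An element carrying a root element to a Kronecker product is one. -/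
theorem tens_of_conj (hS : Small JA QB JB M) {g : GL (α × β) F} (hg : g ∈ M) {w r : β → F} {x : GL (α × β) F}
    (hx : IsRoot JA QB JB M w r x) (h : Tens (g * x * g⁻¹).1) : Tens g.1 := by
  classical
  haveI := H.nonempty_left
  haveI := H.nonempty_right
  obtain ⟨p, hp⟩ := CharP.exists F
  haveI : Fact p.Prime := ⟨(CharP.char_is_prime_or_zero F p).resolve_right (CharP.char_ne_zero_of_finite F p)⟩
  obtain ⟨hpl, hxM, hxv⟩ := hx
  obtain ⟨K, hK⟩ : ∃ K, K = g.1 * Np JA JB w r (1 : Matrix α α F) * (g⁻¹).1 := ⟨_, rfl⟩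
  have hkv : (g * x * g⁻¹).1 = 1 + K := by
    rw [Units.val_mul, Units.val_mul, hxv, Matrix.mul_add, Matrix.mul_one, Matrix.add_mul, g.mul_inv, hK]
  have hKK : K * K = 0 := by
    rw [hK, Matrix.mul_assoc, Matrix.mul_assoc, ← Matrix.mul_assoc (g⁻¹).1, ← Matrix.mul_assoc (g⁻¹).1, g.inv_mul,
      Matrix.one_mul, ← Matrix.mul_assoc (Np JA JB w r (1 : Matrix α α F)), H.np_sq hpl, Matrix.zero_mul,
      Matrix.mul_zero]
  have hrk : Module.finrank F (LinearMap.range K.mulVecLin) ≤ 2 * Fintype.card α := hK ▸ H.finrank_conj hpl g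
  obtain ⟨S, T, hST⟩ := h
  have hkM : g * x * g⁻¹ ∈ M := M.mul_mem (M.mul_mem hg hxM) (M.inv_mem hg)
  have hne : K ≠ 0 := by
    intro e
    obtain ⟨w', r', v, -, -, ww', rw', -, -, -, -, -, -, -, -⟩ := exists_frame H.gB.nd H.dimB hpl
    have h0 : Np JA JB w r (1 : Matrix α α F) = 0 := by
      have := congrArg (fun X => (g⁻¹).1 * X * g.1) (hK.symm.trans e)
      simp only [Matrix.mul_assoc, g.inv_mul, Matrix.mul_one, Matrix.zero_mul, Matrix.mul_zero] at this
      rwa [← Matrix.mul_assoc, g.inv_mul, Matrix.one_mul] at this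
    have h1 := H.np_mul_kc (α := α) w r w' 1
    rw [h0, Matrix.zero_mul, H.gB.dot_polar, H.gB.dot_polar, rw', ww', zero_smul, one_smul, zero_sub,
      H.gA.adj_one, eq_comm, neg_eq_zero, Matrix.mul_one] at h1
    obtain ⟨i⟩ := H.nonempty_left
    obtain ⟨k, hk⟩ := Function.ne_iff.1 hpl.ne'
    exact hk (by simpa [kc_apply] using congrFun₂ h1 (i, k) i)
  obtain ⟨N, hN | ⟨A, hA, hKA⟩⟩ := nil_split (p := p) H.gA.two hKK (hkv.symm.trans hST)
  · obtain ⟨hN, hKN⟩ := hN
    have hiso := H.iso_right hkM (T := 1 + N) (by rw [hkv, hKN, Matrix.kronecker_add, Matrix.one_kronecker_one])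
    obtain ⟨s, t, hpl2⟩ := iso_nil H.gB hN hiso (fun e => hne (by rw [hKN, e, Matrix.kronecker_zero]))
    obtain ⟨w2, hw2⟩ : ∃ w2, w2 = N *ᵥ s := ⟨_, rfl⟩
    obtain ⟨r2, hr2⟩ : ∃ r2, r2 = N *ᵥ t := ⟨_, rfl⟩
    rw [← hw2, ← hr2] at hpl2
    have hspan : ∀ y, ∃ a b : F, N *ᵥ y = a • w2 + b • r2 := by
      intro y
      by_contra hc
      push Not at hc
      have hli : LinearIndependent F ![w2, r2, N *ᵥ y] := by
        rw [Fintype.linearIndependent_iff]
        intro c hc0
        simp only [Fin.sum_univ_three, Matrix.cons_val_zero, Matrix.cons_val_one, Matrix.cons_val_two,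
          Matrix.head_cons, Matrix.tail_cons] at hc0
        have c2 : c 2 = 0 := by
          by_contra h2
          refine hc (-(c 0) / c 2) (-(c 1) / c 2) (smul_right_injective _ h2 ?_)
          show c 2 • (N *ᵥ y) = c 2 • _
          rw [smul_add, smul_smul, smul_smul, mul_div_cancel₀ _ h2, mul_div_cancel₀ _ h2]
          linear_combination (norm := module) hc0
        rw [c2, zero_smul, add_zero] at hc0
        have c1 : c 1 = 0 := by
          by_contra h1
          refine hpl2.indep (-(c 0) / c 1) (smul_right_injective _ h1 ?_)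
          show c 1 • r2 = c 1 • _
          rw [smul_smul, mul_div_cancel₀ _ h1]
          linear_combination (norm := module) hc0
        rw [c1, zero_smul, add_zero, smul_eq_zero, or_iff_left hpl2.ne] at hc0
        intro i
        fin_cases i <;> assumption
      have hall : LinearIndependent F fun q : α × Fin 3 => ten (Pi.single q.1 (1 : F)) (![w2, r2, N *ᵥ y] q.2) :=
        li_ten_left hli
      have hle : Submodule.span F (Set.range fun q : α × Fin 3 => ten (Pi.single q.1 (1 : F)) (![w2, r2, N *ᵥ y] q.2))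
          ≤ LinearMap.range K.mulVecLin := by
        rw [Submodule.span_le]
        rintro _ ⟨⟨i, j⟩, rfl⟩
        refine ⟨ten (Pi.single i 1) (![s, t, y] j), ?_⟩
        rw [Matrix.mulVecLin_apply, hKN, kron_mulVec_ten, Matrix.one_mulVec]
        fin_cases j <;> simp [hw2, hr2]
      have h3 := Submodule.finrank_mono hle
      rw [finrank_span_eq_card hall, Fintype.card_prod, Fintype.card_fin] at h3
      have := H.three
      omega
    choose φ₁ φ₂ hφ using hspan
    have hN1 : N = Matrix.vecMulVec w2 (fun l => φ₁ (Pi.single l 1)) + Matrix.vecMulVec r2 (fun l => φ₂ (Pi.single l 1)) := by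
      ext k l
      have := congrFun (hφ (Pi.single l 1)) k
      rw [Matrix.mulVec_single_one] at this
      simp only [Matrix.col_apply, Pi.add_apply, Pi.smul_apply, smul_eq_mul] at this
      rw [Matrix.add_apply, Matrix.vecMulVec_apply, Matrix.vecMulVec_apply, this]
      ring
    obtain ⟨φ, hφd⟩ : ∃ φ : β → F, φ = fun l => φ₁ (Pi.single l 1) := ⟨_, rfl⟩
    obtain ⟨ψ, hψd⟩ : ∃ ψ : β → F, ψ = fun l => φ₂ (Pi.single l 1) := ⟨_, rfl⟩
    rw [← hφd, ← hψd] at hN1
    have hKN2 : K = kc α w2 * kr α φ + kc α r2 * kr α ψ := by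
      rw [hKN, hN1, Matrix.kronecker_add, ← kc_mul_kr, ← kc_mul_kr]
    have himg : ∀ u : β → F, ∀ Z : Matrix (α × β) α F, Np JA JB w r 1 * Z = kc α u →
        ∃ A B : Matrix α α F, g.1 * kc α u = kc α w2 * A + kc α r2 * B := by
      intro u Z hZ
      refine ⟨kr α φ * (g.1 * Z), kr α ψ * (g.1 * Z), ?_⟩
      have e : K * (g.1 * Z) = g.1 * kc α u := by
        rw [hK, Matrix.mul_assoc (g.1 * _), ← Matrix.mul_assoc (g⁻¹).1, g.inv_mul, Matrix.one_mul, Matrix.mul_assoc,
          hZ]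
      rw [← e, hKN2, Matrix.add_mul, Matrix.mul_assoc, Matrix.mul_assoc]
    obtain ⟨w', r', v, -, -, ww', rw', wr', rr', -, -, -, -, -, -⟩ := exists_frame H.gB.nd H.dimB hpl
    obtain ⟨A1, B1, e1⟩ := himg w (kc α r') (by
      rw [H.np_mul_kc, H.gB.dot_polar, H.gB.dot_polar, rr', wr', zero_smul, one_smul, sub_zero, Matrix.mul_one])
    obtain ⟨A2, B2, e2⟩ := himg r (-kc α w') (by
      rw [Matrix.mul_neg, H.np_mul_kc, H.gB.dot_polar, H.gB.dot_polar, rw', ww', zero_smul, one_smul, zero_sub,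
        neg_neg, H.gA.adj_one, Matrix.mul_one])
    obtain ⟨T₁, hT₁, c, hc, m1, m2⟩ := exists_move_plane H.gB.nd H.dimB hpl2 hpl
    obtain ⟨n, hnM, hn⟩ := H.inM_elB hT₁
    have hn1 : ∀ A B : Matrix α α F, n.1 * (kc α w2 * A + kc α r2 * B) = kc α w * A + kc α r * (c • B) := by
      intro A B
      rw [hn, Matrix.mul_add, ← Matrix.mul_assoc, ← Matrix.mul_assoc, kron_mul_kc, kron_mul_kc, Matrix.mul_one,
        Matrix.mul_one]
      change kc α (ap T₁ w2) * A + kc α (ap T₁ r2) * B = _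
      rw [m1, m2, kc_smul, Matrix.smul_mul, Matrix.mul_smul]
    have hT2 : Tens (n * g).1 := H.tens_of_stab_plane hS (M.mul_mem hnM hg) hpl
      ⟨A1, c • B1, by rw [Units.val_mul, Matrix.mul_assoc, e1, hn1]⟩
      ⟨A2, c • B2, by rw [Units.val_mul, Matrix.mul_assoc, e2, hn1]⟩
    have := tens_mul (tens_inv ⟨1, (T₁ : GL β F).1, hn⟩ n.mul_inv H.nonempty_left H.nonempty_right) hT2
    rwa [← Units.val_mul, inv_mul_cancel_left] at this
  · exfalso
    have hiso := H.iso_left hkM (S := 1 + A) (by rw [hkv, hKA, Matrix.add_kronecker, Matrix.one_kronecker_one])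
    obtain ⟨s, t, hpl2⟩ := iso_nil H.gA hA hiso (fun e => hne (by rw [hKA, e, Matrix.zero_kronecker]))
    have hli : LinearIndependent F ![A *ᵥ s, A *ᵥ t] :=
      (LinearIndependent.pair_iff' hpl2.ne).2 fun a e => hpl2.indep a e.symm
    have hall : LinearIndependent F fun q : Fin 2 × β => ten (![A *ᵥ s, A *ᵥ t] q.1) (Pi.single q.2 (1 : F)) :=
      li_ten_right hli
    have hle : Submodule.span F (Set.range fun q : Fin 2 × β => ten (![A *ᵥ s, A *ᵥ t] q.1) (Pi.single q.2 (1 : F)))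
        ≤ LinearMap.range K.mulVecLin := by
      rw [Submodule.span_le]
      rintro _ ⟨⟨i, j⟩, rfl⟩
      refine ⟨ten (![s, t] i) (Pi.single j 1), ?_⟩
      rw [Matrix.mulVecLin_apply, hKA, kron_mulVec_ten, Matrix.one_mulVec]
      fin_cases i <;> simp
    have h3 := Submodule.finrank_mono hle
    rw [finrank_span_eq_card hall, Fintype.card_prod, Fintype.card_fin] at h3
    have := H.lt
    omega

/-- A pair generating a `p`-group. -/
theorem tens_of_pgroup (hS : Small JA QB JB M) {p : ℕ} [Fact p.Prime] {g x x' : GL (α × β) F} (hg : g ∈ M)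
    {w r w' r' : β → F} (hx : IsRoot JA QB JB M w r x) (hx' : IsRoot JA QB JB M w' r' x')
    (hP : IsPGroup p (Subgroup.closure ({x', g * x * g⁻¹} : Set (GL (α × β) F)))) : Tens g.1 := by
  suffices main : ∀ n : ℕ, ∀ (g x : GL (α × β) F) (w r : β → F), g ∈ M → IsRoot JA QB JB M w r x →
      (Subgroup.closure ({x', g * x * g⁻¹} : Set (GL (α × β) F)) : Set (GL (α × β) F)).ncard ≤ n →
      IsPGroup p (Subgroup.closure ({x', g * x * g⁻¹} : Set (GL (α × β) F))) → Tens g.1 from
    main _ g x w r hg hx le_rfl hP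
  intro n
  induction n using Nat.strong_induction_on with
  | _ n ih =>
    intro g x w r hg hx hn hP
    obtain ⟨k, hk⟩ : ∃ k, k = g * x * g⁻¹ := ⟨_, rfl⟩
    rw [← hk] at hn hP
    have hkM : k ∈ M := hk ▸ M.mul_mem (M.mul_mem hg hx.2.1) (M.inv_mem hg)
    refine H.tens_of_conj hS hg hx ?_
    rw [← hk]
    by_cases hcomm : k * x' * k⁻¹ = x'
    · exact H.tens_of_conj hS hkM hx' (by rw [hcomm]; exact H.root_tens hx')
    set G₀ := Subgroup.closure ({x', k} : Set (GL (α × β) F)) with hG₀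
    set G₁ := Subgroup.closure ({x', k * x' * k⁻¹} : Set (GL (α × β) F)) with hG₁
    have hxG : x' ∈ G₀ := Subgroup.subset_closure (Set.mem_insert _ _)
    have hkG : k ∈ G₀ := Subgroup.subset_closure (Set.mem_insert_of_mem _ (Set.mem_singleton _))
    have hle : G₁ ≤ G₀ := by
      rw [hG₁, Subgroup.closure_le]
      rintro y (rfl | rfl)
      · exact hxG
      · exact G₀.mul_mem (G₀.mul_mem hkG hxG) (G₀.inv_mem hkG)
    have hne : G₁ ≠ G₀ := by
      intro e
      haveI : Group.IsNilpotent G₀ := hP.isNilpotent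
      rcases eq_top_or_exists_le_coatom (Subgroup.zpowers (⟨x', hxG⟩ : G₀)) with htop | ⟨Mx, hMx, hle'⟩
      · have hk0 : (⟨k, hkG⟩ : G₀) ∈ Subgroup.zpowers (⟨x', hxG⟩ : G₀) := by rw [htop]; trivial
        obtain ⟨m, hm⟩ := Subgroup.mem_zpowers_iff.1 hk0
        have hm' : x' ^ m = k := by simpa using congrArg Subtype.val hm
        exact hcomm (by rw [← hm', (Commute.refl x').zpow_left m |>.eq, mul_inv_cancel_right])
      · haveI : Mx.Normal := Subgroup.NormalizerCondition.normal_of_coatom Mx normalizerCondition_of_isNilpotent hMx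
        have hxm : (⟨x', hxG⟩ : G₀) ∈ Mx := hle' (Subgroup.mem_zpowers _)
        have hconj := Subgroup.Normal.conj_mem (H := Mx) inferInstance _ hxm ⟨k, hkG⟩
        have hsub : G₁ ≤ Mx.map G₀.subtype := by
          rw [hG₁, Subgroup.closure_le]
          rintro y (rfl | rfl)
          · exact ⟨_, hxm, rfl⟩
          · exact ⟨_, hconj, rfl⟩
        refine hMx.1 (top_unique fun y _ => ?_)
        obtain ⟨z, hz, hz'⟩ := hsub (show (y : GL (α × β) F) ∈ G₁ by rw [e]; exact y.2)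
        rwa [← show z = y from Subtype.ext hz']
    have hlt : (G₁ : Set (GL (α × β) F)).ncard < (G₀ : Set (GL (α × β) F)).ncard :=
      Set.ncard_lt_ncard (lt_of_le_of_ne (a := (G₁ : Set (GL (α × β) F))) hle
        (fun e => hne (SetLike.coe_injective e))) (Set.toFinite _)
    exact ih _ (lt_of_lt_of_le hlt hn) k x' w' r' hkM hx' le_rfl (hP.to_le hle)

set_option maxHeartbeats 1600000 in
/-- The involution of a pair which is not a `p`-group. -/
theorem exists_space (hS : Small JA QB JB M) {g x x' : GL (α × β) F} (hg : g ∈ M) {w r w' r' : β → F}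
    (hx : IsRoot JA QB JB M w r x) (hx' : IsRoot JA QB JB M w' r' x') (hnt : ¬ Tens g.1) :
    ∃ L : Submodule F (β → F), w' ∈ L ∧ r' ∈ L ∧ Module.finrank F L ≤ 4 ∧
      (∀ y ∈ L, QuadraticMap.polar ⇑QB w' y = 0 → QuadraticMap.polar ⇑QB r' y = 0 →
        y ∈ Submodule.span F ({w', r'} : Set (β → F))) ∧
      ∀ (s : α × β → F) (i : α),
        (fun l => ((g.1 * Np JA JB w r (1 : Matrix α α F) * (g⁻¹).1) *ᵥ s) (i, l)) ∈ L := by
  classical
  haveI := H.nonempty_left
  haveI := H.nonempty_right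
  obtain ⟨p, hp⟩ := CharP.exists F
  haveI hp0 : Fact p.Prime := ⟨(CharP.char_is_prime_or_zero F p).resolve_right (CharP.char_ne_zero_of_finite F p)⟩
  have h2 := H.gA.two
  have hp2 : p ≠ 2 := fun e => by subst e; exact h2 (CharP.cast_eq_zero F 2)
  obtain ⟨K, hKdef⟩ : ∃ K, K = g.1 * Np JA JB w r (1 : Matrix α α F) * (g⁻¹).1 := ⟨_, rfl⟩
  rw [← hKdef]
  obtain ⟨X, hXdef⟩ : ∃ X, X = Np JA JB w' r' (1 : Matrix α α F) := ⟨_, rfl⟩
  obtain ⟨k, hk⟩ : ∃ k, k = g * x * g⁻¹ := ⟨_, rfl⟩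
  have hkM : k ∈ M := hk ▸ M.mul_mem (M.mul_mem hg hx.2.1) (M.inv_mem hg)
  have hkv : k.1 = 1 + K := by
    rw [hk, Units.val_mul, Units.val_mul, hx.2.2, Matrix.mul_add, Matrix.mul_one, Matrix.add_mul, g.mul_inv, hKdef]
  have hxv : x'.1 = 1 + X := by rw [hx'.2.2, hXdef]
  have hXX : X * X = 0 := by rw [hXdef, H.np_sq hx'.1]
  have hKK : K * K = 0 := by
    rw [hKdef, Matrix.mul_assoc, Matrix.mul_assoc, ← Matrix.mul_assoc (g⁻¹).1, ← Matrix.mul_assoc (g⁻¹).1, g.inv_mul,
      Matrix.one_mul, ← Matrix.mul_assoc (Np JA JB w r (1 : Matrix α α F)), H.np_sq hx.1, Matrix.zero_mul,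
      Matrix.mul_zero]
  have hnp : ¬ IsPGroup p (Subgroup.closure ({x', k} : Set (GL (α × β) F))) := fun hP =>
    hnt (H.tens_of_pgroup hS hg hx hx' (hk ▸ hP))
  obtain ⟨z, hz, hz2, hz1⟩ := QuadPairInvol.exists_invol hp2 hXX hKK hxv hkv hnp
  obtain ⟨cX, cK⟩ := QuadPairInvol.invol_comm h2 hXX hKK hxv hkv hz hz2
  have hzr := QuadPairInvol.sub_one_mem_range hXX hKK hxv hkv hz
  have hzM : z ∈ M := (Subgroup.closure_le _).2 (by rintro y (rfl | rfl); exacts [hx'.2.1, hkM]) hz
  obtain ⟨w'', r'', v, -, -, ww', rw', wr', rr', -, wv, rv, -, -, qv⟩ := exists_frame H.gB.nd H.dimB hx'.1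
  obtain ⟨hpw, hpr, hpwr, hpne, -⟩ := hx'.1
  -- `z` stabilises the plane
  have himg : ∀ Z : Matrix (α × β) α F, X * Z =
      kc α w' * (kr α (JB *ᵥ r') * Z) + kc α r' * (-(kr α (JB *ᵥ w') * Z)) := fun Z => by
    rw [hXdef, Np, H.gA.adj_one, Matrix.mul_one, Matrix.mul_one, Matrix.sub_mul, Matrix.mul_assoc, Matrix.mul_assoc,
      Matrix.mul_neg, sub_eq_add_neg]
  have hzw : z.1 * kc α w' = X * (z.1 * kc α r'') := by
    rw [← Matrix.mul_assoc, ← cX, Matrix.mul_assoc, hXdef, H.np_mul_kc, H.gB.dot_polar, H.gB.dot_polar, rr', wr',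
      zero_smul, one_smul, sub_zero, Matrix.mul_one]
  have hzr' : z.1 * kc α r' = X * (z.1 * -kc α w'') := by
    rw [← Matrix.mul_assoc, ← cX, Matrix.mul_assoc, hXdef, Matrix.mul_neg, H.np_mul_kc, H.gB.dot_polar,
      H.gB.dot_polar, rw', ww', zero_smul, one_smul, zero_sub, neg_neg, H.gA.adj_one, Matrix.mul_one]
  obtain ⟨S, T, hST⟩ := H.tens_of_stab_plane hS hzM hx'.1 ⟨_, _, hzw.trans (himg _)⟩ ⟨_, _, hzr'.trans (himg _)⟩
  -- the images of `X` and `K` are totally singular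
  have hskew : ∀ {y : GL (α × β) F} {N : Matrix (α × β) (α × β) F}, y ∈ M → y.1 = 1 + N → N * N = 0 →
      (∀ a b, QuadraticMap.polar ⇑Q (N *ᵥ a) b = -QuadraticMap.polar ⇑Q a (N *ᵥ b)) ∧
      ∀ a b, QuadraticMap.polar ⇑Q (N *ᵥ a) (N *ᵥ b) = 0 := by
    intro y N hy hyv hN
    have hP : ∀ a b, QuadraticMap.polar ⇑Q (N *ᵥ a) b + QuadraticMap.polar ⇑Q a (N *ᵥ b) +
        QuadraticMap.polar ⇑Q (N *ᵥ a) (N *ᵥ b) = 0 := by
      intro a b
      have e := CfsgLib.Orth.ap_b (⟨y, H.iso_mem hy⟩ : CfsgLib.Orth.Grp Q) a b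
      change QuadraticMap.polar ⇑Q (y.1 *ᵥ a) (y.1 *ᵥ b) = _ at e
      simp only [hyv, Matrix.add_mulVec, Matrix.one_mulVec, b_add_left, b_add_right] at e
      linear_combination e
    have h0 : ∀ a b, QuadraticMap.polar ⇑Q (N *ᵥ a) (N *ᵥ b) = 0 := fun a b => by
      have := hP a (N *ᵥ b)
      rwa [Matrix.mulVec_mulVec b N N, hN, Matrix.zero_mulVec, b_zero_right, b_zero_right, add_zero, add_zero] at this
    exact ⟨fun a b => eq_neg_of_add_eq_zero_left (by simpa [h0 a b] using hP a b), h0⟩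
  obtain ⟨skX, tsX⟩ := hskew hx'.2.1 hxv hXX
  obtain ⟨skK, tsK⟩ := hskew hkM hkv hKK
  have zisoB : ∀ a b, QuadraticMap.polar ⇑Q (z.1 *ᵥ a) (z.1 *ᵥ b) = QuadraticMap.polar ⇑Q a b := fun a b =>
    CfsgLib.Orth.ap_b (⟨z, H.iso_mem hzM⟩ : CfsgLib.Orth.Grp Q) a b
  have zz : ∀ a, z.1 *ᵥ (z.1 *ᵥ a) = a := fun a => by
    rw [Matrix.mulVec_mulVec, ← Units.val_mul, hz2, Units.val_one, Matrix.one_mulVec]
  have zsym : ∀ a b, QuadraticMap.polar ⇑Q (z.1 *ᵥ a) b = QuadraticMap.polar ⇑Q a (z.1 *ᵥ b) := fun a b => by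
    conv_lhs => rw [← zz b]
    rw [zisoB]
  -- the decomposition of the minus space
  have hdec : ∀ t, ∃ a b, t - z.1 *ᵥ t = X *ᵥ a + K *ᵥ b ∧ z.1 *ᵥ (K *ᵥ b) = -(K *ᵥ b) := by
    intro t
    have := hzr ⟨t, rfl⟩
    obtain ⟨_, ⟨a, rfl⟩, _, ⟨b, rfl⟩, e⟩ := Submodule.mem_sup.1 this
    simp only [Matrix.mulVecLin_apply, Matrix.sub_mulVec, Matrix.one_mulVec] at e
    refine ⟨(-2 : F)⁻¹ • (a - z.1 *ᵥ a), (-2 : F)⁻¹ • (b - z.1 *ᵥ b), ?_, ?_⟩
    · have e' := congrArg (fun y => y - z.1 *ᵥ y) e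
      simp only [Matrix.mulVec_add, Matrix.mulVec_sub, zz] at e'
      simp only [Matrix.mulVec_smul, Matrix.mulVec_sub, Matrix.mulVec_mulVec, ← cX, ← cK]
      simp only [← Matrix.mulVec_mulVec]
      rw [← smul_add, eq_inv_smul_iff₀ (neg_ne_zero.2 h2)]
      linear_combination (norm := module) -e'
    · have hc : ∀ y, z.1 *ᵥ (K *ᵥ y) = K *ᵥ (z.1 *ᵥ y) := fun y => by
        rw [Matrix.mulVec_mulVec, Matrix.mulVec_mulVec, cK]
      simp only [Matrix.mulVec_smul, Matrix.mulVec_sub, hc, zz]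
      rw [← smul_neg, neg_sub]
  have key : ∀ t, X *ᵥ t = 0 → ∃ a, t - z.1 *ᵥ t = X *ᵥ a := by
    intro t ht
    obtain ⟨a, b, e, hb⟩ := hdec t
    refine ⟨a, ?_⟩
    suffices h0 : K *ᵥ b = 0 by rw [e, h0, add_zero]
    have hXb : X *ᵥ (K *ᵥ b) = 0 := by
      have := congrArg (X *ᵥ ·) e
      simp only [Matrix.mulVec_sub, Matrix.mulVec_add, Matrix.mulVec_mulVec _ X z.1, ← cX, ← Matrix.mulVec_mulVec _ z.1 X,
        ht, Matrix.mulVec_zero, sub_zero, Matrix.mulVec_mulVec _ X X, hXX, Matrix.zero_mulVec, zero_add] at this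
      exact this.symm
    refine H.nondeg _ fun s => ?_
    obtain ⟨a', b', e', -⟩ := hdec s
    have h1 : QuadraticMap.polar ⇑Q (K *ᵥ b) (s - z.1 *ᵥ s) = 2 * QuadraticMap.polar ⇑Q (K *ᵥ b) s := by
      rw [b_sub_right, ← zsym, hb, ← neg_one_smul F (K *ᵥ b), b_smul_left]
      ring
    rw [e', b_add_right, tsK, add_zero, b_comm, skX, hXb, b_zero_right, neg_zero, eq_comm, mul_eq_zero] at h1
    exact h1.resolve_left h2
  -- the first factor is a scalar
  obtain ⟨T', hT'⟩ : ∃ T', z.1 = (1 : Matrix α α F) ⊗ₖ T' := by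
    have hval : ∀ a, kr α (JB *ᵥ v) *ᵥ (z.1 *ᵥ ten a v) = (2 * QB v) • a := by
      intro a
      have hXv : X *ᵥ ten a v = 0 := by
        rw [← kc_mulVec, Matrix.mulVec_mulVec, hXdef, H.np_mul_kc, H.gB.dot_polar, H.gB.dot_polar, wv, rv, zero_smul,
          zero_smul, sub_zero, Matrix.zero_mulVec]
      obtain ⟨b, hb⟩ := key _ hXv
      have h0 : kr α (JB *ᵥ v) *ᵥ (X *ᵥ b) = 0 := by
        rw [Matrix.mulVec_mulVec, hXdef, Np]
        simp only [Matrix.mul_sub, Matrix.mul_assoc, kr_mul_kc_mul, H.gB.dot_polar, b_comm v w', b_comm v r', wv, rv,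
          zero_smul, sub_zero, Matrix.zero_mulVec]
      have := congrArg (kr α (JB *ᵥ v) *ᵥ ·) hb
      simp only [h0, Matrix.mulVec_sub, sub_eq_zero] at this
      rw [← this, ← kc_mulVec, Matrix.mulVec_mulVec, kr_mul_kc, H.gB.self, Matrix.smul_mulVec, Matrix.one_mulVec]
    have hS' : ((JB *ᵥ v) ⬝ᵥ (T *ᵥ v)) • S = (2 * QB v) • (1 : Matrix α α F) := by
      refine Matrix.ext_iff_mulVec.2 fun a => ?_
      rw [Matrix.smul_mulVec, Matrix.smul_mulVec, Matrix.one_mulVec, ← hval a, hST, kron_mulVec_ten, ← kc_mulVec,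
        Matrix.mulVec_mulVec, kr_mul_kc, Matrix.smul_mulVec, Matrix.one_mulVec]
    obtain ⟨c, hc⟩ : ∃ c, c = (JB *ᵥ v) ⬝ᵥ (T *ᵥ v) := ⟨_, rfl⟩
    rw [← hc] at hS'
    have hne : c ≠ 0 := fun e => by
      obtain ⟨i⟩ := H.nonempty_left
      rw [e, zero_smul] at hS'
      have := congrFun₂ hS' i i
      simp [h2, qv] at this
    refine ⟨(c⁻¹ * (2 * QB v)) • T, ?_⟩
    rw [hST, Matrix.kronecker_smul, ← Matrix.smul_kronecker, mul_smul, ← hS', smul_smul, inv_mul_cancel₀ hne,
      one_smul]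
  have hone : (1 : Matrix α α F) ≠ 0 := one_ne_zero
  have hTT : T' * T' = 1 := by
    refine kron_left_cancel hone ?_
    have := congrArg Units.val hz2
    rw [Units.val_mul, Units.val_one, hT', ← Matrix.mul_kronecker_mul, Matrix.one_mul] at this
    rw [this, Matrix.one_kronecker_one]
  have hTiso := H.iso_right hzM hT'
  have TT : ∀ a, T' *ᵥ (T' *ᵥ a) = a := fun a => by rw [Matrix.mulVec_mulVec, hTT, Matrix.one_mulVec]
  have Tsym : ∀ a b, QuadraticMap.polar ⇑QB (T' *ᵥ a) b = QuadraticMap.polar ⇑QB a (T' *ᵥ b) := fun a b => by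
    conv_lhs => rw [← TT b]
    rw [H.gB.pol, H.gB.pol, ← Matrix.vecMul_transpose, ← Matrix.dotProduct_mulVec]
    simp only [Matrix.mulVec_mulVec]
    rw [show T'ᵀ * (JB * (T' * T')) = T'ᵀ * JB by rw [hTT, Matrix.mul_one],
      show T'ᵀ * JB = JB * T' by
        calc T'ᵀ * JB = T'ᵀ * JB * (T' * T') := by rw [hTT, Matrix.mul_one]
          _ = JB * T' := by rw [← Matrix.mul_assoc, hTiso]]
  obtain ⟨N, hNdef⟩ : ∃ N, N = Matrix.vecMulVec w' (JB *ᵥ r') - Matrix.vecMulVec r' (JB *ᵥ w') := ⟨_, rfl⟩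
  have hXN : X = (1 : Matrix α α F) ⊗ₖ N := by rw [hXdef, H.np_one, hNdef]
  have hN : ∀ y, N *ᵥ y = QuadraticMap.polar ⇑QB r' y • w' - QuadraticMap.polar ⇑QB w' y • r' := fun y => by
    rw [hNdef, Matrix.sub_mulVec, Matrix.vecMulVec_mulVec, Matrix.vecMulVec_mulVec, op_smul_eq_smul, op_smul_eq_smul,
      H.gB.dot_polar, H.gB.dot_polar]
  have hcT : ∀ y, T' *ᵥ (N *ᵥ y) = N *ᵥ (T' *ᵥ y) := fun y => by
    rw [Matrix.mulVec_mulVec, Matrix.mulVec_mulVec]
    congr 1
    refine kron_left_cancel hone ?_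
    have := cX
    rwa [hXN, hT', ← Matrix.mul_kronecker_mul, ← Matrix.mul_kronecker_mul, Matrix.one_mul] at this
  obtain ⟨e, he⟩ : ∃ e, e = QuadraticMap.polar ⇑QB r' (T' *ᵥ r'') := ⟨_, rfl⟩
  have hTw : T' *ᵥ w' = e • w' := by
    have h1 := hcT r''
    rw [hN, hN, rr', wr', one_smul, zero_smul, sub_zero, ← he] at h1
    obtain ⟨b, hb⟩ : ∃ b, b = QuadraticMap.polar ⇑QB w' (T' *ᵥ r'') := ⟨_, rfl⟩
    rw [← hb] at h1
    have h0 := congrArg (QuadraticMap.polar ⇑QB r'') h1
    rw [b_comm r'' (T' *ᵥ w'), Tsym, ← hb, b_sub_right, b_smul_right, b_smul_right, b_comm r'' w', wr', b_comm r'' r',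
      rr'] at h0
    have hb0 : (2 : F) * b = 0 := by linear_combination h0
    rw [(mul_eq_zero.1 hb0).resolve_left h2, zero_smul, sub_zero] at h1
    exact h1
  have hTr : T' *ᵥ r' = e • r' := by
    have h1 := hcT w''
    rw [hN, hN, rw', ww', zero_smul, one_smul, zero_sub, Matrix.mulVec_neg] at h1
    obtain ⟨b, hb⟩ : ∃ b, b = QuadraticMap.polar ⇑QB r' (T' *ᵥ w'') := ⟨_, rfl⟩
    obtain ⟨a, ha⟩ : ∃ a, a = QuadraticMap.polar ⇑QB w' (T' *ᵥ w'') := ⟨_, rfl⟩
    rw [← hb, ← ha] at h1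
    have ha' : a = e := by
      rw [ha, ← Tsym, hTw, b_smul_left, ww', mul_one]
    have h0 := congrArg (QuadraticMap.polar ⇑QB w'') h1
    rw [← neg_one_smul F (T' *ᵥ r'), b_smul_right, b_comm w'' (T' *ᵥ r'), Tsym, ← hb, b_sub_right, b_smul_right,
      b_smul_right, b_comm w'' w', ww', b_comm w'' r', rw'] at h0
    have hb0 : (2 : F) * b = 0 := by linear_combination -h0
    rw [(mul_eq_zero.1 hb0).resolve_left h2, zero_smul, zero_sub, ha', neg_inj] at h1
    exact h1
  have hkey : ∀ y, QuadraticMap.polar ⇑QB w' y = 0 → QuadraticMap.polar ⇑QB r' y = 0 →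
      y - T' *ᵥ y ∈ Submodule.span F ({w', r'} : Set (β → F)) := by
    intro y h1 h2'
    obtain ⟨i⟩ := H.nonempty_left
    have hXy : X *ᵥ ten (Pi.single i 1) y = 0 := by
      rw [hXN, kron_mulVec_ten, hN, h1, h2']
      ext p; simp [ten]
    obtain ⟨a, ha⟩ := key _ hXy
    have : y - T' *ᵥ y = N *ᵥ fun l => a (i, l) := by
      ext l
      have h0 := congrFun ha (i, l)
      rw [hT', kron_mulVec_ten, Matrix.one_mulVec, hXN] at h0
      simp only [ten, Pi.sub_apply, Pi.single_eq_same, one_mul, Matrix.mulVec, dotProduct, Fintype.sum_prod_type,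
        Matrix.kronecker_apply, Matrix.one_apply, ite_mul, zero_mul, Finset.sum_ite_irrel, Finset.sum_const_zero,
        Finset.sum_ite_eq, Finset.mem_univ, if_true] at h0
      exact h0
    rw [this, hN, sub_eq_add_neg, ← neg_smul]
    exact Submodule.mem_span_pair.2 ⟨_, _, rfl⟩
  have hem : e = -1 := by
    have h1 : T' *ᵥ (T' *ᵥ w') = w' := TT w'
    rw [hTw, Matrix.mulVec_smul, hTw, smul_smul] at h1
    have h3 : (e * e - 1) • w' = 0 := by rw [sub_smul, h1, one_smul, sub_self]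
    have he1 : e * e - 1 = 0 := (smul_eq_zero.1 h3).resolve_right hpne
    rcases mul_eq_zero.1 (show (e - 1) * (e + 1) = 0 by linear_combination he1) with h | h
    · exfalso
      rw [sub_eq_zero] at h
      rw [h, one_smul] at hTw hTr
      have hpi : ∀ y ∈ Submodule.span F ({w', r'} : Set (β → F)), T' *ᵥ y = y := by
        intro y hy
        obtain ⟨a, b, rfl⟩ := Submodule.mem_span_pair.1 hy
        rw [Matrix.mulVec_add, Matrix.mulVec_smul, Matrix.mulVec_smul, hTw, hTr]
      have hfix : ∀ y, y - T' *ᵥ y ∈ Submodule.span F ({w', r'} : Set (β → F)) → T' *ᵥ y = y := by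
        intro y hy
        have := hpi _ hy
        rw [Matrix.mulVec_sub, TT] at this
        have h4 : (2 : F) • (T' *ᵥ y - y) = 0 := by linear_combination (norm := module) this
        exact sub_eq_zero.1 ((smul_eq_zero.1 h4).resolve_left h2)
      have hall : ∀ y, T' *ᵥ y = y := by
        intro y
        have e1 : QuadraticMap.polar ⇑QB w' (y - T' *ᵥ y) = 0 := by
          rw [b_sub_right, ← Tsym, hTw, sub_self]
        have e2 : QuadraticMap.polar ⇑QB r' (y - T' *ᵥ y) = 0 := by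
          rw [b_sub_right, ← Tsym, hTr, sub_self]
        have := hfix _ (hkey _ e1 e2)
        rw [Matrix.mulVec_sub, TT] at this
        have h4 : (2 : F) • (T' *ᵥ y - y) = 0 := by linear_combination (norm := module) this
        exact sub_eq_zero.1 ((smul_eq_zero.1 h4).resolve_left h2)
      exact hz1 (Units.ext (by
        rw [hT', show T' = 1 from Matrix.ext_iff_mulVec.2 fun y => by rw [hall, Matrix.one_mulVec],
          Matrix.one_kronecker_one]
        rfl))
    · exact eq_neg_of_add_eq_zero_left h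
  rw [hem, neg_one_smul] at hTw hTr
  obtain ⟨L, hLdef⟩ : ∃ L, L = LinearMap.range ((1 : Matrix β β F) - T').mulVecLin := ⟨_, rfl⟩
  have hmemL : ∀ {y}, y ∈ L ↔ ∃ s, s - T' *ᵥ s = y := fun {y} => by
    simp [hLdef, LinearMap.mem_range, Matrix.sub_mulVec]
  have hL2 : ∀ y ∈ L, T' *ᵥ y = -y := by
    intro y hy
    obtain ⟨s, rfl⟩ := hmemL.1 hy
    rw [Matrix.mulVec_sub, TT, neg_sub]
  have hhalf : (2 : F) * (2 : F)⁻¹ = 1 := mul_inv_cancel₀ h2
  have hwL : ∀ y, T' *ᵥ y = -y → y ∈ L := fun y hy => hmemL.2 ⟨(2 : F)⁻¹ • y, by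
    rw [Matrix.mulVec_smul, hy, smul_neg, sub_neg_eq_add, ← two_smul F, smul_smul, hhalf, one_smul]⟩
  have hL3 : ∀ y ∈ L, QuadraticMap.polar ⇑QB w' y = 0 → QuadraticMap.polar ⇑QB r' y = 0 →
      y ∈ Submodule.span F ({w', r'} : Set (β → F)) := by
    intro y hy a b
    have := hkey y a b
    rw [hL2 y hy, sub_neg_eq_add, ← two_smul F] at this
    have := Submodule.smul_mem _ ((2 : F)⁻¹) this
    rwa [smul_smul, inv_mul_cancel₀ h2, one_smul] at this
  obtain ⟨l₁, hl₁⟩ : ∃ l, l = (2 : F)⁻¹ • (w'' - T' *ᵥ w'') := ⟨_, rfl⟩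
  obtain ⟨l₂, hl₂⟩ : ∃ l, l = (2 : F)⁻¹ • (r'' - T' *ᵥ r'') := ⟨_, rfl⟩
  have hl : ∀ (a y : β → F), T' *ᵥ a = -a →
      QuadraticMap.polar ⇑QB a ((2 : F)⁻¹ • (y - T' *ᵥ y)) = QuadraticMap.polar ⇑QB a y := by
    intro a y ha
    rw [b_smul_right, b_sub_right, ← Tsym, ha, ← neg_one_smul F a, b_smul_left]
    field_simp
    ring
  have hindep : LinearIndependent F ![w', r', l₁, l₂] := by
    rw [Fintype.linearIndependent_iff]
    intro c hc
    simp only [Fin.sum_univ_four, Matrix.cons_val_zero, Matrix.cons_val_one, Matrix.cons_val_two,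
      Matrix.cons_val_three, Matrix.head_cons, Matrix.tail_cons] at hc
    have h1 := congrArg (QuadraticMap.polar ⇑QB w') hc
    have h3 := congrArg (QuadraticMap.polar ⇑QB r') hc
    simp only [b_add_right, b_smul_right, b_zero_right, b_self_zero hpw, b_self_zero hpr, hpwr, b_comm r' w', hl₁,
      hl₂, hl w' _ hTw, hl r' _ hTr] at h1 h3
    rw [ww', wr'] at h1
    rw [rw', rr'] at h3
    have c2 : c 2 = 0 := by linear_combination h1
    have c3 : c 3 = 0 := by linear_combination h3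
    rw [c2, c3, zero_smul, zero_smul, add_zero, add_zero] at hc
    have c1 : c 1 = 0 := by
      by_contra hh
      refine hx'.1.indep (-(c 0) / c 1) (smul_right_injective _ hh ?_)
      show c 1 • r' = c 1 • _
      rw [smul_smul, mul_div_cancel₀ _ hh]
      linear_combination (norm := module) hc
    rw [c1, zero_smul, add_zero, smul_eq_zero, or_iff_left hpne] at hc
    intro i
    fin_cases i <;> assumption
  refine ⟨L, hwL _ hTw, hwL _ hTr, ?_, hL3, ?_⟩
  · -- at most four dimensions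
    let f : L →ₗ[F] F × F :=
      ((QuadraticMap.polarBilin QB w').comp L.subtype).prod ((QuadraticMap.polarBilin QB r').comp L.subtype)
    have hker : Module.finrank F (LinearMap.ker f) ≤ 2 := by
      have hle : (LinearMap.ker f).map L.subtype ≤ Submodule.span F ({w', r'} : Set (β → F)) := by
        rintro _ ⟨⟨y, hy⟩, hy', rfl⟩
        have h0 : f ⟨y, hy⟩ = 0 := hy'
        rw [Prod.ext_iff] at h0
        exact hL3 y hy h0.1 h0.2
      have h1 := Submodule.finrank_mono hle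
      rw [Submodule.finrank_map_subtype_eq] at h1
      refine h1.trans ?_
      have := finrank_span_finset_le_card (R := F) ({w', r'} : Finset (β → F))
      rw [Set.finrank, Finset.coe_pair] at this
      exact this.trans Finset.card_le_two
    have h1 := LinearMap.finrank_range_add_finrank_ker f
    have h3 : Module.finrank F (LinearMap.range f) ≤ 2 := by
      refine (Submodule.finrank_le _).trans ?_
      rw [Module.finrank_prod, Module.finrank_self]
    omega
  · -- the image of `K` lies over `L`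
    obtain ⟨V, hVdef⟩ : ∃ V, V = LinearMap.range (1 - z.1).mulVecLin := ⟨_, rfl⟩
    have hV1 : LinearMap.range X.mulVecLin ≤ V := by
      rw [hVdef]
      rintro _ ⟨s, rfl⟩
      refine ⟨(2 : F)⁻¹ • (X *ᵥ s), ?_⟩
      have e1 : z.1 *ᵥ (X *ᵥ s) = -(X *ᵥ s) := by
        rw [hXN, Matrix.mulVec_mulVec, hT', ← Matrix.mul_kronecker_mul, Matrix.one_mul]
        have : T' * N = -N := by
          refine Matrix.ext_iff_mulVec.2 fun y => ?_
          rw [← Matrix.mulVec_mulVec, Matrix.neg_mulVec, hN, Matrix.mulVec_sub, Matrix.mulVec_smul, Matrix.mulVec_smul,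
            hTw, hTr, smul_neg, smul_neg, neg_sub, sub_eq_add_neg, neg_neg, add_comm, sub_eq_add_neg]
        rw [this, ← neg_one_smul F N, Matrix.kronecker_smul, Matrix.smul_mulVec, neg_one_smul]
      rw [Matrix.mulVecLin_apply, Matrix.mulVecLin_apply, Matrix.sub_mulVec, Matrix.one_mulVec, Matrix.mulVec_smul,
        e1, smul_neg, sub_neg_eq_add, ← two_smul F, smul_smul, hhalf, one_smul]
    have hV2 : V ≤ LinearMap.range X.mulVecLin ⊔ (LinearMap.range K.mulVecLin ⊓ V) := by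
      intro y hy
      have : y ∈ LinearMap.range X.mulVecLin ⊔ LinearMap.range K.mulVecLin := by
        rw [hVdef] at hy
        obtain ⟨s, rfl⟩ := hy
        have := neg_mem (hzr ⟨s, rfl⟩)
        simp only [Matrix.mulVecLin_apply] at this ⊢
        rwa [← Matrix.neg_mulVec, neg_sub] at this
      obtain ⟨a, ha, b, hb, rfl⟩ := Submodule.mem_sup.1 this
      refine Submodule.mem_sup.2 ⟨a, ha, b, ⟨hb, ?_⟩, rfl⟩
      have := sub_mem hy (hV1 ha)
      rwa [add_sub_cancel_left] at this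
    have hbig : Fintype.card α * 4 ≤ Module.finrank F V := by
      have hall : LinearIndependent F fun q : α × Fin 4 => ten (Pi.single q.1 (1 : F)) (![w', r', l₁, l₂] q.2) :=
        li_ten_left hindep
      have hle : Submodule.span F (Set.range fun q : α × Fin 4 => ten (Pi.single q.1 (1 : F)) (![w', r', l₁, l₂] q.2))
          ≤ V := by
        rw [Submodule.span_le, hVdef]
        rintro _ ⟨⟨i, j⟩, rfl⟩
        have hmem : ![w', r', l₁, l₂] j ∈ L := by
          fin_cases j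
          · exact hwL _ hTw
          · exact hwL _ hTr
          · simp only [Matrix.cons_val]; rw [hl₁]; exact Submodule.smul_mem _ _ (hmemL.2 ⟨_, rfl⟩)
          · simp only [Matrix.cons_val]; rw [hl₂]; exact Submodule.smul_mem _ _ (hmemL.2 ⟨_, rfl⟩)
        obtain ⟨s, hs⟩ := hmemL.1 hmem
        refine ⟨ten (Pi.single i 1) s, ?_⟩
        show _ = ten (Pi.single i 1) (![w', r', l₁, l₂] j)
        rw [Matrix.mulVecLin_apply, Matrix.sub_mulVec, Matrix.one_mulVec, hT', kron_mulVec_ten, Matrix.one_mulVec,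
          ← hs]
        ext p; simp [ten, mul_sub]
      have h3 := Submodule.finrank_mono hle
      rwa [finrank_span_eq_card hall, Fintype.card_prod, Fintype.card_fin] at h3
    have h1 := Submodule.finrank_mono hV2
    have h3 := Submodule.finrank_add_le_finrank_add_finrank (LinearMap.range X.mulVecLin)
      (LinearMap.range K.mulVecLin ⊓ V)
    have h4 : Module.finrank F (LinearMap.range X.mulVecLin) ≤ 2 * Fintype.card α := hXdef ▸ H.finrank_root hx'.1
    have h5 : Module.finrank F (LinearMap.range K.mulVecLin) ≤ 2 * Fintype.card α := hKdef ▸ H.finrank_conj hx.1 g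
    have heq : LinearMap.range K.mulVecLin ⊓ V = LinearMap.range K.mulVecLin :=
      Submodule.eq_of_le_of_finrank_le inf_le_left (by omega)
    intro s i
    have hs : K *ᵥ s ∈ V := (heq.symm ▸ (LinearMap.mem_range_self K.mulVecLin s)).2
    rw [hVdef] at hs
    obtain ⟨t, ht⟩ := hs
    refine hmemL.2 ⟨fun l => t (i, l), ?_⟩
    ext l
    have h0 := congrFun ht (i, l)
    rw [Matrix.mulVecLin_apply, Matrix.sub_mulVec, Matrix.one_mulVec, hT'] at h0
    simp only [Pi.sub_apply, Matrix.mulVec, dotProduct, Fintype.sum_prod_type, Matrix.kronecker_apply,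
      Matrix.one_apply, ite_mul, one_mul, zero_mul, Finset.sum_ite_irrel, Finset.sum_const_zero, Finset.sum_ite_eq,
      Finset.mem_univ, if_true] at h0 ⊢
    exact h0

set_option maxHeartbeats 800000 in
/-- When the levels are scalars, everything is a Kronecker product. -/
theorem tens_all (hS : Small JA QB JB M) {g : GL (α × β) F} (hg : g ∈ M) : Tens g.1 := by
  classical
  haveI := H.nonempty_left
  haveI := H.nonempty_right
  by_contra hnt
  obtain ⟨w, r, hp⟩ := H.exists_plane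
  obtain ⟨x, hx⟩ := H.exists_root hp
  set K := g.1 * Np JA JB w r (1 : Matrix α α F) * (g⁻¹).1 with hKdef
  obtain ⟨U, hUdef⟩ : ∃ U, U = Submodule.span F (Set.range fun q : (α × β → F) × α =>
      (fun l => (K *ᵥ q.1) (q.2, l) : β → F)) := ⟨_, rfl⟩
  have hplane : ∀ w' r', Plane QB w' r' → ∃ L : Submodule F (β → F), w' ∈ L ∧ r' ∈ L ∧ Module.finrank F L ≤ 4 ∧
      (∀ y ∈ L, QuadraticMap.polar ⇑QB w' y = 0 → QuadraticMap.polar ⇑QB r' y = 0 →
        y ∈ Submodule.span F ({w', r'} : Set (β → F))) ∧ U ≤ L := by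
    intro w' r' hp'
    obtain ⟨x', hx'⟩ := H.exists_root hp'
    obtain ⟨L, a, b, c, d, e⟩ := H.exists_space hS hg hx hx' hnt
    refine ⟨L, a, b, c, d, ?_⟩
    rw [hUdef, Submodule.span_le]
    rintro _ ⟨⟨s, i⟩, rfl⟩
    exact e s i
  -- a singular vector orthogonal to the slices
  obtain ⟨y, hy, hy0, hyU⟩ : ∃ y, QB y = 0 ∧ y ≠ 0 ∧ ∀ u ∈ U, QuadraticMap.polar ⇑QB u y = 0 := by
    by_cases hU : Module.finrank F U ≤ 2
    · have h1 := finrank_orth H.gB.nd U
      have h2 := H.dimB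
      obtain ⟨y, hy, hy0, hyq⟩ := exists_singular (Q := QB) (U := orth QB U) (by omega)
      exact ⟨y, hyq, hy0, fun u hu => mem_orth.1 hy u hu⟩
    exfalso
    obtain ⟨L₀, -, -, hL0, -, hUL⟩ := hplane w r hp
    have hU4 : Module.finrank F U ≤ 4 := (Submodule.finrank_mono hUL).trans hL0
    have hspan : ∀ T : Submodule F (β → F), (∀ u, QB u = 0 → u ∈ T) → T = ⊤ := by
      intro T hT
      obtain ⟨u, hu, hu0⟩ := exists_nonzero_singular (Q := QB) H.dimB
      refine top_unique fun a _ => ?_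
      obtain ⟨u', hu', huu⟩ := exists_partner H.gB.nd hu hu0
      obtain ⟨p, q, z, z1, z2, rfl⟩ := H.gB.partner_decomp hu hu0 hu' huu a
      have e : z = (u' + z + (-QB z) • u) + (-1 : F) • u' + QB z • u := by module
      refine T.add_mem (T.add_mem (T.smul_mem _ (hT u hu)) (T.smul_mem _ (hT u' hu'))) ?_
      rw [e]
      refine T.add_mem (T.add_mem (hT _ ?_) (T.smul_mem _ (hT u' hu'))) (T.smul_mem _ (hT u hu))
      rw [q_add, q_add, q_smul, hu', hu, z2, b_add_left, b_smul_right, b_smul_right, b_comm u' u, huu, b_comm z u, z1]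
      ring
    by_cases h4 : 4 ≤ Module.finrank F U
    · have : U = ⊤ := hspan U fun u hu => by
        by_cases hu0 : u = 0
        · rw [hu0]; exact U.zero_mem
        obtain ⟨r₀, hr₀⟩ := H.exists_plane_at hu hu0
        obtain ⟨L, hwL, -, hL4, -, hUL'⟩ := hplane u r₀ hr₀
        rwa [Submodule.eq_of_le_of_finrank_le hUL' (by omega)]
      have h5 := H.dimB
      rw [this, finrank_top] at hU4
      omega
    have hU3 : Module.finrank F U = 3 := by omega
    -- a singular vector outside `U` and not orthogonal to it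
    obtain ⟨p, hp0, hpU, hpo⟩ : ∃ p, QB p = 0 ∧ p ∉ U ∧ p ∉ orth QB U := by
      have h5 := H.dimB
      have hn1 : U ≠ ⊤ := fun e => by rw [e, finrank_top] at hU3; omega
      have hn2 : orth QB U ≠ ⊤ := fun e => by
        have := finrank_orth H.gB.nd U
        rw [e, finrank_top, hU3] at this
        omega
      obtain ⟨a, ha, ha'⟩ : ∃ a, QB a = 0 ∧ a ∉ U := by
        by_contra hc; push Not at hc; exact hn1 (hspan U hc)
      obtain ⟨b, hb, hb'⟩ : ∃ b, QB b = 0 ∧ b ∉ orth QB U := by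
        by_contra hc; push Not at hc; exact hn2 (hspan _ hc)
      by_cases haO : a ∈ orth QB U
      · by_cases hbU : b ∈ U
        · refine ⟨a + b, ?_, fun h => ha' ((Submodule.add_mem_iff_left _ hbU).1 h),
            fun h => hb' ((Submodule.add_mem_iff_right _ haO).1 h)⟩
          rw [q_add, ha, hb, b_comm, mem_orth.1 haO b hbU]; ring
        · exact ⟨b, hb, hbU, hb'⟩
      · exact ⟨a, ha, ha', haO⟩
    have hpne : p ≠ 0 := fun e => hpU (e ▸ U.zero_mem)
    obtain ⟨D, hDdef⟩ : ∃ D, D = U ⊓ orth QB (Submodule.span F {p}) := ⟨_, rfl⟩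
    have hD : Module.finrank F D ≤ 2 := by
      have hlt : D < U := lt_of_le_of_ne (hDdef ▸ inf_le_left) fun e => hpo (mem_orth.2 fun u hu => by
        have : u ∈ D := e ▸ hu
        rw [hDdef] at this
        rw [b_comm]
        exact mem_orth.1 this.2 p (Submodule.mem_span_singleton_self p))
      have := Submodule.finrank_lt_finrank_of_lt hlt
      omega
    -- every plane through `p` meets `D`
    have hmeet : ∀ s, Plane QB p s → ∃ c ∈ D, c ≠ 0 ∧ QB c = 0 ∧ ∃ a b : F, s = a • p + b • c := by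
      intro s hps
      obtain ⟨L, -, -, -, hL, hUL'⟩ := hplane p s hps
      let f : U →ₗ[F] F × F :=
        ((QuadraticMap.polarBilin QB p).comp U.subtype).prod ((QuadraticMap.polarBilin QB s).comp U.subtype)
      obtain ⟨⟨c, hc⟩, hcm, hc0⟩ := (LinearMap.ker f).exists_mem_ne_zero_of_ne_bot fun e => by
        have h1 := LinearMap.finrank_range_add_finrank_ker f
        have h3 : Module.finrank F (LinearMap.range f) ≤ 2 := by
          refine (Submodule.finrank_le _).trans ?_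
          rw [Module.finrank_prod, Module.finrank_self]
        rw [e, finrank_bot, hU3] at h1
        omega
      have h0 : f ⟨c, hc⟩ = 0 := hcm
      rw [Prod.ext_iff] at h0
      have hcs := hL c (hUL' hc) h0.1 h0.2
      obtain ⟨a, b, hab⟩ := Submodule.mem_span_pair.1 hcs
      have hb : b ≠ 0 := fun e => by
        rw [e, zero_smul, add_zero] at hab
        by_cases ha : a = 0
        · exact hc0 (Subtype.ext (show c = 0 by rw [← hab, ha, zero_smul]))
        · exact hpU (by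
            have := U.smul_mem a⁻¹ (hab.symm ▸ hc)
            rwa [smul_smul, inv_mul_cancel₀ ha, one_smul] at this)
      refine ⟨c, ?_, fun e => hc0 (Subtype.ext e), ?_, -a / b, b⁻¹, ?_⟩
      · rw [hDdef]
        refine ⟨hc, mem_orth.2 fun u hu => ?_⟩
        obtain ⟨t, rfl⟩ := Submodule.mem_span_singleton.1 hu
        rw [b_smul_left, show QuadraticMap.polar ⇑QB p c = 0 from h0.1, mul_zero]
      · rw [← hab, q_add, q_smul, q_smul, hp0, hps.qr, b_smul_left, b_smul_right, hps.bwr]; ring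
      · rw [← hab, smul_add, smul_smul, smul_smul, inv_mul_cancel₀ hb, one_smul, ← add_assoc, ← add_smul]
        rw [show -a / b + b⁻¹ * a = 0 by ring, zero_smul, zero_add]
    obtain ⟨r₀, hr₀⟩ := H.exists_plane_at hp0 hpne
    obtain ⟨p', r', v, -, qr', pp', r0p', pr', r0r', p'r', pv, r0v, p'v, r'v, qv⟩ :=
      exists_frame H.gB.nd H.dimB hr₀
    obtain ⟨f, hf⟩ : ∃ f, f = r₀ + v + (-QB v) • r' := ⟨_, rfl⟩
    have hqf : QB f = 0 := by
      rw [hf, q_add, q_add, q_smul, hr₀.qr, qr', b_add_left, b_smul_right, b_smul_right, r0v, r0r', b_comm v r', r'v]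
      ring
    have hpf : QuadraticMap.polar ⇑QB p f = 0 := by
      rw [hf, b_add_right, b_add_right, b_smul_right, hr₀.bwr, pv, pr']; ring
    have hfr0 : QuadraticMap.polar ⇑QB r₀ f = -QB v := by
      rw [hf, b_add_right, b_add_right, b_smul_right, b_self_zero hr₀.qr, r0v, r0r']; ring
    have hfr' : QuadraticMap.polar ⇑QB r' f = 1 := by
      rw [hf, b_add_right, b_add_right, b_smul_right, b_comm r' r₀, r0r', r'v, b_self_zero qr']; ring
    have hP1 : Plane QB p r' := ⟨hp0, qr', pr', hpne, fun c e => by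
      rw [e, b_smul_right, b_comm r₀ p, hr₀.bwr, mul_zero] at r0r'
      exact zero_ne_one r0r'⟩
    have hP2 : Plane QB p f := ⟨hp0, hqf, hpf, hpne, fun c e => by
      rw [e, b_smul_right, b_comm r₀ p, hr₀.bwr, mul_zero, eq_comm, neg_eq_zero] at hfr0
      exact qv hfr0⟩
    obtain ⟨c1, m1, n1, q1, a1, b1, e1⟩ := hmeet r₀ hr₀
    obtain ⟨c2, m2, n2, q2, a2, b2, e2⟩ := hmeet r' hP1
    obtain ⟨c3, m3, n3, q3, a3, b3, e3⟩ := hmeet f hP2
    have hDp : ∀ c ∈ D, QuadraticMap.polar ⇑QB p c = 0 := fun c hc => by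
      rw [hDdef] at hc
      exact mem_orth.1 hc.2 p (Submodule.mem_span_singleton_self p)
    have hbb : ∀ {a a' b b' : F} {c c' : β → F}, c ∈ D → c' ∈ D →
        QuadraticMap.polar ⇑QB (a • p + b • c) (a' • p + b' • c') = b * b' * QuadraticMap.polar ⇑QB c c' := by
      intro a a' b b' c c' hc hc'
      rw [b_add_left, b_add_right, b_add_right, b_smul_left, b_smul_left, b_smul_left, b_smul_left, b_smul_right,
        b_smul_right, b_smul_right, b_smul_right, b_self_zero hp0, hDp c' hc', b_comm c p, hDp c hc]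
      ring
    have h12 : QuadraticMap.polar ⇑QB c1 c2 ≠ 0 := fun e => by
      rw [e1, e2, hbb m1 m2, e, mul_zero] at r0r'
      exact zero_ne_one r0r'
    have h13 : QuadraticMap.polar ⇑QB c1 c3 ≠ 0 := fun e => by
      rw [e1, e3, hbb m1 m3, e, mul_zero, eq_comm, neg_eq_zero] at hfr0
      exact qv hfr0
    have h23 : QuadraticMap.polar ⇑QB c2 c3 ≠ 0 := fun e => by
      rw [e2, e3, hbb m2 m3, e, mul_zero] at hfr'
      exact zero_ne_one hfr'
    have hli : LinearIndependent F ![c1, c2] := (LinearIndependent.pair_iff' n1).2 fun a e => h12 (by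
      rw [← e, b_smul_right, b_self_zero q1, mul_zero])
    have hs : Submodule.span F (Set.range ![c1, c2]) = D := Submodule.eq_of_le_of_finrank_le (by
      rw [Submodule.span_le]; rintro _ ⟨i, rfl⟩; fin_cases i <;> assumption) (by
      rw [finrank_span_eq_card hli, Fintype.card_fin]; exact hD)
    rw [← hs, Matrix.range_cons_cons_empty] at m3
    obtain ⟨s, t, hst⟩ := Submodule.mem_span_pair.1 m3
    rw [← hst, q_add, q_smul, q_smul, q1, q2, b_smul_left, b_smul_right, mul_zero, mul_zero, zero_add, zero_add] at q3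
    rcases mul_eq_zero.1 q3 with hs0 | h
    · exact h23 (by rw [← hst, hs0, zero_smul, zero_add, b_smul_right, b_self_zero q2, mul_zero])
    · rcases mul_eq_zero.1 h with ht0 | h'
      · exact h13 (by rw [← hst, ht0, zero_smul, add_zero, b_smul_right, b_self_zero q1, mul_zero])
      · exact h12 h'
  -- the conjugate fixes `F^α ⊗ y`
  obtain ⟨hxp, hxM, hxv⟩ := hx
  have hkr : kr α (JB *ᵥ y) * K = 0 := by
    refine Matrix.ext_iff_mulVec.2 fun s => funext fun i => ?_
    rw [← Matrix.mulVec_mulVec, Matrix.zero_mulVec, Pi.zero_apply]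
    have := hyU (fun l => (K *ᵥ s) (i, l)) (by rw [hUdef]; exact Submodule.subset_span ⟨(s, i), rfl⟩)
    rw [← H.gB.dot_polar, H.gB.swap] at this
    rw [← this]
    simp [Matrix.mulVec, dotProduct, Fintype.sum_prod_type, kr_apply, ite_mul, Finset.sum_ite_irrel]
  set k := g * x * g⁻¹ with hk
  have hkM : k ∈ M := M.mul_mem (M.mul_mem hg hxM) (M.inv_mem hg)
  have hkv : k.1 = 1 + K := by
    rw [hk, Units.val_mul, Units.val_mul, hxv, Matrix.mul_add, Matrix.mul_one, Matrix.add_mul, g.mul_inv]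
  have hfix : kr α (JB *ᵥ y) * k.1 = kr α (JB *ᵥ y) := by rw [hkv, Matrix.mul_add, Matrix.mul_one, hkr, add_zero]
  have hfix2 : (k⁻¹).1 * kc α y = kc α y := by
    have hJ : (JA ⊗ₖ JB) * k.1 = (k⁻¹).1ᵀ * (JA ⊗ₖ JB) := by
      conv_lhs => rw [← H.gram (H.iso_mem (M.inv_mem hkM))]
      rw [Matrix.mul_assoc _ (k⁻¹).1, k.inv_mul, Matrix.mul_one]
    have e1 : ((k⁻¹).1 * kc α y)ᵀ * (JA ⊗ₖ JB) = (kc α y)ᵀ * (JA ⊗ₖ JB) := by
      rw [Matrix.transpose_mul, Matrix.mul_assoc, ← hJ, ← Matrix.mul_assoc, H.kc_transpose_mul, Matrix.mul_assoc, hfix]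
    have hd : IsUnit (JA ⊗ₖ JB).det := by
      rw [Matrix.det_kronecker]
      exact (H.gA.isUnit_det.pow _).mul (H.gB.isUnit_det.pow _)
    have e2 := congrArg (· * (JA ⊗ₖ JB)⁻¹) e1
    simp only [Matrix.mul_assoc, Matrix.mul_nonsing_inv _ hd, Matrix.mul_one] at e2
    exact Matrix.transpose_injective e2
  have hkT : Tens (k⁻¹).1 := H.tens_of_stab_w hS (M.inv_mem hkM) hy hy0 (A := 1) (by rw [hfix2, Matrix.mul_one])
  exact hnt (H.tens_of_conj hS hg ⟨hxp, hxM, hxv⟩ (tens_inv hkT k.inv_mul H.nonempty_left H.nonempty_right))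

end Hyp

end CfsgLib.Classical.TensorOrth
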