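import Cfsg.Agent.Lib.Classical.TensorOrth.Algebra
import Cfsg.Agent.Lib.Classical.TensorSymp.Flag

set_option autoImplicit false
set_option linter.unusedSectionVars false

/-!
When the levels are scalars, an element stabilising `F^α ⊗ w` or `F^α ⊗ π` for a singular vector `w` or a
singular plane `π` is a Kronecker product.
-/

namespace CfsgLib.Classical.TensorOrth

open Matrix CfsgLib.Classical.TensorMax CfsgLib.Orth
open CfsgLib.Classical.TensorSymp (adj ten kr_mul_apply kc_mul_apply eq_of_mul_kc_all kc_mulVec matrix_ext_dot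
  ten_dot kron_mulVec_ten vecMul_kr)
open scoped MatrixGroups Kronecker

variable {F : Type*} [Field F] [Finite F] {α β : Type} [Fintype α] [DecidableEq α] [Fintype β] [DecidableEq β]
variable {QA : QuadraticForm F (α → F)} {QB : QuadraticForm F (β → F)} {JA : Matrix α α F} {JB : Matrix β β F}
  {Q : QuadraticForm F (α × β → F)} {M : Subgroup (GL (α × β) F)}

theorem kron_sub (A A' : Matrix β β F) :
    (1 : Matrix α α F) ⊗ₖ (A - A') = (1 : Matrix α α F) ⊗ₖ A - (1 : Matrix α α F) ⊗ₖ A' := by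
  rw [sub_eq_add_neg, Matrix.kronecker_add, ← neg_one_smul F A', Matrix.kronecker_smul, neg_one_smul, sub_eq_add_neg]

namespace Hyp

variable (H : Hyp QA QB JA JB Q M)
include H

/-- A transformation of the second factor fixing a singular vector. -/
theorem inM_perp {w v : β → F} (hw : QB w = 0) (hv : QuadraticMap.polar ⇑QB w v = 0) :
    InM M (1 + kc α v * kr α (JB *ᵥ w) - kc α w * kr α (JB *ᵥ v) - QB v • (kc α w * kr α (JB *ᵥ w))) := by
  obtain ⟨T, hT⟩ := exists_siegel H.gB.nd hw hv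
  have := H.inM_elB (siegel_mem_El hT)
  rwa [H.gB.siegel_val hT, kron_sub, kron_sub, Matrix.kronecker_add, Matrix.one_kronecker_one,
    Matrix.kronecker_smul, ← kc_mul_kr, ← kc_mul_kr, ← kc_mul_kr] at this

/-- Resolution of the identity along a hyperbolic pair. -/
theorem resolve {w z : β → F} (hw : QB w = 0) (hz : QB z = 0) (hwz : QuadraticMap.polar ⇑QB w z = 1)
    (X : Matrix (α × β) α F) (hX : kr α (JB *ᵥ w) * X = 0) :
    ∃ (n : ℕ) (p a : Fin n → β → F), (∀ k, QuadraticMap.polar ⇑QB w (p k) = 0) ∧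
      (∀ k, QuadraticMap.polar ⇑QB w (a k) = 0) ∧
      X = kc α w * (kr α (JB *ᵥ z) * X) + ∑ k, kc α (p k) * (kr α (JB *ᵥ a k) * X) := by
  classical
  let π : (β → F) → β → F := fun x l => x l - (JB *ᵥ z) ⬝ᵥ x * w l - (JB *ᵥ w) ⬝ᵥ x * z l
  have hπ : ∀ x, π x = x - ((JB *ᵥ z) ⬝ᵥ x) • w - ((JB *ᵥ w) ⬝ᵥ x) • z := fun x => rfl
  have ww : (JB *ᵥ w) ⬝ᵥ w = 0 := by rw [H.gB.dot_polar, b_self_zero hw]
  have zz : (JB *ᵥ z) ⬝ᵥ z = 0 := by rw [H.gB.dot_polar, b_self_zero hz]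
  have wz : (JB *ᵥ w) ⬝ᵥ z = 1 := by rw [H.gB.dot_polar, hwz]
  have zw : (JB *ᵥ z) ⬝ᵥ w = 1 := by rw [H.gB.swap, wz]
  have hperp : ∀ x, QuadraticMap.polar ⇑QB w (π x) = 0 := fun x => by
    rw [← H.gB.dot_polar, hπ, dotProduct_sub, dotProduct_sub, dotProduct_smul, dotProduct_smul, ww, wz]
    simp
  have hadj : ∀ x y, (JB *ᵥ π x) ⬝ᵥ y = (JB *ᵥ x) ⬝ᵥ π y := fun x y => by
    rw [hπ, hπ, Matrix.mulVec_sub, Matrix.mulVec_sub, Matrix.mulVec_smul, Matrix.mulVec_smul, sub_dotProduct,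
      sub_dotProduct, smul_dotProduct, smul_dotProduct, dotProduct_sub, dotProduct_sub, dotProduct_smul,
      dotProduct_smul, H.gB.swap z x, H.gB.swap w x, smul_eq_mul, smul_eq_mul, smul_eq_mul, smul_eq_mul]
    ring
  have hidem : ∀ x, π (π x) = π x := fun x => by
    have e1 : (JB *ᵥ z) ⬝ᵥ π x = 0 := by
      rw [hπ, dotProduct_sub, dotProduct_sub, dotProduct_smul, dotProduct_smul, zw, zz]; simp
    have e2 : (JB *ᵥ w) ⬝ᵥ π x = 0 := by
      rw [hπ, dotProduct_sub, dotProduct_sub, dotProduct_smul, dotProduct_smul, ww, wz]; simp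
    rw [hπ (π x), e1, e2, zero_smul, zero_smul, sub_zero, sub_zero]
  set e := Fintype.equivFin β with he
  choose b hb using fun k : β => H.gB.mulVec_surj (Pi.single k (1 : F))
  refine ⟨Fintype.card β, fun i => π (Pi.single (e.symm i) 1), fun i => π (b (e.symm i)), fun _ => hperp _,
    fun _ => hperp _, ?_⟩
  rw [e.symm.sum_comp fun k : β => kc α (π (Pi.single k 1)) * (kr α (JB *ᵥ π (b k)) * X)]
  ext ⟨i, l⟩ j
  rw [Matrix.add_apply, Matrix.sum_apply]
  simp only [kc_mul_apply, kr_mul_apply, hadj]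
  obtain ⟨x, hx⟩ : ∃ x, x = fun k => X (i, k) j := ⟨_, rfl⟩
  rw [← hx, show X (i, l) j = x l by rw [hx]]
  have hwx : (JB *ᵥ w) ⬝ᵥ x = 0 := by rw [hx, ← kr_mul_apply, hX, Matrix.zero_apply]
  have hy : ∀ k, (JB *ᵥ b k) ⬝ᵥ π x = π x k := fun k => by rw [hb, single_dotProduct, one_mul]
  simp only [hy]
  have hsum : ∑ k, π (Pi.single k 1) l * π x k = π (π x) l := by
    have lin : ∀ v : β → F, ∑ k, (Pi.single k (1 : F) : β → F) l * v k = v l := fun v => by
      rw [Finset.sum_eq_single l]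
      · simp
      · intro k _ hk; simp [Pi.single_eq_of_ne (Ne.symm hk)]
      · simp
    simp only [hπ (Pi.single _ (1 : F)), hπ (π x), Pi.sub_apply, Pi.smul_apply, smul_eq_mul, dotProduct_single,
      mul_one, sub_mul, Finset.sum_sub_distrib, lin]
    simp only [dotProduct, Finset.mul_sum, Finset.sum_mul, mul_comm, mul_left_comm]
  rw [hsum, hidem, hπ, hwx]
  simp only [zero_smul, sub_zero, Pi.sub_apply, Pi.smul_apply, smul_eq_mul]
  ring_nf
  simp

/-- An element stabilising `F^α ⊗ w` for a singular vector `w`. -/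
theorem tens_of_stab_w (hS : Small JA QB JB M) {g : GL (α × β) F} (hg : g ∈ M) {w : β → F} (hw : QB w = 0)
    (hw0 : w ≠ 0) {A : Matrix α α F} (hA : g.1 * kc α w = kc α w * A) : Tens g.1 := by
  classical
  obtain ⟨i₀⟩ := H.nonempty_left
  haveI := H.nonempty_right
  obtain ⟨z, hqz, hwz⟩ := exists_partner H.gB.nd hw hw0
  have ww : (JB *ᵥ w) ⬝ᵥ w = 0 := by rw [H.gB.dot_polar, b_self_zero hw]
  have zz : (JB *ᵥ z) ⬝ᵥ z = 0 := by rw [H.gB.dot_polar, b_self_zero hqz]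
  have wz : (JB *ᵥ w) ⬝ᵥ z = 1 := by rw [H.gB.dot_polar, hwz]
  obtain ⟨θ, hθ⟩ := exists_dual_one hw0
  set A' := blk (g⁻¹).1 θ w with hA'def
  have hA' : A' * A = 1 := by
    rw [hA'def, blk, Matrix.mul_assoc, ← hA, ← Matrix.mul_assoc, Matrix.mul_assoc (kr α θ), g.inv_mul,
      Matrix.mul_one, kr_mul_kc, hθ, one_smul]
  have hAA : A * A' = 1 := mul_eq_one_comm.1 hA'
  have hginv : (g⁻¹).1 * kc α w = kc α w * A' := by
    calc (g⁻¹).1 * kc α w = (g⁻¹).1 * (kc α w * A * A') := by rw [Matrix.mul_assoc (kc α w), hAA, Matrix.mul_one]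
      _ = (g⁻¹).1 * (g.1 * kc α w * A') := by rw [hA]
      _ = kc α w * A' := by rw [← Matrix.mul_assoc, ← Matrix.mul_assoc, g.inv_mul, Matrix.one_mul]
  have hadj0 : ∀ {k : GL (α × β) F} {B : Matrix α α F}, k ∈ M → k.1 * kc α w = kc α w * B →
      kr α (JB *ᵥ w) * (k⁻¹).1 = adj JA B * kr α (JB *ᵥ w) := by
    intro k B hk hB
    have := H.adjoint hk (y := w) (y' := 0) (w := w) (E := B) (by
      rw [hB, show (0 : β → F) = (0 : F) • w by rw [zero_smul], kc_smul, zero_smul, zero_add])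
    rwa [Matrix.mulVec_zero, kr_zero, zero_add] at this
  have hφw := hadj0 hg hA
  have hφg : kr α (JB *ᵥ w) * g.1 = adj JA A' * kr α (JB *ᵥ w) := by
    have := hadj0 (M.inv_mem hg) hginv
    rwa [inv_inv] at this
  -- the contractions
  have hσ : ∀ v y : β → F, (JB *ᵥ w) ⬝ᵥ v = 0 → (JB *ᵥ w) ⬝ᵥ y = 0 →
      ∃ s : F, A * blk (g⁻¹).1 (JB *ᵥ v) y = s • 1 := by
    intro v y hv hy
    have hvw : (JB *ᵥ v) ⬝ᵥ w = 0 := by rw [H.gB.swap, hv]
    obtain ⟨t, ht, ht'⟩ := H.inM_perp hw (v := v) (by rw [← H.gB.dot_polar, hv])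
    have hfix : (g * t * g⁻¹).1 * kc α w = kc α w := by
      rw [Units.val_mul, Units.val_mul, Matrix.mul_assoc, hginv, Matrix.mul_assoc, ← Matrix.mul_assoc t.1, ht']
      simp only [Matrix.sub_mul, Matrix.add_mul, Matrix.one_mul, Matrix.smul_mul, Matrix.mul_assoc, kr_mul_kc_mul,
        ww, hvw, zero_smul, smul_zero, Matrix.mul_zero, add_zero, sub_zero]
      rw [← Matrix.mul_assoc g.1, hA, Matrix.mul_assoc, hAA, Matrix.mul_one]
    have hlev : ∀ y, (JB *ᵥ w) ⬝ᵥ y = 0 → (g * t * g⁻¹).1 * kc α y =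
        kc α y + kc α w * (-(A * blk (g⁻¹).1 (JB *ᵥ v) y)) := by
      intro y hy
      have e : kr α (JB *ᵥ w) * ((g⁻¹).1 * kc α y) = 0 := by
        rw [← Matrix.mul_assoc, hφw, Matrix.mul_assoc, kr_mul_kc, hy, zero_smul, Matrix.mul_zero]
      rw [Units.val_mul, Units.val_mul, ht']
      simp only [Matrix.mul_assoc, Matrix.sub_mul, Matrix.add_mul, Matrix.one_mul, Matrix.smul_mul, Matrix.mul_sub,
        Matrix.mul_add, Matrix.mul_smul, e, Matrix.mul_zero, smul_zero, add_zero, sub_zero]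
      rw [← Matrix.mul_assoc g.1 (g⁻¹).1, g.mul_inv, Matrix.one_mul, ← Matrix.mul_assoc g.1 (kc α w), hA, blk]
      simp only [Matrix.mul_assoc, Matrix.mul_neg]
      abel
    have hR : Rad JB M w (g * t * g⁻¹) :=
      H.rad_mk wz (M.mul_mem (M.mul_mem hg ht) (M.inv_mem hg)) hfix fun y hy => ⟨_, hlev y hy⟩
    obtain ⟨s, hs⟩ := hS _ (H.level hw hw0 hR (by rw [← H.gB.dot_polar, hy]) (hlev y hy))
    exact ⟨-s, by rw [neg_smul, ← hs, neg_neg]⟩
  -- the multiplier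
  obtain ⟨r, hp⟩ := H.exists_plane_at hw hw0
  obtain ⟨μ, hμ0, hμ⟩ : ∃ μ : F, μ ≠ 0 ∧ A * adj JA A = μ • 1 := by
    obtain ⟨w', r', v, -, -, -, -, -, -, -, wv, -, -, -, qv⟩ := exists_frame H.gB.nd H.dimB hp
    have hv : (JB *ᵥ w) ⬝ᵥ v = 0 := by rw [H.gB.dot_polar, wv]
    obtain ⟨n, p, a, hp', ha', hres⟩ := H.resolve hw hqz hwz (g.1 * kc α v) (by
      rw [← Matrix.mul_assoc, hφg, Matrix.mul_assoc, kr_mul_kc, hv, zero_smul, Matrix.mul_zero])
    have hgi : (JB *ᵥ v) ⬝ᵥ w = 0 := by rw [H.gB.swap, hv]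
    choose s hs using fun k => hσ v (p k) hv (by rw [H.gB.dot_polar, hp'])
    choose s' hs' using fun k => hσ v (a k) hv (by rw [H.gB.dot_polar, ha'])
    have hblk : ∀ k, kr α (JB *ᵥ v) * ((g⁻¹).1 * kc α (p k)) = s k • A' := fun k => by
      rw [← Matrix.mul_assoc]
      calc kr α (JB *ᵥ v) * (g⁻¹).1 * kc α (p k) = A' * (A * blk (g⁻¹).1 (JB *ᵥ v) (p k)) := by
            rw [← Matrix.mul_assoc, hA', Matrix.one_mul]; rfl
        _ = s k • A' := by rw [hs, Matrix.mul_smul, Matrix.mul_one]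
    have hadjblk : ∀ k, kr α (JB *ᵥ a k) * (g.1 * kc α v) = s' k • adj JA A' := fun k => by
      have e1 : kr α (JB *ᵥ v) * (g⁻¹).1 * kc α (a k) = s' k • A' := by
        calc kr α (JB *ᵥ v) * (g⁻¹).1 * kc α (a k) = A' * (A * blk (g⁻¹).1 (JB *ᵥ v) (a k)) := by
              rw [← Matrix.mul_assoc, hA', Matrix.one_mul]; rfl
          _ = s' k • A' := by rw [hs', Matrix.mul_smul, Matrix.mul_one]
      have e2 : adj JA (kr α (JB *ᵥ v) * (g⁻¹).1 * kc α (a k)) = kr α (JB *ᵥ a k) * (g.1 * kc α v) := by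
        have hJ : (JA ⊗ₖ JB) * (g⁻¹).1 = g.1ᵀ * (JA ⊗ₖ JB) := by
          conv_lhs => rw [← H.gram (H.iso_mem hg)]
          rw [Matrix.mul_assoc _ g.1, g.mul_inv, Matrix.mul_one]
        have e4 : JA * (kr α (JB *ᵥ v) * (g⁻¹).1 * kc α (a k)) =
            (g.1 * kc α v)ᵀ * (JA ⊗ₖ JB) * kc α (a k) := by
          rw [← Matrix.mul_assoc, ← Matrix.mul_assoc, ← H.kc_transpose_mul, Matrix.mul_assoc _ (JA ⊗ₖ JB), hJ,
            ← Matrix.mul_assoc, ← Matrix.transpose_mul]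
        have e5 : (kr α (JB *ᵥ v) * (g⁻¹).1 * kc α (a k))ᵀ * JA = JA * (kr α (JB *ᵥ a k) * (g.1 * kc α v)) := by
          have := congrArg Matrix.transpose e4
          rw [Matrix.transpose_mul, H.gA.symm] at this
          rw [this, Matrix.transpose_mul, Matrix.transpose_mul, Matrix.transpose_transpose,
            ← Matrix.kroneckerMap_transpose, H.gA.symm, H.gB.symm, ← Matrix.mul_assoc, H.kc_transpose_mul,
            Matrix.mul_assoc]
        rw [adj, Matrix.mul_assoc, e5, ← Matrix.mul_assoc, Matrix.nonsing_inv_mul JA H.gA.isUnit_det, Matrix.one_mul]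
      rw [← e2, e1, H.gA.adj_smul]
    have h1 : (2 * QB v) • (1 : Matrix α α F) = kr α (JB *ᵥ v) * ((g⁻¹).1 * (g.1 * kc α v)) := by
      rw [← Matrix.mul_assoc (g⁻¹).1, g.inv_mul, Matrix.one_mul, kr_mul_kc, H.gB.self]
    rw [hres, Matrix.mul_add, Matrix.mul_add, Matrix.mul_sum, Matrix.mul_sum, ← Matrix.mul_assoc _ (kc α w), hginv,
      Matrix.mul_assoc, kr_mul_kc_mul, hgi, zero_smul, zero_add] at h1
    have h2 : (2 * QB v) • (1 : Matrix α α F) = (∑ k, s k * s' k) • (A' * adj JA A') := by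
      rw [h1, Finset.sum_smul]
      refine Finset.sum_congr rfl fun k _ => ?_
      rw [hadjblk, Matrix.mul_smul, Matrix.mul_smul, Matrix.mul_smul, ← Matrix.mul_assoc _ (kc α (p k)),
        ← Matrix.mul_assoc, hblk, Matrix.smul_mul, smul_smul, mul_comm]
    set S := ∑ k, s k * s' k with hSdef
    have hne : (2 * QB v) ≠ 0 := mul_ne_zero H.gA.two qv
    have hS0 : S ≠ 0 := fun e => by
      rw [e, zero_smul, smul_eq_zero] at h2
      simpa using congrFun₂ (h2.resolve_left hne) i₀ i₀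
    refine ⟨S / (2 * QB v), div_ne_zero hS0 hne, ?_⟩
    have e2 : adj JA A * A = (S / (2 * QB v)) • 1 := by
      have h3 : A' * adj JA A' = ((2 * QB v) / S) • 1 := by
        rw [div_eq_inv_mul, mul_smul, h2, smul_smul, inv_mul_cancel₀ hS0, one_smul]
      have h4 : (A' * adj JA A') * (adj JA A * A) = 1 := by
        rw [Matrix.mul_assoc, ← Matrix.mul_assoc (adj JA A'), ← H.gA.adj_mul, hAA, H.gA.adj_one, Matrix.one_mul, hA']
      rw [h3, Matrix.smul_mul, Matrix.one_mul] at h4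
      rw [← h4, smul_smul, div_mul_div_cancel₀ hne, div_self hS0, one_smul]
    calc A * adj JA A = A * (adj JA A * A) * A' := by
          rw [Matrix.mul_assoc, Matrix.mul_assoc, hAA, Matrix.mul_one]
      _ = (S / (2 * QB v)) • 1 := by rw [e2, Matrix.mul_smul, Matrix.mul_one, Matrix.smul_mul, hAA]
  have hμ' : adj JA A * A = μ • 1 := by
    calc adj JA A * A = A' * (A * adj JA A) * A := by rw [← Matrix.mul_assoc, hA', Matrix.one_mul]
      _ = μ • 1 := by rw [hμ, Matrix.mul_smul, Matrix.mul_one, Matrix.smul_mul, hA']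
  set h : Matrix (α × β) (α × β) F := (A ⊗ₖ (1 : Matrix β β F)) * (g⁻¹).1 with hh
  have hkr : ∀ φ : β → F, (kr α φ : Matrix α (α × β) F) * h = A * kr α φ * (g⁻¹).1 := fun φ => by
    rw [hh, ← Matrix.mul_assoc, kr_mul_kron, Matrix.vecMul_one]
  have hhw : h * kc α w = kc α w := by
    rw [hh, Matrix.mul_assoc, hginv, ← Matrix.mul_assoc, kron_mul_kc, Matrix.one_mulVec, Matrix.mul_assoc, hAA,
      Matrix.mul_one]
  have hhφ : kr α (JB *ᵥ w) * h = μ • kr α (JB *ᵥ w) := by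
    rw [hkr, Matrix.mul_assoc, hφw, ← Matrix.mul_assoc, hμ, Matrix.smul_mul, Matrix.one_mul]
  have hAJ : Aᵀ * JA * A = μ • JA := by
    have e1 : JA * adj JA A = Aᵀ * JA := by
      rw [adj, ← Matrix.mul_assoc, ← Matrix.mul_assoc, Matrix.mul_nonsing_inv JA H.gA.isUnit_det, Matrix.one_mul]
    rw [← e1, Matrix.mul_assoc, hμ', Matrix.mul_smul, Matrix.mul_one]
  have hgram : hᵀ * (JA ⊗ₖ JB) * h = μ • (JA ⊗ₖ JB) := by
    have := H.gram (H.iso_mem (M.inv_mem hg))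
    calc hᵀ * (JA ⊗ₖ JB) * h
        = ((g⁻¹).1)ᵀ * ((A ⊗ₖ (1 : Matrix β β F))ᵀ * (JA ⊗ₖ JB) * (A ⊗ₖ (1 : Matrix β β F))) * (g⁻¹).1 := by
          rw [hh, Matrix.transpose_mul]; simp only [Matrix.mul_assoc]
      _ = μ • (JA ⊗ₖ JB) := by
          rw [← Matrix.kroneckerMap_transpose, ← Matrix.mul_kronecker_mul, ← Matrix.mul_kronecker_mul,
            Matrix.transpose_one, Matrix.one_mul, Matrix.mul_one, hAJ, Matrix.smul_kronecker, Matrix.mul_smul,
            Matrix.smul_mul, this]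
  -- the second factor
  set T0 : Matrix β β F := Matrix.of fun k l => h (i₀, k) (i₀, l) with hT0
  have hcon : ∀ φ y : β → F, (kr α φ * h * kc α y) i₀ i₀ = φ ⬝ᵥ (T0 *ᵥ y) := by
    intro φ y
    rw [Matrix.mul_assoc, kr_mul_apply]
    congr 1
    ext k
    simp [Matrix.mul_apply, Fintype.sum_prod_type, kc_apply, hT0, Matrix.mulVec, dotProduct, mul_ite]
  have hT0w : T0 *ᵥ w = w := by
    ext k
    have := hcon (Pi.single k 1) w
    rw [Matrix.mul_assoc, hhw, kr_mul_kc, single_dotProduct, single_dotProduct, one_mul, one_mul,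
      Matrix.smul_apply, Matrix.one_apply_eq, smul_eq_mul, mul_one] at this
    exact this.symm
  have hT0φ : ∀ y, (JB *ᵥ w) ⬝ᵥ (T0 *ᵥ y) = μ * ((JB *ᵥ w) ⬝ᵥ y) := fun y => by
    rw [← hcon, hhφ, Matrix.smul_mul, kr_mul_kc]
    simp
  obtain ⟨κ, hκ⟩ : ∃ κ, κ = -((JB *ᵥ (T0 *ᵥ z)) ⬝ᵥ (T0 *ᵥ z)) * (2 * μ)⁻¹ := ⟨_, rfl⟩
  set η : β → F := JB *ᵥ z - μ⁻¹ • ((JB *ᵥ (T0 *ᵥ z)) ᵥ* T0) - κ • (JB *ᵥ w) with hη
  have hηy : ∀ y, η ⬝ᵥ y =
      (JB *ᵥ z) ⬝ᵥ y - μ⁻¹ * ((JB *ᵥ (T0 *ᵥ z)) ⬝ᵥ (T0 *ᵥ y)) - κ * ((JB *ᵥ w) ⬝ᵥ y) := fun y => by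
    rw [hη, sub_dotProduct, sub_dotProduct, smul_dotProduct, smul_dotProduct, ← Matrix.dotProduct_mulVec]
    rfl
  have hdw : (JB *ᵥ (T0 *ᵥ z)) ⬝ᵥ w = μ := by rw [H.gB.swap, hT0φ, wz, mul_one]
  have hηw : η ⬝ᵥ w = 0 := by
    rw [hηy, hT0w, hdw, H.gB.swap z w, wz, ww, inv_mul_cancel₀ hμ0]
    ring
  have hηz : η ⬝ᵥ z = κ := by
    have h2 := H.gA.two
    rw [hηy, zz, wz, hκ]
    field_simp
    ring
  set T : Matrix β β F := T0 + Matrix.vecMulVec w η with hT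
  have hTy : ∀ y, T *ᵥ y = T0 *ᵥ y + (η ⬝ᵥ y) • w := fun y => by
    rw [hT, Matrix.add_mulVec, Matrix.vecMulVec_mulVec, op_smul_eq_smul]
  have hTw : T *ᵥ w = w := by rw [hTy, hT0w, hηw, zero_smul, add_zero]
  -- on the orthogonal of `w` the element is a product up to the radical
  have hperp : ∀ y, (JB *ᵥ w) ⬝ᵥ y = 0 → ∃ E : Matrix α α F, h * kc α y = kc α (T *ᵥ y) + kc α w * E := by
    intro y hy
    refine ⟨kr α θ * (h * kc α y - kc α (T *ᵥ y)), ?_⟩
    rw [← H.split_kc hθ (X := h * kc α y - kc α (T *ᵥ y)) (fun a ha => ?_), add_sub_cancel]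
    obtain ⟨s, hs⟩ := hσ a y ha hy
    have e1 : kr α (JB *ᵥ a) * h * kc α y = s • 1 := by
      rw [hkr, ← hs, blk]
      simp only [Matrix.mul_assoc]
    have e2 := hcon (JB *ᵥ a) y
    rw [e1, Matrix.smul_apply, Matrix.one_apply_eq, smul_eq_mul, mul_one] at e2
    rw [Matrix.mul_sub, ← Matrix.mul_assoc, e1, kr_mul_kc, hTy, dotProduct_add, dotProduct_smul, ← e2,
      H.gB.swap a w, ha, smul_zero, add_zero, sub_self]
  have hform : ∀ a b, (JB *ᵥ w) ⬝ᵥ a = 0 → (JB *ᵥ w) ⬝ᵥ b = 0 →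
      (JB *ᵥ (T *ᵥ a)) ⬝ᵥ (T *ᵥ b) = μ * ((JB *ᵥ a) ⬝ᵥ b) := by
    intro a b ha hb
    obtain ⟨Ea, hEa⟩ := hperp a ha
    obtain ⟨Eb, hEb⟩ := hperp b hb
    have key : (h * kc α a)ᵀ * (JA ⊗ₖ JB) * (h * kc α b) = μ • ((kc α a)ᵀ * (JA ⊗ₖ JB) * kc α b) := by
      calc (h * kc α a)ᵀ * (JA ⊗ₖ JB) * (h * kc α b) = (kc α a)ᵀ * (hᵀ * (JA ⊗ₖ JB) * h) * kc α b := by
            rw [Matrix.transpose_mul]; simp only [Matrix.mul_assoc]
        _ = _ := by rw [hgram, Matrix.mul_smul, Matrix.smul_mul]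
    have f1 : (JB *ᵥ w) ⬝ᵥ (T *ᵥ b) = 0 := by
      rw [hTy, dotProduct_add, hT0φ, hb, dotProduct_smul, ww]; simp
    have f2 : (JB *ᵥ (T *ᵥ a)) ⬝ᵥ w = 0 := by
      rw [H.gB.swap, hTy, dotProduct_add, hT0φ, ha, dotProduct_smul, ww]; simp
    rw [hEa, hEb, Matrix.transpose_add, Matrix.transpose_mul] at key
    simp only [Matrix.mul_add, Matrix.add_mul, H.kc_transpose_mul, Matrix.mul_assoc, kr_mul_kc, kr_mul_kc_mul, f1,
      f2, ww, zero_smul, Matrix.mul_zero, add_zero, Matrix.mul_smul, Matrix.mul_one, smul_smul] at key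
    have hJA0 : JA ≠ 0 := fun e => by
      haveI := H.nonempty_left
      exact H.gA.det_ne (by rw [e, Matrix.det_zero])
    exact smul_left_injective F hJA0 key
  have hsim : ∀ a b, (JB *ᵥ (T *ᵥ a)) ⬝ᵥ (T *ᵥ b) = μ * ((JB *ᵥ a) ⬝ᵥ b) := by
    have hzy : ∀ y, (JB *ᵥ (T *ᵥ z)) ⬝ᵥ (T *ᵥ y) = μ * ((JB *ᵥ z) ⬝ᵥ y) := fun y => by
      rw [hTy z, hTy y, hηz, Matrix.mulVec_add, Matrix.mulVec_smul, add_dotProduct, smul_dotProduct, dotProduct_add,
        dotProduct_add, dotProduct_smul, dotProduct_smul, hdw, hT0φ, ww, hηy]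
      simp only [smul_eq_mul, mul_zero, add_zero]
      field_simp
      ring
    intro a b
    obtain ⟨p, hp⟩ : ∃ p, p = (JB *ᵥ w) ⬝ᵥ a := ⟨_, rfl⟩
    obtain ⟨q, hq⟩ : ∃ q, q = (JB *ᵥ w) ⬝ᵥ b := ⟨_, rfl⟩
    have ha : (JB *ᵥ w) ⬝ᵥ (a - p • z) = 0 := by
      rw [dotProduct_sub, dotProduct_smul, wz, smul_eq_mul, mul_one, hp, sub_self]
    have hb : (JB *ᵥ w) ⬝ᵥ (b - q • z) = 0 := by
      rw [dotProduct_sub, dotProduct_smul, wz, smul_eq_mul, mul_one, hq, sub_self]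
    have e0 := hform _ _ ha hb
    have e1 := hzy b
    have e2 := hzy a
    rw [H.gB.swap (T *ᵥ z), H.gB.swap z a] at e2
    have e3 := hzy z
    rw [zz, mul_zero] at e3
    simp only [Matrix.mulVec_sub, Matrix.mulVec_smul, sub_dotProduct, dotProduct_sub, smul_dotProduct,
      dotProduct_smul, smul_eq_mul, zz, e3] at e0
    linear_combination e0 + p * e1 + q * e2
  have hTT : Tᵀ * JB * T = μ • JB := by
    refine matrix_ext_dot fun x y => ?_
    have := hsim y x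
    rw [← Matrix.mulVec_mulVec, ← Matrix.mulVec_mulVec, Matrix.dotProduct_mulVec x Tᵀ, Matrix.vecMul_transpose,
      Matrix.smul_mulVec, dotProduct_smul, smul_eq_mul, dotProduct_comm, this, dotProduct_comm x]
  have hTdet : T.det ≠ 0 := fun e => by
    have := congrArg Matrix.det hTT
    rw [Matrix.det_mul, e, mul_zero, Matrix.det_smul] at this
    exact (mul_ne_zero (pow_ne_zero _ hμ0) H.gB.det_ne) this.symm
  set T' := T⁻¹ with hT'
  have hT'T : T' * T = 1 := Matrix.nonsing_inv_mul T (Ne.isUnit hTdet)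
  have hT'w : T' *ᵥ w = w := by
    conv_lhs => rw [← hTw]
    rw [Matrix.mulVec_mulVec, hT'T, Matrix.one_mulVec]
  set r' : Matrix (α × β) (α × β) F := (A ⊗ₖ T') * (g⁻¹).1 with hr
  have hrh : r' = ((1 : Matrix α α F) ⊗ₖ T') * h := by
    rw [hr, hh, ← Matrix.mul_assoc, ← Matrix.mul_kronecker_mul, Matrix.one_mul, Matrix.mul_one]
  have hrw : r' * kc α w = kc α w := by
    rw [hrh, Matrix.mul_assoc, hhw, kron_mul_kc, hT'w, Matrix.mul_one]
  have hrperp : ∀ y, (JB *ᵥ w) ⬝ᵥ y = 0 → ∃ E : Matrix α α F, r' * kc α y = kc α y + kc α w * E := by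
    intro y hy
    obtain ⟨E, hE⟩ := hperp y hy
    refine ⟨E, ?_⟩
    rw [hrh, Matrix.mul_assoc, hE, Matrix.mul_add, ← Matrix.mul_assoc, kron_mul_kc, kron_mul_kc, hT'w,
      Matrix.mulVec_mulVec, hT'T, Matrix.one_mulVec, Matrix.mul_one, Matrix.mul_one]
  have hATg : (A ⊗ₖ T')ᵀ * (JA ⊗ₖ JB) * (A ⊗ₖ T') = JA ⊗ₖ JB := by
    have e : T'ᵀ * Tᵀ = 1 := by rw [← Matrix.transpose_mul, Matrix.mul_nonsing_inv T (Ne.isUnit hTdet), Matrix.transpose_one]
    have : T'ᵀ * JB * T' = μ⁻¹ • JB := by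
      have e' : JB = μ⁻¹ • (Tᵀ * JB * T) := by rw [hTT, smul_smul, inv_mul_cancel₀ hμ0, one_smul]
      conv_lhs => rw [e']
      rw [Matrix.mul_smul, Matrix.smul_mul, ← Matrix.mul_assoc, ← Matrix.mul_assoc, e, Matrix.one_mul,
        Matrix.mul_assoc, Matrix.mul_nonsing_inv T (Ne.isUnit hTdet), Matrix.mul_one]
    rw [← Matrix.kroneckerMap_transpose, ← Matrix.mul_kronecker_mul, ← Matrix.mul_kronecker_mul, hAJ, this,
      Matrix.smul_kronecker, Matrix.kronecker_smul, smul_smul, mul_inv_cancel₀ hμ0, one_smul]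
  obtain ⟨R, hR⟩ := CfsgLib.Orth.exists_iso H.nondeg r'.mulVecLin (fun x => by
    rw [Matrix.mulVecLin_apply, hr, ← Matrix.mulVec_mulVec, H.iso_of_gram hATg]
    exact (H.iso_mem (M.inv_mem hg)) x x)
  have hRval : ((R : GL (α × β) F)).1 = r' := Matrix.ext_iff_mulVec.2 hR
  have hRel : R ∈ El Q := by
    refine CfsgLib.Orth.mem_El_of_flag H.nondeg (fun i : α => ten (Pi.single i 1) w)
      (fun i => ten (JA⁻¹ *ᵥ Pi.single i 1) z) (fun i => ?_) (fun i j => ?_) (fun i j => ?_) R (fun i => ?_)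
      (fun y hy => ?_)
    · rw [H.q_ten, hw, mul_zero]
    · rw [H.polar_ten, b_self_zero hw, mul_zero]
    · rw [H.polar_ten, hwz, mul_one, H.gA.pol, Matrix.mulVec_mulVec, Matrix.mul_nonsing_inv JA H.gA.isUnit_det,
        Matrix.one_mulVec, single_dotProduct, one_mul]
      simp [Pi.single_apply]
    · show (R : GL (α × β) F).1 *ᵥ _ = _
      rw [hRval, ← kc_mulVec, Matrix.mulVec_mulVec, hrw]
    · show (R : GL (α × β) F).1 *ᵥ y - y ∈ _
      rw [hRval]
      have hy0 : kr α (JB *ᵥ w) *ᵥ y = 0 := by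
        refine H.gA.nd _ fun x => ?_
        rw [b_comm, ← H.gA.dot_polar]
        have hlin : (JA *ᵥ x) ⬝ᵥ (kr α (JB *ᵥ w) *ᵥ y) = QuadraticMap.polar ⇑Q y (ten x w) :=
          (H.polar_apply y x w).symm
        rw [hlin]
        have e : ten x w = ∑ i, x i • ten (Pi.single i (1 : F)) w := by
          ext ⟨j, k⟩
          rw [Finset.sum_apply]
          simp only [Pi.smul_apply, ten, smul_eq_mul, Pi.single_apply]
          simp [mul_ite, ite_mul]
        rw [e, ← QuadraticMap.polarBilin_apply_apply, map_sum]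
        refine Finset.sum_eq_zero fun i _ => ?_
        rw [map_smul, QuadraticMap.polarBilin_apply_apply, hy, smul_zero]
      set P : β → β → F := fun k => Pi.single k 1 - ((JB *ᵥ w) k) • z with hP
      have hPw : ∀ k, (JB *ᵥ w) ⬝ᵥ P k = 0 := fun k => by
        rw [hP]
        simp [dotProduct_sub, dotProduct_smul, wz]
      choose E hE using fun k => hrperp (P k) (hPw k)
      have hdec : y = ∑ k, kc α (P k) *ᵥ fun i => y (i, k) := by
        ext ⟨i, l⟩
        have h0 := congrFun hy0 i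
        simp only [Matrix.mulVec, dotProduct, kr_apply, Fintype.sum_prod_type, ite_mul, zero_mul, Finset.sum_ite_irrel,
          Finset.sum_const_zero, Finset.sum_ite_eq, Finset.mem_univ, if_true, Pi.zero_apply] at h0
        have e : ∀ k, (kc α (P k) *ᵥ fun i => y (i, k)) (i, l) = P k l * y (i, k) := fun k => by
          rw [kc_mulVec, ten]; ring
        rw [Finset.sum_apply]
        simp only [e]
        simp only [hP, Pi.sub_apply, Pi.smul_apply, smul_eq_mul, sub_mul, Finset.sum_sub_distrib]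
        have e2 : ∑ k, (JB *ᵥ w) k * z l * y (i, k) = z l * ∑ k, (JB *ᵥ w) k * y (i, k) := by
          rw [Finset.mul_sum]
          exact Finset.sum_congr rfl fun k _ => by ring
        rw [e2]
        have h0' : ∑ k, (JB *ᵥ w) k * y (i, k) = 0 := h0
        rw [h0', mul_zero, sub_zero, Finset.sum_eq_single l]
        · simp
        · intro k _ hk; simp [Pi.single_eq_of_ne (Ne.symm hk)]
        · simp
      refine (Submodule.mem_span_range_iff_exists_fun F).2 ⟨∑ k, E k *ᵥ fun i => y (i, k), ?_⟩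
      have e : r' *ᵥ y - y = kc α w *ᵥ ∑ k, E k *ᵥ fun i => y (i, k) := by
        conv_lhs => rw [hdec]
        rw [Matrix.mulVec_sum, Matrix.mulVec_sum, ← Finset.sum_sub_distrib]
        refine Finset.sum_congr rfl fun k _ => ?_
        rw [Matrix.mulVec_mulVec, hE, Matrix.add_mulVec, Matrix.mulVec_mulVec, add_sub_cancel_left]
      rw [e, kc_mulVec]
      ext ⟨i, k⟩
      simp [ten, Finset.sum_apply, Pi.single_apply]
  have hRom : (R : GL (α × β) F) ∈ Cfsg.Geo.omegaGL ⇑Q :=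
    ⟨R, by rw [omega_eq_El H.nondeg H.five_le_dim]; exact hRel, rfl⟩
  set n : GL (α × β) F := (R : GL (α × β) F) * g with hn
  have hnval : n.1 = A ⊗ₖ T' := by
    rw [hn, Units.val_mul, hRval, hr, Matrix.mul_assoc, g.inv_mul, Matrix.mul_one]
  have hnM : n ∈ M := H.tens n ((Cfsg.Geo.omegaGL ⇑Q).mul_mem hRom (H.le hg)) ⟨A, T', hnval⟩
  have hRM : (R : GL (α × β) F) ∈ M := by
    have := M.mul_mem hnM (M.inv_mem hg)
    rwa [hn, mul_inv_cancel_right] at this
  -- the radical part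
  have hRrad : Rad JB M w (R : GL (α × β) F) :=
    H.rad_mk wz hRM (by rw [hRval]; exact hrw) (fun y hy => by rw [hRval]; exact hrperp y hy)
  set L : β → F := fun l => (kr α θ * (r' - 1) : Matrix α (α × β) F) i₀ (i₀, l) with hL
  have hLev : ∀ a, (JB *ᵥ w) ⬝ᵥ a = 0 → r' * kc α a = kc α a + (L ⬝ᵥ a) • kc α w := by
    intro a ha
    obtain ⟨E, hE⟩ := hrperp a ha
    obtain ⟨s, hs⟩ := hS _ (H.level hw hw0 hRrad (y := a) (by rw [← H.gB.dot_polar, ha]) (by rw [hRval]; exact hE))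
    have e : L ⬝ᵥ a = s := by
      have e1 : (kr α θ * (r' - 1)) * kc α a = s • 1 := by
        rw [Matrix.mul_assoc, Matrix.sub_mul, Matrix.one_mul, hE, add_sub_cancel_left, ← Matrix.mul_assoc, kr_mul_kc,
          hθ, one_smul, Matrix.one_mul, hs]
      have e2 := congrFun₂ e1 i₀ i₀
      rw [Matrix.smul_apply, Matrix.one_apply_eq, smul_eq_mul, mul_one] at e2
      rw [← e2, Matrix.mul_apply, Fintype.sum_prod_type, Fintype.sum_eq_single i₀]
      · simp [kc_apply, dotProduct, hL]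
      · intro b hb; simp [kc_apply, hb]
    rw [hE, hs, e, Matrix.mul_smul, Matrix.mul_one]
  have hLw : L ⬝ᵥ w = 0 := by
    have h0 := hLev w ww
    rw [hrw, left_eq_add] at h0
    by_contra hne
    have h2 := congrArg ((kr α θ) * ·) h0
    simp only [Matrix.mul_smul, kr_mul_kc, hθ, one_smul, Matrix.mul_zero] at h2
    have h1 := congrFun₂ h2 i₀ i₀
    rw [Matrix.smul_apply, Matrix.one_apply_eq, smul_eq_mul, mul_one] at h1
    exact hne h1
  obtain ⟨ψ, hψL⟩ := H.gB.mulVec_surj L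
  have hψw : QuadraticMap.polar ⇑QB w ψ = 0 := by rw [← H.gB.dot_polar, H.gB.swap, hψL, hLw]
  obtain ⟨T₁, hT₁⟩ := exists_siegel H.gB.nd hw hψw
  obtain ⟨t, ht, ht'⟩ := H.inM_elB (siegel_mem_El hT₁)
  set r2 : GL (α × β) F := (R : GL (α × β) F) * t with hr2
  have hta : ∀ a, (JB *ᵥ w) ⬝ᵥ a = 0 → t.1 * kc α a = kc α a - (L ⬝ᵥ a) • kc α w := by
    intro a ha
    rw [ht', kron_mul_kc, Matrix.mul_one, show (T₁ : GL β F).1 *ᵥ a = ap T₁ a from rfl, hT₁.2.2, b_comm a w,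
      ← H.gB.dot_polar, ha, zero_smul, add_zero, mul_zero, zero_smul, sub_zero, b_comm a ψ, ← H.gB.dot_polar, hψL,
      ← kc_smul, sub_eq_add_neg, ← neg_smul, kc_add, kc_smul, kc_smul, neg_smul, ← sub_eq_add_neg]
  have hfix : ∀ a, (JB *ᵥ w) ⬝ᵥ a = 0 → r2.1 * kc α a = kc α a := by
    intro a ha
    rw [hr2, Units.val_mul, hRval, Matrix.mul_assoc, hta a ha, Matrix.mul_sub, hLev a ha, Matrix.mul_smul, hrw,
      add_sub_cancel_right]
  have hr2M : r2 ∈ M := M.mul_mem hRM ht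
  have hr2rad : Rad JB M w r2 :=
    H.rad_mk wz hr2M (hfix w ww) fun y hy => ⟨0, by rw [hfix y hy, Matrix.mul_zero, add_zero]⟩
  obtain ⟨C, hC, hr2val⟩ := H.rad_eq hp hr2rad (E := 0) fun y hy => by
    rw [hfix y hy, Matrix.mul_zero, smul_zero, add_zero]
  rw [show Np JA JB w r (0 : Matrix α α F) = 0 by simp [Np, H.gA.adj_zero], zero_add] at hr2val
  obtain ⟨c, hc⟩ : ∃ c : F, C = c • 1 := by
    refine hS C ?_
    obtain ⟨-, k, hk, hk'⟩ := H.zm_split hp.symm hC ⟨r2, hr2M, hr2val⟩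
    obtain ⟨w', r'', v, -, -, -, -, wr'', rr'', -, -, -, -, -, -⟩ := exists_frame H.gB.nd H.dimB hp
    have e : Np JA JB w r C = Np JA JB r w C := by
      rw [H.np_swap w r C, hC, ← neg_one_smul F C, H.np_smul, neg_one_smul, neg_neg]
    rw [← e] at hk'
    have hlev : ∀ y, QuadraticMap.polar ⇑QB w y = 0 →
        k.1 * kc α y = kc α y + kc α w * (QuadraticMap.polar ⇑QB r y • C) := fun y hy => by
      rw [hk', H.np_fix hy, Matrix.mul_smul]
    have hkr : Rad JB M w k := H.rad_mk wz hk (by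
        rw [hlev w (b_self_zero hw), b_comm r w, hp.bwr, zero_smul, Matrix.mul_zero, add_zero])
      fun y hy => ⟨_, hlev y (by rw [← H.gB.dot_polar, hy])⟩
    have := H.level hw hw0 hkr wr'' (hlev r'' wr'')
    rwa [rr'', one_smul] at this
  have hC0 : C = 0 := by
    have h0 : (2 : F) • C = 0 := by
      rw [two_smul]
      conv_lhs => arg 1; rw [show C = adj JA C by rw [hc, H.gA.adj_smul, H.gA.adj_one]]
      rw [hC, neg_add_cancel]
    exact (smul_eq_zero.1 h0).resolve_left H.gA.two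
  have hr2one : r2 = 1 := Units.ext (by
    rw [hr2val, hC0, Zm, Matrix.mul_zero, Matrix.zero_mul, add_zero]; rfl)
  have hRinv : ((R : GL (α × β) F))⁻¹ = t := inv_eq_of_mul_eq_one_right hr2one
  have : Tens ((R : GL (α × β) F)⁻¹ * n).1 := by
    rw [Units.val_mul, hRinv]
    exact tens_mul ⟨1, _, ht'⟩ ⟨A, T', hnval⟩
  rwa [hn, inv_mul_cancel_left] at this

/-- An element stabilising `F^α ⊗ π` for a singular plane `π`. -/
theorem tens_of_stab_plane (hS : Small JA QB JB M) {g : GL (α × β) F} (hg : g ∈ M) {w r : β → F}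
    (hp : Plane QB w r) (hw : ∃ A B : Matrix α α F, g.1 * kc α w = kc α w * A + kc α r * B)
    (hr : ∃ A B : Matrix α α F, g.1 * kc α r = kc α w * A + kc α r * B) : Tens g.1 := by
  classical
  haveI := H.nonempty_left
  haveI := H.nonempty_right
  obtain ⟨i₀⟩ := H.nonempty_left
  let St : GL (α × β) F → Prop := fun k => ∀ u, u = w ∨ u = r →
    ∃ A B : Matrix α α F, k.1 * kc α u = kc α w * A + kc α r * B
  have hgst : St g := by rintro u (rfl | rfl) <;> assumption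
  have hmul : ∀ a b, St a → St b → St (a * b) := by
    intro a b ha hb u hu
    obtain ⟨X, Y, e⟩ := hb u hu
    obtain ⟨A1, B1, e1⟩ := ha w (Or.inl rfl)
    obtain ⟨A2, B2, e2⟩ := ha r (Or.inr rfl)
    refine ⟨A1 * X + A2 * Y, B1 * X + B2 * Y, ?_⟩
    rw [Units.val_mul, Matrix.mul_assoc, e, Matrix.mul_add, ← Matrix.mul_assoc, e1, ← Matrix.mul_assoc, e2]
    simp only [Matrix.add_mul, Matrix.mul_add, Matrix.mul_assoc]
    abel
  have hone : St 1 := by
    rintro u (rfl | rfl)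
    · exact ⟨1, 0, by simp⟩
    · exact ⟨0, 1, by simp⟩
  have hpow : ∀ n : ℕ, St (g ^ n) := fun n => by
    induction n with
    | zero => rw [pow_zero]; exact hone
    | succ n ih => rw [pow_succ]; exact hmul _ _ ih hgst
  have hinv : St g⁻¹ := by
    have : g⁻¹ = g ^ (orderOf g - 1) := by
      refine inv_eq_of_mul_eq_one_right ?_
      rw [← pow_succ', Nat.sub_add_cancel (orderOf_pos g), pow_orderOf_eq_one]
    rw [this]
    exact hpow _
  -- a transformation fixing the plane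
  obtain ⟨w', r', v, -, -, -, -, wr', rr', -, wv, rv, -, r'v, qv⟩ := exists_frame H.gB.nd H.dimB hp
  obtain ⟨T, hT⟩ := exists_siegel H.gB.nd hp.qw wv
  obtain ⟨t, ht, ht'⟩ := H.inM_elB (siegel_mem_El hT)
  have htw : ∀ u, u = w ∨ u = r → t.1 * kc α u = kc α u := by
    intro u hu
    rw [ht', kron_mul_kc, Matrix.mul_one]
    rcases hu with rfl | rfl
    · exact congrArg (kc α) (siegel_fix hT (b_self_zero hp.qw) wv)
    · exact congrArg (kc α) (siegel_fix hT (by rw [b_comm]; exact hp.bwr) rv)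
  have hfix : (g * t * g⁻¹).1 * kc α w = kc α w := by
    obtain ⟨X, Y, e⟩ := hinv w (Or.inl rfl)
    rw [Units.val_mul, Units.val_mul, Matrix.mul_assoc, e, Matrix.mul_add, Matrix.mul_assoc g.1 t.1,
      Matrix.mul_assoc g.1 t.1, ← Matrix.mul_assoc t.1 (kc α w), htw w (Or.inl rfl),
      ← Matrix.mul_assoc t.1 (kc α r), htw r (Or.inr rfl), ← Matrix.mul_add, ← e, ← Matrix.mul_assoc, g.mul_inv,
      Matrix.one_mul]
  obtain ⟨S₀, T₀, hST⟩ := H.tens_of_stab_w hS (M.mul_mem (M.mul_mem hg ht) (M.inv_mem hg)) hp.qw hp.ne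
    (A := 1) (by rw [hfix, Matrix.mul_one])
  obtain ⟨c, hc⟩ : ∃ c : F, S₀ = c • 1 := by
    have e : kc α (T₀ *ᵥ w) * S₀ = kc α w := by rw [← kron_mul_kc, ← hST, hfix]
    obtain ⟨θ, hθ⟩ := exists_dual_one hp.ne
    have e1 := congrArg (kr α θ * ·) e
    simp only [kr_mul_kc_mul, kr_mul_kc, hθ, one_smul] at e1
    refine ⟨(θ ⬝ᵥ (T₀ *ᵥ w))⁻¹, ?_⟩
    by_cases h0 : θ ⬝ᵥ (T₀ *ᵥ w) = 0
    · rw [h0, zero_smul] at e1
      exact absurd e1 zero_ne_one
    · rw [← e1, smul_smul, inv_mul_cancel₀ h0, one_smul]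
  set N : Matrix β β F := (T : GL β F).1 - 1 with hN
  set N' : Matrix β β F := c • T₀ - 1 with hN'
  have hcomm : (g⁻¹).1 * ((1 : Matrix α α F) ⊗ₖ N') = ((1 : Matrix α α F) ⊗ₖ N) * (g⁻¹).1 := by
    have e : (1 : Matrix α α F) ⊗ₖ (c • T₀) = g.1 * t.1 * (g⁻¹).1 := by
      rw [Matrix.kronecker_smul, ← Matrix.smul_kronecker, ← hc, ← hST]; rfl
    rw [hN', hN, kron_sub, kron_sub, Matrix.one_kronecker_one, e, ← ht', Matrix.mul_sub, ← Matrix.mul_assoc,
      ← Matrix.mul_assoc, g.inv_mul, Matrix.one_mul, Matrix.mul_one, Matrix.sub_mul, Matrix.one_mul]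
  have fin : ∀ k : GL (α × β) F, k ∈ M → ∀ u : β → F, QB u = 0 → u ≠ 0 →
      ∀ A : Matrix α α F, k.1 * kc α w = kc α u * A → Tens k.1 := by
    intro k hk u hu hu0 A hA
    obtain ⟨T₁, hT₁, hTu⟩ := exists_move_singular H.gB.nd H.dimB hu hp.qw hu0 hp.ne
    obtain ⟨n, hn, hn'⟩ := H.inM_elB hT₁
    have hs := H.tens_of_stab_w hS (M.mul_mem hn hk) hp.qw hp.ne (A := A) (by
      rw [Units.val_mul, Matrix.mul_assoc, hA, ← Matrix.mul_assoc, hn', kron_mul_kc, Matrix.mul_one]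
      exact congrArg (fun x => kc α x * A) hTu)
    have := tens_mul (tens_inv ⟨1, (T₁ : GL β F).1, hn'⟩ n.mul_inv H.nonempty_left H.nonempty_right) hs
    rwa [← Units.val_mul, inv_mul_cancel_left] at this
  by_cases hcase : ∀ φ : β → F, φ ᵥ* N' = 0 → φ ⬝ᵥ w = 0
  · obtain ⟨X, Y, e⟩ := hinv w (Or.inl rfl)
    have hzero : kr α (JB *ᵥ r') * ((g⁻¹).1 * kc α w) = 0 := by
      have h1 : kr α (JB *ᵥ r') * (g⁻¹).1 * ((1 : Matrix α α F) ⊗ₖ N') = 0 := by
        have hφ : (JB *ᵥ r') ᵥ* N = 0 := by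
          rw [hN, H.gB.siegel_val hT]
          simp only [Matrix.vecMul_sub, Matrix.vecMul_add, Matrix.vecMul_one, Matrix.vecMul_smul,
            Matrix.vecMul_vecMulVec, H.gB.dot_polar, r'v, b_comm r' w, wr', zero_smul, smul_zero, add_zero, sub_zero,
            sub_self]
        rw [Matrix.mul_assoc, hcomm, ← Matrix.mul_assoc, kr_mul_kron, hφ, kr_zero, Matrix.mul_zero, Matrix.zero_mul]
      rw [← Matrix.mul_assoc]
      obtain ⟨Z, hZ⟩ : ∃ Z, Z = kr α (JB *ᵥ r') * (g⁻¹).1 := ⟨_, rfl⟩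
      rw [← hZ] at h1 ⊢
      ext i j
      have hr0 : (fun k => Z i (j, k)) ᵥ* N' = 0 := by
        ext l
        have := congrFun₂ h1 i (j, l)
        simpa [Matrix.mul_apply, Fintype.sum_prod_type, Matrix.vecMul, dotProduct, Matrix.one_apply, ite_mul,
          mul_ite] using this
      have := hcase _ hr0
      simpa [Matrix.mul_apply, Fintype.sum_prod_type, kc_apply, dotProduct, mul_ite] using this
    rw [e, Matrix.mul_add, kr_mul_kc_mul, kr_mul_kc_mul, H.gB.dot_polar, H.gB.dot_polar, b_comm r' w, wr',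
      b_comm r' r, rr', zero_smul, one_smul, zero_add] at hzero
    rw [hzero, Matrix.mul_zero, add_zero] at e
    have := H.tens_of_stab_w hS (M.inv_mem hg) hp.qw hp.ne e
    exact tens_inv this g.inv_mul H.nonempty_left H.nonempty_right
  · push Not at hcase
    obtain ⟨φ, hφ, hφw⟩ := hcase
    obtain ⟨X, Y, e⟩ := hw
    obtain ⟨Ti, hTi⟩ : ∃ X, X = kc α v := ⟨_, rfl⟩
    have hNv : N *ᵥ v = -(2 * QB v) • w := by
      rw [hN, Matrix.sub_mulVec, Matrix.one_mulVec, show (T : GL β F).1 *ᵥ v = ap T v from rfl, hT.2.2,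
        b_comm v w, wv, b_self]
      simp
    have hrow : kr α φ * (g.1 * kc α w) = 0 := by
      have h1 : ((1 : Matrix α α F) ⊗ₖ N) * kc α v = (-(2 * QB v)) • kc α w := by
        rw [kron_mul_kc, hNv, Matrix.mul_one, kc_smul]
      have h2 : g.1 * ((1 : Matrix α α F) ⊗ₖ N) = ((1 : Matrix α α F) ⊗ₖ N') * g.1 := by
        have := congrArg (fun X => g.1 * X * g.1) hcomm
        simp only [Matrix.mul_assoc, g.inv_mul, Matrix.mul_one] at this
        rw [← Matrix.mul_assoc g.1 (g⁻¹).1, g.mul_inv, Matrix.one_mul] at this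
        exact this.symm
      have h3 : kr α φ * ((g.1 * ((1 : Matrix α α F) ⊗ₖ N)) * kc α v) = 0 := by
        rw [h2, ← Matrix.mul_assoc, ← Matrix.mul_assoc, kr_mul_kron, hφ, kr_zero, Matrix.mul_zero, Matrix.zero_mul,
          Matrix.zero_mul]
      rw [Matrix.mul_assoc g.1, h1, Matrix.mul_smul, Matrix.mul_smul, smul_eq_zero] at h3
      exact h3.resolve_left (neg_ne_zero.2 (mul_ne_zero H.gA.two qv))
    rw [e, Matrix.mul_add, kr_mul_kc_mul, kr_mul_kc_mul] at hrow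
    obtain ⟨d, hd⟩ : ∃ d, d = -(φ ⬝ᵥ r) / (φ ⬝ᵥ w) := ⟨_, rfl⟩
    have hX : X = d • Y := by
      rw [hd, neg_div, neg_smul, div_eq_inv_mul, mul_smul, ← smul_neg, ← eq_neg_of_add_eq_zero_left hrow, smul_smul,
        inv_mul_cancel₀ hφw, one_smul]
    rw [hX, Matrix.mul_smul, ← Matrix.smul_mul, ← kc_smul, ← Matrix.add_mul, ← kc_add, add_comm] at e
    exact fin g hg _ (hp.add d).qr (hp.add d).ne' Y e

end Hyp

end CfsgLib.Classical.TensorOrth
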